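import Groth.Agent.H29Ref.HomSections
import Groth.Agent.H11Tilde.Tensor
import Groth.Agent.H11Ample.Basic
import Groth.Agent.H17.InvertibleTensor

/-!
# Inverses of invertible modules
-/

set_option autoImplicit false
set_option linter.style.haveILetI false

universe u

open CategoryTheory AlgebraicGeometry Opposite TopologicalSpace
open Groth.Agent.H11Tilde Groth.Agent.H11Ample Groth.Agent.H29Ref

noncomputable section

namespace Groth.Agent.H11Sym

variable {X : Scheme.{u}}

theorem span_germ_of_isGen {L : X.Modules} {V : X.Opens} {g : Γ(L, V)} (hg : IsGen L g) (y : X) (hy : y ∈ V) :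
    Submodule.span (X.presheaf.stalk y) (Set.range fun _ : PUnit.{u+1} => L.presheaf.germ V y hy g) = ⊤ :=
  eq_top_iff.2 fun v _ => by
    obtain ⟨r, rfl⟩ := (hg y hy).2 v
    exact Submodule.smul_mem _ _ (Submodule.subset_span ⟨⟨⟩, rfl⟩)

theorem bijective_toLin_gen {L G : X.Modules} {V : X.Opens} {g : Γ(L, V)} (hg : IsGen L g) :
    Function.Bijective fun f : Γ(RefHull.homSh L G, V) => toLin f g := by
  refine ⟨fun f f' h => homSh_ext le_rfl (fun _ : PUnit.{u+1} => g) (span_germ_of_isGen hg) fun _ y => ?_, fun n => ?_⟩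
  · rw [← germ_toLin, ← germ_toLin]
    exact congrArg _ h
  · let θ : ∀ y : V, RefHull.StalkHom L G y.1 := fun y =>
      (LinearMap.toSpanSingleton _ _ (G.presheaf.germ V y.1 y.2 n)).comp
        (LinearEquiv.ofBijective (LinearMap.toSpanSingleton _ _ (L.presheaf.germ V y.1 y.2 g)) (hg y.1 y.2)).symm.toLinearMap
    have hθ : ∀ y : V, θ y (L.presheaf.germ V y.1 y.2 g) = G.presheaf.germ V y.1 y.2 n := fun y => by
      let e := LinearEquiv.ofBijective (LinearMap.toSpanSingleton _ _ (L.presheaf.germ V y.1 y.2 g)) (hg y.1 y.2)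
      have h1 : e.symm (L.presheaf.germ V y.1 y.2 g) = 1 :=
        e.symm_apply_eq.2 (one_smul (X.presheaf.stalk y.1) (L.presheaf.germ V y.1 y.2 g)).symm
      show e.symm (L.presheaf.germ V y.1 y.2 g) • G.presheaf.germ V y.1 y.2 n = _
      rw [h1]
      exact one_smul _ (G.presheaf.germ V y.1 y.2 n)
    refine ⟨⟨θ, isLocSect_of_generators le_rfl (fun _ : PUnit.{u+1} => g) (span_germ_of_isGen hg) θ (fun _ => n)
      fun _ y => hθ y⟩, sec_ext G fun y hy => ?_⟩
    exact (germ_toLin _ g ⟨y, hy⟩).trans (hθ ⟨y, hy⟩)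

/-- Evaluation of the dual. -/
def evalPairing (L : X.Modules) : Pairing (RefHull.dual L) L (Coh.structureModule X) where
  toFun U f m := toLin f m
  add_left U f f' m := LinearMap.congr_fun ((toLinₗ L (Coh.structureModule X) U).map_add f f') m
  smul_left U r f m := LinearMap.congr_fun ((toLinₗ L (Coh.structureModule X) U).map_smul r f) m
  add_right U f m m' := map_add (toLin f) m m'
  smul_right U r f m := map_smul (toLin f) r m
  res U V h f m := by
    refine sec_ext _ fun y hy => ?_
    rw [TopCat.Presheaf.germ_res_apply, germ_toLin f m ⟨y, h hy⟩, germ_toLin _ _ ⟨y, hy⟩,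
      TopCat.Presheaf.germ_res_apply]
    exact congr($(res_apply h f ⟨y, hy⟩) _).symm

/-- Every invertible module has an invertible inverse. -/
theorem exists_inverse {L : X.Modules} (hL : PicF.IsInvertible L) :
    ∃ L' : X.Modules, PicF.IsInvertible L' ∧ Nonempty (CohB1.tensorMod L' L ≅ Coh.structureModule X) := by
  obtain ⟨e⟩ := nonempty_tensorMod_iso (evalPairing L) fun x => by
    obtain ⟨V, g, hx, hg⟩ := exists_gen hL x
    exact ⟨V, hx, g, fun W hW => ⟨hg.bijective hW, bijective_toLin_gen (hg.res hW)⟩⟩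
  exact ⟨_, H17.InvertibleTensor.isInvertible_of_tensor_iso _ _ e, ⟨e⟩⟩

end Groth.Agent.H11Sym
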