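import Groth.Agent.H11Sym.VeryAmple
import Groth.Agent.H11Ample.RelAmple
import Groth.Agent.H11Ample.AmpleOn

/-!
# Pullbacks of `O(1)` along embeddings into projective bundles are relatively ample
-/

set_option autoImplicit false
set_option linter.style.haveILetI false

universe u

open CategoryTheory AlgebraicGeometry TopologicalSpace Opposite
open Groth.Agent.H11Proj Groth.Agent.H11Tilde Groth.Agent.H11Ample

noncomputable section

namespace Groth.Agent.H11Sym

theorem genAt_eq_gen {X : Scheme.{u}} {L : X.Modules} (g : Γ(L, ⊤)) : genAt L g = gen L g :=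
  le_antisymm (fun _ hy => mem_gen_of_isGen (isGen_genAt g) hy) (le_genAt g le_top (isGen_gen g))

theorem isQuasiAffine_of_isEmbedding {X A : Scheme.{u}} [IsAffine A] [CompactSpace X] (φ : X ⟶ A)
    (h : Topology.IsEmbedding φ.base) : X.IsQuasiAffine := by
  refine Scheme.IsQuasiAffine.of_forall_exists_mem_basicOpen X fun x => ?_
  obtain ⟨W, hW, hxW, -⟩ := exists_isAffineOpen_mem_and_subset (x := x) (U := (⊤ : X.Opens)) trivial
  obtain ⟨O, hO, hOW⟩ := h.isInducing.isOpen_iff.1 W.isOpen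
  obtain ⟨r, hr, hxr⟩ := (isAffineOpen_top A).exists_basicOpen_le (V := ⟨O, hO⟩)
    ⟨φ.base x, show x ∈ φ.base ⁻¹' O by rw [hOW]; exact hxW⟩ trivial
  refine ⟨φ.appTop r, ?_, ?_⟩
  · have hle : X.basicOpen (φ.appTop r) ≤ W := fun y hy => by
      rw [← Scheme.preimage_basicOpen_top] at hy
      exact hOW.le (hr hy)
    have e : X.basicOpen (φ.appTop r) = X.basicOpen (X.presheaf.map (homOfLE (le_top : W ≤ ⊤)).op (φ.appTop r)) := by
      rw [Scheme.basicOpen_res]
      exact (inf_eq_right.2 hle).symm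
    exact e ▸ hW.basicOpen _
  · rw [← Scheme.preimage_basicOpen_top]
    exact hxr

variable {X Y P : Scheme.{u}} {E : Y.Modules} {𝒯 : RelProj.QCGrAlg Y} {j : E ⟶ 𝒯.toModule} {p : P ⟶ Y}
  {chart : ∀ (U : Y.Opens) (hU : IsAffineOpen U), (((p ⁻¹ᵁ U : P.Opens) : Scheme.{u}) ≅ Proj (𝒯.deg U hU))}
  {O1 : P.Modules} {lam : ∀ (U : Y.Opens) (hU : IsAffineOpen U),
    O1 ⟶ (Scheme.Modules.pushforward (RelProj.emb p chart U hU)).obj (GrTwist.twist (𝒯.deg U hU) 1)}
  (hE : Coh.IsQCoh E) (hT : RelProj.IsGrSymAlg E 𝒯 j) (hP : RelProj.IsRelProj 𝒯 p chart)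
  (hL : RelProj.IsRelTwist 𝒯 p chart 1 O1 lam)

include hE hT in
theorem exists_mem_dOpen' {U : Y.Opens} (hU : IsAffineOpen U) (y : P) (hy : y ∈ p ⁻¹ᵁ U) :
    ∃ m : Γ(E, U), y ∈ dOpen (𝒯 := 𝒯) (j := j) (chart := chart) hU m := by
  obtain ⟨z, rfl⟩ := (opensRange_emb p chart U hU).ge hy
  obtain ⟨a, ha, hay⟩ := exists_degOne_notMem (𝒯.deg U hU) (isGenDegOne hE hT U hU) z
  obtain ⟨m, rfl⟩ := (mem_deg_one hE hT hU).1 ha
  exact ⟨m, z, hay, rfl⟩

include hE hT hP hL in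
/-- The pullback of `O(1)` along an embedding is relatively ample. -/
theorem isRelAmple_pullback_of_isEmbedding {f : X ⟶ Y} [QuasiCompact f] (g : X ⟶ P) (hg : g ≫ p = f)
    (hemb : Topology.IsEmbedding g.base) : RelAmple.IsRelAmple f ((Scheme.Modules.pullback g).obj O1) := by
  subst hg
  haveI := isSeparated_relProj hP
  haveI : QuasiCompact g := QuasiCompact.of_comp g p
  have hinv : PicF.IsInvertible O1 := isInvertible_twist_one hE hT hP hL
  refine isRelAmple_iff.2 ⟨inferInstance, fun V hV => ?_⟩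
  let U : X.Opens := (g ≫ p) ⁻¹ᵁ V
  have hUc : IsCompact (U : Set X) := (g ≫ p).isCompact_preimage hV.isCompact
  haveI : CompactSpace U.toScheme := isCompact_iff_compactSpace.1 hUc
  let M := (Scheme.Modules.pullback g).obj O1
  have hM : PicF.IsInvertible M := H11Ample.isInvertible_pullback g hinv
  let M' := (Scheme.Modules.pullback U.ι).obj M
  have hM' : PicF.IsInvertible M' := H11Ample.isInvertible_pullback U.ι hM
  refine isAmple_of_gen_isQuasiAffine hM' fun x => ?_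
  obtain ⟨m, hm⟩ := exists_mem_dOpen' hE hT (chart := chart) hV (g.base (U.ι.base x)) x.2
  have hT' : (⊤ : U.toScheme.Opens) ≤ U.ι ⁻¹ᵁ U := fun y _ => y.2
  let s : Γ(M', ⊤) := resS M' hT' (OmegaSh.pullSect U.ι M U (OmegaSh.pullSect g O1 _ (ks hT hL hV m)))
  have hs : gen M' s = U.ι ⁻¹ᵁ g ⁻¹ᵁ dOpen (𝒯 := 𝒯) (j := j) (chart := chart) hV m := by
    show gen M' (resS M' hT' (OmegaSh.pullSect U.ι M U (OmegaSh.pullSect g O1 _ (ks hT hL hV m)))) = _
    rw [← genAt_eq_gen, genAt_res, genAt_pullSect hM]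
    exact (inf_top_eq _).trans ((congrArg (U.ι ⁻¹ᵁ ·) (genAt_pullSect hinv _)).trans
      (congrArg (fun D => U.ι ⁻¹ᵁ g ⁻¹ᵁ D) (genAt_ks hE hT hL hV m)))
  refine ⟨1, spow s 1, Nat.one_pos, ?_, ?_⟩
  · rw [gen_spow hM' s 1 Nat.one_pos, hs]
    exact hm
  · rw [gen_spow hM' s 1 Nat.one_pos, hs]
    let D := dOpen (𝒯 := 𝒯) (j := j) (chart := chart) hV m
    let W : U.toScheme.Opens := U.ι ⁻¹ᵁ g ⁻¹ᵁ D
    have hD : IsAffineOpen D := isAffineOpen_dOpen hT hV m
    haveI : IsAffine D.toScheme := hD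
    have hc : IsCompact ((g ⁻¹ᵁ D : X.Opens) : Set X) := g.isCompact_preimage hD.isCompact
    have hDU : g ⁻¹ᵁ D ≤ U := g.preimage_mono (dOpen_le hV m)
    haveI : CompactSpace W.toScheme := by
      refine isCompact_iff_compactSpace.1 (U.ι.isOpenEmbedding.isInducing.isCompact_iff.2 ?_)
      convert hc using 1
      ext y
      exact ⟨by rintro ⟨z, hz, rfl⟩; exact hz, fun hy => ⟨⟨y, hDU hy⟩, hy, rfl⟩⟩
    let ψ : W.toScheme ⟶ P := W.ι ≫ U.ι ≫ g
    let φ : W.toScheme ⟶ D.toScheme := IsOpenImmersion.lift D.ι ψ (by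
      rintro _ ⟨y, rfl⟩
      rw [Scheme.Opens.range_ι]
      exact y.2)
    have hφ : φ ≫ D.ι = ψ := IsOpenImmersion.lift_fac _ _ _
    refine isQuasiAffine_of_isEmbedding φ ?_
    have hψ : Topology.IsEmbedding ψ.base :=
      hemb.comp (U.ι.isOpenEmbedding.isEmbedding.comp W.ι.isOpenEmbedding.isEmbedding)
    rw [← hφ] at hψ
    exact Topology.IsEmbedding.of_comp φ.continuous D.ι.continuous hψ

/-- A relatively very ample module is relatively ample. -/
theorem isRelAmple_of_isRelVeryAmple {q : X ⟶ Y} [QuasiCompact q] {L : X.Modules}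
    (h : RelProj.IsRelVeryAmple q L) : RelAmple.IsRelAmple q L := by
  obtain ⟨E, hE, 𝒯, j, hT, P, p, chart, hP, O1, lam, hL, r, hri, hr, ⟨e⟩⟩ := h
  have h' := isRelAmple_iff.1 (isRelAmple_pullback_of_isEmbedding hE hT hP hL r hr r.isEmbedding)
  exact isRelAmple_iff.2 ⟨h'.1, fun V hV => isAmple_of_iso
    ((Scheme.Modules.pullback (q ⁻¹ᵁ V).ι).mapIso e.symm) (h'.2 V hV)⟩

end Groth.Agent.H11Sym
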