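import Groth.Agent.H11Sym.Extend
import Groth.Agent.H11Tilde.QCohCrit
import Groth.Agent.H10Coh.FinType2
import Groth.Prelude.Def_RelProj
import Mathlib.Algebra.Category.ModuleCat.Presheaf.Submodule

/-!
# The graded pieces of a quasi-coherent graded algebra as quasi-coherent modules
-/

set_option autoImplicit false
set_option linter.style.haveILetI false

universe u

open CategoryTheory AlgebraicGeometry TopologicalSpace Opposite

noncomputable section

namespace Groth.Agent.H11Sym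

variable {S : Scheme.{u}} (𝒮 : RelProj.QCGrAlg S) (d : ℕ)

theorem decompose_res {U V : S.Opens} (hU : IsAffineOpen U) (hV : IsAffineOpen V) (i : V ≤ U)
    (x : 𝒮.presheaf.obj (op U)) (e : ℕ) :
    ares 𝒮.toQCAlg i (DirectSum.decompose (𝒮.deg U hU) x e : 𝒮.presheaf.obj (op U)) =
      DirectSum.decompose (𝒮.deg V hV) (ares 𝒮.toQCAlg i x) e :=
  (𝒮.res hU hV i).map_directSumDecompose

/-- The sections lying in degree `d` over every affine open. -/
def degSub : PresheafOfModules.Submodule 𝒮.toModule.val where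
  obj W :=
    letI := 𝒮.toQCAlg.moduleSect W
    { carrier := {σ | ∀ (V : S.Opens) (hV : IsAffineOpen V) (i : V ≤ W.unop),
        ares 𝒮.toQCAlg i σ ∈ 𝒮.deg V hV d}
      add_mem' := fun {a b} ha hb V hV i => by
        change ares 𝒮.toQCAlg i ((show 𝒮.presheaf.obj W from a) + (show 𝒮.presheaf.obj W from b)) ∈ _
        rw [map_add]; exact add_mem (ha V hV i) (hb V hV i)
      zero_mem' := fun V hV i => by
        change ares 𝒮.toQCAlg i 0 ∈ _
        rw [map_zero]; exact zero_mem _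
      smul_mem' := fun r a ha V hV i => by
        change ares 𝒮.toQCAlg i (astr 𝒮.toQCAlg W.unop r * (show 𝒮.presheaf.obj (op W.unop) from a)) ∈ _
        rw [map_mul, ares_str]
        have h := SetLike.mul_mem_graded (𝒮.str_mem V hV (S.presheaf.map (homOfLE i).op r)) (ha V hV i)
        rwa [zero_add] at h }
  map {X Y} f := fun σ hσ V hV i => by
    have h := hσ V hV (i.trans f.unop.le)
    rw [← ares_ares 𝒮.toQCAlg f.unop.le i] at h
    exact h

/-- Degree `d` as a module. -/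
def degModule : S.Modules where
  val := (degSub 𝒮 d).toPresheafOfModules
  isSheaf := by
    refine (TopCat.Presheaf.isSheaf_iff_isSheafUniqueGluing _).2 fun ι W sf hsf => ?_
    have hT := (TopCat.Presheaf.isSheaf_iff_isSheafUniqueGluing 𝒮.presheaf).1 𝒮.isSheaf
    obtain ⟨σ, hσ, huniq⟩ := hT W (fun i => (sf i).1) fun i j => congrArg Subtype.val (hsf i j)
    have hmem : ∀ (V : S.Opens) (hV : IsAffineOpen V) (i : V ≤ iSup W),
        ares 𝒮.toQCAlg i σ ∈ 𝒮.deg V hV d := by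
      intro V hV i
      classical
      rw [← DirectSum.sum_support_decompose (𝒮.deg V hV) (ares 𝒮.toQCAlg i σ)]
      refine sum_mem fun e _ => ?_
      rcases eq_or_ne e d with rfl | he
      · exact SetLike.coe_mem _
      refine (?_ : (DirectSum.decompose (𝒮.deg V hV) (ares 𝒮.toQCAlg i σ) e : 𝒮.presheaf.obj (op V)) = 0) ▸
        zero_mem _
      have hloc : ∀ s : V, ∃ g : Γ(S, V), s.1 ∈ S.basicOpen g ∧ ∃ k, S.basicOpen g ≤ W k := fun s => by
        obtain ⟨k, hk⟩ := Opens.mem_iSup.1 (i s.2)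
        obtain ⟨g, hg, hsg⟩ := hV.exists_basicOpen_le (V := W k) ⟨s.1, hk⟩ s.2
        exact ⟨g, hsg, k, hg⟩
      choose g hsg k hk using hloc
      refine TopCat.Sheaf.eq_of_locally_eq' (⟨𝒮.presheaf, 𝒮.isSheaf⟩ : TopCat.Sheaf CommRingCat.{u} S.carrier)
        (fun s => S.basicOpen (g s)) V (fun s => homOfLE (S.basicOpen_le _))
        (fun s hs => Opens.mem_iSup.2 ⟨⟨s, hs⟩, hsg _⟩) _ _ fun s => ?_
      change ares 𝒮.toQCAlg (S.basicOpen_le (g s)) _ = ares 𝒮.toQCAlg (S.basicOpen_le (g s)) 0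
      rw [map_zero, decompose_res 𝒮 hV (hV.basicOpen (g s)), ares_ares,
        ← ares_ares 𝒮.toQCAlg (le_iSup W (k s)) (hk s),
        show ares 𝒮.toQCAlg (le_iSup W (k s)) σ = (sf (k s)).1 from hσ (k s)]
      exact DirectSum.decompose_of_mem_ne _ ((sf (k s)).2 _ (hV.basicOpen _) (hk s)) he.symm
    exact ⟨⟨σ, hmem⟩, fun i => Subtype.ext (hσ i), fun τ hτ =>
      Subtype.ext (huniq τ.1 fun i => congrArg Subtype.val (hτ i))⟩

/-- The inclusion of degree `d`. -/
def degIncl : degModule 𝒮 d ⟶ 𝒮.toModule := ⟨(degSub 𝒮 d).ι⟩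

theorem degIncl_mem {U : S.Opens} (hU : IsAffineOpen U) (x : Γ(degModule 𝒮 d, U)) :
    japp (degIncl 𝒮 d) U x ∈ 𝒮.deg U hU d := by
  have h := x.2 U hU le_rfl
  rwa [ares_self] at h

theorem exists_degIncl_eq {U : S.Opens} (hU : IsAffineOpen U) {a : 𝒮.presheaf.obj (op U)}
    (ha : a ∈ 𝒮.deg U hU d) : ∃ x : Γ(degModule 𝒮 d, U), japp (degIncl 𝒮 d) U x = a :=
  ⟨⟨a, fun V hV i => 𝒮.map_mem hU hV i ha⟩, rfl⟩

theorem degIncl_injective (U : S.Opens) : Function.Injective (japp (degIncl 𝒮 d) U) :=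
  fun _ _ h => Subtype.ext h

theorem isQCoh_degModule : Coh.IsQCoh (degModule 𝒮 d) := by
  refine H11Tilde.isQuasicoherent_of_basicOpen_localization _ (fun U : S.affineOpens => U.1)
    (iSup_affineOpens_eq_top S) (fun U => U.2) (fun ⟨U, hU⟩ r s hs => ?_) fun ⟨U, hU⟩ r s' => ?_
  · letI := (ares 𝒮.toQCAlg (S.basicOpen_le r)).toAlgebra
    haveI : IsLocalization.Away (astr 𝒮.toQCAlg U r) (𝒮.presheaf.obj (op (S.basicOpen r))) := 𝒮.isQC U hU r
    have h0 : algebraMap _ (𝒮.presheaf.obj (op (S.basicOpen r))) (japp (degIncl 𝒮 d) U s) = 0 :=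
      ((japp_res (degIncl 𝒮 d) _ s).symm.trans ((congrArg (japp (degIncl 𝒮 d) _) hs).trans
        (map_zero ((degIncl 𝒮 d).app _).hom)))
    obtain ⟨⟨_, n, rfl⟩, hn⟩ := (IsLocalization.map_eq_zero_iff (Submonoid.powers (astr 𝒮.toQCAlg U r)) _ _).1 h0
    refine ⟨n, degIncl_injective 𝒮 d U ?_⟩
    rw [japp_smul, map_pow]
    exact hn.trans (map_zero ((degIncl 𝒮 d).app _).hom).symm
  · letI := (ares 𝒮.toQCAlg (S.basicOpen_le r)).toAlgebra
    haveI : IsLocalization.Away (astr 𝒮.toQCAlg U r) (𝒮.presheaf.obj (op (S.basicOpen r))) := 𝒮.isQC U hU r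
    obtain ⟨⟨x, ⟨_, n, rfl⟩⟩, hx⟩ :=
      IsLocalization.surj (Submonoid.powers (astr 𝒮.toQCAlg U r)) (japp (degIncl 𝒮 d) _ s')
    obtain ⟨y, hy⟩ := exists_degIncl_eq 𝒮 d hU (DirectSum.decompose (𝒮.deg U hU) x d).2
    have hm : astr 𝒮.toQCAlg (S.basicOpen r) (S.presheaf.map (homOfLE (S.basicOpen_le r)).op (r ^ n)) *
        japp (degIncl 𝒮 d) _ s' ∈ 𝒮.deg (S.basicOpen r) (hU.basicOpen r) d := by
      have h := SetLike.mul_mem_graded (𝒮.str_mem _ (hU.basicOpen r)
        (S.presheaf.map (homOfLE (S.basicOpen_le r)).op (r ^ n))) (degIncl_mem 𝒮 d (hU.basicOpen r) s')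
      rwa [zero_add] at h
    refine ⟨n, y, degIncl_injective 𝒮 d _ ?_⟩
    rw [japp_res, hy, decompose_res 𝒮 hU (hU.basicOpen r), japp_smul]
    have hx' : ares 𝒮.toQCAlg (S.basicOpen_le r) x =
        astr 𝒮.toQCAlg (S.basicOpen r) (S.presheaf.map (homOfLE (S.basicOpen_le r)).op (r ^ n)) *
          japp (degIncl 𝒮 d) _ s' := by
      rw [← ares_str, map_pow]
      exact hx.symm.trans (mul_comm _ _)
    rw [hx']
    exact DirectSum.decompose_of_mem_same _ hm

theorem isFT_degModule (h : 𝒮.IsFTDeg d) : CohB1.IsFT (degModule 𝒮 d) := by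
  refine ((H10Coh.isCoh_iff_finite_sections (degModule 𝒮 d)).2 ⟨isQCoh_degModule 𝒮 d, fun U hU => ?_⟩).2
  obtain ⟨T, hT, hspan⟩ := h U hU
  classical
  choose g hg using fun t : T => exists_degIncl_eq 𝒮 d hU (hT t.2)
  refine ⟨⟨Finset.univ.image g, eq_top_iff.2 fun x _ => ?_⟩⟩
  obtain ⟨c, hc⟩ := hspan _ (degIncl_mem 𝒮 d hU x)
  have hxe : x = ∑ t : T, c t.1 • g t := by
    refine degIncl_injective 𝒮 d U (hc.trans ?_)
    change _ = ((degIncl 𝒮 d).app U).hom _
    rw [map_sum, ← Finset.sum_coe_sort]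
    refine Finset.sum_congr rfl fun t _ => ?_
    change _ = japp (degIncl 𝒮 d) U _
    rw [japp_smul, hg]
  rw [hxe]
  exact sum_mem fun t _ => Submodule.smul_mem _ _ (Submodule.subset_span (by simp))

end Groth.Agent.H11Sym
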