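import Groth.Agent.H11Sym.SymSheaf
import Groth.Agent.H11Sym.DegPiece
import Groth.Agent.H11Proj.ProjMapSurj
import Groth.Agent.H11Proj.RelProjMap
import Groth.Agent.H11Proj.RelProjExists
import Groth.Agent.H11Proj.Graded

/-!
# Projective bundles: graded maps out of symmetric algebras, closed immersions of relative Proj's into them
-/

set_option autoImplicit false
set_option linter.style.haveILetI false

universe u

open CategoryTheory AlgebraicGeometry TopologicalSpace Opposite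
open scoped HomogeneousIdeal

noncomputable section

namespace Groth.Agent.H11Sym

section alg

variable {R M A : Type*} [CommRing R] [AddCommGroup M] [Module R M] [CommRing A] [Algebra R A]
variable {j : M →ₗ[R] A} (hj : IsSymmetricAlgebra j)

theorem map_mem_of_one {B : Type*} [CommRing B] (ℬ : ℕ → AddSubgroup B) [GradedRing ℬ] (ψ : A →+* B)
    (h0 : ∀ r, ψ (algebraMap R A r) ∈ ℬ 0) (h1 : ∀ m, ψ (j m) ∈ ℬ 1) {d : ℕ} {a : A}
    (ha : a ∈ piece hj d) : ψ a ∈ ℬ d := by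
  classical
  have hle : ∀ (a : A) (e : ℕ), ψ ((gradeHom hj a).coeff e) ∈ ℬ e := by
    intro a
    induction a using hj.induction with
    | algebraMap r =>
      intro e
      rw [AlgHom.commutes, Polynomial.algebraMap_apply, Polynomial.coeff_C]
      split_ifs with h
      · exact h ▸ h0 r
      · rw [map_zero]; exact zero_mem _
    | ι m =>
      intro e
      rw [gradeHom_apply, Polynomial.C_mul_X_eq_monomial, Polynomial.coeff_monomial]
      split_ifs with h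
      · exact h ▸ h1 m
      · rw [map_zero]; exact zero_mem _
    | mul a b ha hb =>
      intro e
      rw [map_mul, Polynomial.coeff_mul, map_sum]
      refine sum_mem fun p hp => ?_
      rw [← Finset.HasAntidiagonal.mem_antidiagonal.1 hp, map_mul]
      exact SetLike.mul_mem_graded (ha p.1) (hb p.2)
    | add a b ha hb =>
      intro e
      rw [map_add, Polynomial.coeff_add, map_add]
      exact add_mem (ha e) (hb e)
  have := hle a d
  rwa [(mem_piece hj).1 ha, Polynomial.coeff_monomial, if_pos rfl] at this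

end alg

variable {S : Scheme.{u}} {E : S.Modules} {𝒯 𝒮 : RelProj.QCGrAlg S} {j : E ⟶ 𝒯.toModule}

theorem isGradedHom_of_one (hE : Coh.IsQCoh E) (hT : RelProj.IsGrSymAlg E 𝒯 j)
    (ψ : 𝒯.toQCAlg ⟶ 𝒮.toQCAlg)
    (h1 : ∀ (U : S.Opens) (hU : IsAffineOpen U) (x : Γ(E, U)),
      (ψ.hom.app (op U)).hom (japp j U x) ∈ 𝒮.deg U hU 1) : RelProj.IsGradedHom ψ := by
  intro U hU d x hx
  letI := algOn 𝒯.toQCAlg U
  rw [deg_eq_piece hE hT] at hx
  refine map_mem_of_one (hT.1.isAffSym hE U hU) (𝒮.deg U hU) (ψ.hom.app (op U)).hom (fun r => ?_) (h1 U hU) hx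
  rw [show (ψ.hom.app (op U)).hom (algebraMap Γ(S, U) (𝒯.presheaf.obj (op U)) r) = astr 𝒮.toQCAlg U r from
    ConcreteCategory.congr_hom (NatTrans.congr_app ψ.comm (op U)) r]
  exact 𝒮.str_mem U hU r

theorem irrelevant_le_map_of_surjOn (φ : 𝒯.toQCAlg ⟶ 𝒮.toQCAlg) (hφ : RelProj.IsGradedHom φ)
    {U : S.Opens} (hU : IsAffineOpen U)
    (h : ∀ n, 1 ≤ n → Set.SurjOn (RelProj.gradedHomAt φ hφ U hU) (𝒯.deg U hU n) (𝒮.deg U hU n)) :
    (𝒮.deg U hU)₊ ≤ ((𝒯.deg U hU)₊).map (RelProj.gradedHomAt φ hφ U hU) := by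
  change (HomogeneousIdeal.irrelevant _).toIdeal ≤ HomogeneousIdeal.toIdeal _
  rw [HomogeneousIdeal.toIdeal_irrelevant_le]
  intro n hn b hb
  obtain ⟨a, ha, rfl⟩ := h n hn hb
  exact Ideal.mem_map_of_mem _ (HomogeneousIdeal.mem_irrelevant_of_mem _ hn ha)

/-- A graded algebra generated in degree one by the image of `u` gives a closed immersion into `P(E)`. -/
theorem exists_isClosedImmersion_relProj (hE : Coh.IsQCoh E) (hT : RelProj.IsGrSymAlg E 𝒯 j)
    (hgen : 𝒮.IsGenDegOne) (u : E ⟶ 𝒮.toModule)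
    (hu₁ : ∀ (U : S.Opens) (hU : IsAffineOpen U) (x : Γ(E, U)), japp u U x ∈ 𝒮.deg U hU 1)
    (hu₂ : ∀ (U : S.Opens) (hU : IsAffineOpen U), ∀ a ∈ 𝒮.deg U hU 1, ∃ x : Γ(E, U), japp u U x = a)
    {PT PS : Scheme.{u}} {pT : PT ⟶ S} {pS : PS ⟶ S}
    {chartT : ∀ (U : S.Opens) (hU : IsAffineOpen U), ((pT ⁻¹ᵁ U : PT.Opens) : Scheme.{u}) ≅ Proj (𝒯.deg U hU)}
    {chartS : ∀ (U : S.Opens) (hU : IsAffineOpen U), ((pS ⁻¹ᵁ U : PS.Opens) : Scheme.{u}) ≅ Proj (𝒮.deg U hU)}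
    (hPT : RelProj.IsRelProj 𝒯 pT chartT) (hPS : RelProj.IsRelProj 𝒮 pS chartS) :
    ∃ (ψ : 𝒯.toQCAlg ⟶ 𝒮.toQCAlg) (hψ : RelProj.IsGradedHom ψ)
      (hirr : ∀ (U : S.Opens) (hU : IsAffineOpen U),
        (𝒮.deg U hU)₊ ≤ ((𝒯.deg U hU)₊).map (RelProj.gradedHomAt ψ hψ U hU))
      (h : PS ⟶ PT), RelProj.IsRelProjMap ψ hψ hirr chartT chartS h ∧ IsClosedImmersion h ∧ h ≫ pT = pS ∧
        ∀ (U : S.Opens) (x : Γ(E, U)), (ψ.hom.app (op U)).hom (japp j U x) = japp u U x := by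
  obtain ⟨ψ, hψu, -⟩ := hT.1 𝒮.toQCAlg u
  have hju : ∀ (U : S.Opens) (x : Γ(E, U)), (ψ.hom.app (op U)).hom (japp j U x) = japp u U x := fun U x =>
    congrArg (fun q : E ⟶ 𝒮.toModule => japp q U x) hψu
  have hψ := isGradedHom_of_one hE hT ψ fun U hU x => by rw [hju]; exact hu₁ U hU x
  have hsurj : ∀ (U : S.Opens) (hU : IsAffineOpen U) (n : ℕ), 1 ≤ n →
      Set.SurjOn (RelProj.gradedHomAt ψ hψ U hU) (𝒯.deg U hU n) (𝒮.deg U hU n) := fun U hU =>
    H11Proj.surjOn_of_degOne _ (hgen U hU) fun a ha => by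
      obtain ⟨x, rfl⟩ := hu₂ U hU a ha
      exact ⟨japp j U x, hT.2 U hU x, hju U x⟩
  have hirr := fun (U : S.Opens) (hU : IsAffineOpen U) => irrelevant_le_map_of_surjOn ψ hψ hU (hsurj U hU)
  obtain ⟨h, hh, -⟩ := H11Proj.existsUnique_relProjMap (hirr := hirr) hPT hPS
  exact ⟨ψ, hψ, hirr, h, hh,
    H11Proj.relProjMap_of_charts hPT hPS hh fun U hU => H11Proj.isClosedImmersion_map_of_surjOn _ _ (hsurj U hU),
    H11Proj.relProjMap_over hPT hPS hh, hju⟩

theorem isFTDeg_one (hE : Coh.IsQCoh E) (hft : CohB1.IsFT E) (hT : RelProj.IsGrSymAlg E 𝒯 j) :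
    𝒯.IsFTDeg 1 := fun U hU => by
  haveI : E.IsQuasicoherent := hE
  haveI := H10Coh.finite_sections E hft hU
  classical
  obtain ⟨s, hs⟩ := (Module.Finite.fg_top : (⊤ : Submodule Γ(S, U) Γ(E, U)).FG)
  refine ⟨s.image (japp j U), fun a ha => ?_, fun a ha => ?_⟩
  · obtain ⟨x, -, rfl⟩ := Finset.mem_image.1 ha
    exact hT.2 U hU x
  · obtain ⟨x, rfl⟩ := (mem_deg_one hE hT hU).1 ha
    letI := algOn 𝒯.toQCAlg U
    have hx : jlin j U x ∈ Submodule.span Γ(S, U) (s.image (jlin j U) : Set (𝒯.presheaf.obj (op U))) := by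
      rw [Finset.coe_image, Submodule.span_image, hs]
      exact ⟨x, Submodule.mem_top, rfl⟩
    obtain ⟨c, -, hc⟩ := Submodule.mem_span_finset.1 hx
    exact ⟨c, hc.symm⟩

end Groth.Agent.H11Sym
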