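import Groth.Agent.H11Sym.VeryAmpleOps
import Groth.Agent.H11Proj.VeryAmpleOn
import Groth.Agent.H10Coh.QcqsPush
import Groth.Agent.H28Mero.Gen
import Groth.Agent.H11Proj.RelProjGlue

/-!
# Relative very ampleness is local on the base
-/

set_option autoImplicit false
set_option linter.style.haveILetI false

universe u

open CategoryTheory CategoryTheory.Limits AlgebraicGeometry TopologicalSpace Opposite
open Groth.Agent.H11Proj Groth.Agent.H11Tilde Groth.Agent.H11Ample

noncomputable section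

namespace Groth.Agent.H11Sym

variable {X Y : Scheme.{u}} {q : X ⟶ Y} {L : X.Modules}

theorem image_genAt_restrict (U : X.Opens) {W : U.toScheme.Opens} (s : Γ(L.restrict U.ι, W)) :
    U.ι ''ᵁ genAt (L.restrict U.ι) s = genAt L (toImg U L s) := by
  refine le_antisymm (le_genAt _ (Scheme.Hom.image_mono U.ι (genAt_le s)) ?_) ?_
  · exact (congrArg (IsGen L) (toImg_res U L (genAt_le s) s)).mp (isGen_toImg U (isGen_genAt s))
  · have hr : genAt L (toImg U L s) ≤ U := (genAt_le _).trans (U.ι_image_le W)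
    have e : U.ι ''ᵁ (U.ι ⁻¹ᵁ genAt L (toImg U L s)) = genAt L (toImg U L s) := by
      rw [Scheme.Hom.image_preimage_eq_opensRange_inf, Scheme.Opens.opensRange_ι, inf_eq_right.2 hr]
    rw [← e]
    have hW : U.ι ⁻¹ᵁ genAt L (toImg U L s) ≤ W := by
      have h := U.ι.preimage_mono (genAt_le (toImg U L s))
      rwa [Scheme.Hom.preimage_image_eq] at h
    refine Scheme.Hom.image_mono U.ι (le_genAt s hW ?_)
    have h := isGen_restrict U (isGen_genAt (toImg U L s)) e.le
    exact (congrArg (IsGen (L.restrict U.ι)) (resS_resS L e.le (genAt_le _) (toImg U L s))).mp h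

/-- A standard open for the restriction over an open of the base gives one for the full direct image. -/
theorem EmbPt.nonempty_of_restrict {D : Y.Opens} {E' : D.toScheme.Modules}
    {u' : E' ⟶ (Scheme.Modules.pushforward (q ∣_ D)).obj (L.restrict (q ⁻¹ᵁ D).ι)} {x : (q ⁻¹ᵁ D).toScheme}
    (a : EmbPt u' x) : Nonempty (EmbPt (𝟙 ((Scheme.Modules.pushforward q).obj L)) ((q ⁻¹ᵁ D).ι.base x)) := by
  let U : X.Opens := q ⁻¹ᵁ D
  let u := 𝟙 ((Scheme.Modules.pushforward q).obj L)
  have hU₀ : IsAffineOpen (D.ι ''ᵁ a.U) := a.hU.image_of_isOpenImmersion _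
  have e : U.ι ''ᵁ ((q ∣_ D) ⁻¹ᵁ a.U) = q ⁻¹ᵁ (D.ι ''ᵁ a.U) := image_morphismRestrict_preimage q D a.U
  let m : Γ((Scheme.Modules.pushforward q).obj L, D.ι ''ᵁ a.U) := resS L e.ge (toImg U L (uSec u' a.m))
  let g := gMax u hU₀ m
  let g' := gMax u' a.hU a.m
  have hV : U.ι ''ᵁ g'.V = g.V := by
    show U.ι ''ᵁ genAt _ (uSec u' a.m) = genAt L (resS L e.ge (toImg U L (uSec u' a.m)))
    rw [image_genAt_restrict, genAt_res, inf_eq_left.2 ((genAt_le _).trans e.le)]
  let φ : Γ(U.toScheme, g'.V) →+* Γ(X, g.V) := resF hV.ge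
  have hφ : ∀ c ∈ g'.ratioRing, φ c ∈ g.ratioRing := fun c hc =>
    (Subring.closure_le (t := g.ratioRing.comap φ)).2 (by
      rintro d (⟨r, rfl⟩ | ⟨n, hn⟩)
      · have k : φ ((q ∣_ D).appLE a.U g'.V g'.le r) = q.appLE (D.ι ''ᵁ a.U) g.V g.le r := by
          rw [morphismRestrict_appLE]
          exact congr($(Scheme.Hom.appLE_map q _ _) r)
        exact Subring.mem_comap.2 ((congrArg (· ∈ g.ratioRing) k).mpr (g.base_mem_ratioRing _))
      · refine g.mem_ratioRing (resS L e.ge (toImg U L (uSec u' n))) ?_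
        have h := congrArg (fun t => resS L hV.ge (toImg U L t)) hn
        simp only [toImg_smul', resS, toImg_res, H10Coh.mres_mres] at h
        rw [Scheme.Modules.map_smul, H10Coh.mres_mres] at h
        show φ d • resS L g.le (resS L e.ge (toImg U L (uSec u' a.m))) =
          resS L g.le (resS L e.ge (toImg U L (uSec u' n)))
        rw [resS_resS, resS_resS]
        exact h) hc
  have hbas : X.basicOpen (φ a.t) = U.ι ''ᵁ U.toScheme.basicOpen a.t := by
    show X.basicOpen (resF hV.ge _) = _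
    rw [Scheme.basicOpen_res]
    refine Eq.trans ?_ (Scheme.image_basicOpen U.ι a.t).symm
    rw [Scheme.Opens.ι_appIso]
    exact inf_eq_right.2 ((X.basicOpen_le _).trans hV.le)
  refine ⟨⟨D.ι ''ᵁ a.U, hU₀, m, φ a.t, hφ _ a.ht, hbas.ge ⟨x, a.mem, rfl⟩,
    hbas ▸ a.aff.image_of_isOpenImmersion _, fun z => ?_⟩⟩
  obtain ⟨N, α, hα, h⟩ := a.surj (resF hbas.ge z)
  refine ⟨N, φ α, hφ _ hα, ?_⟩
  have k : ∀ c : Γ(U.toScheme, g'.V), resF (X.basicOpen_le (φ a.t)) (φ c) =
      resF hbas.le (resF (U.toScheme.basicOpen_le a.t) c) := fun c => by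
    rw [show φ c = resF hV.ge c from rfl, resF_resF]
    refine Eq.trans ?_ (resF_resF hbas.le (Scheme.Hom.image_mono U.ι (U.toScheme.basicOpen_le a.t)) c).symm
    rfl
  let T : Γ(X, U.ι ''ᵁ U.toScheme.basicOpen a.t) := resF (U.toScheme.basicOpen_le a.t) a.t
  let A : Γ(X, U.ι ''ᵁ U.toScheme.basicOpen a.t) := resF (U.toScheme.basicOpen_le a.t) α
  have h2 : resF hbas.ge z * T ^ N = A := h
  have h' := congrArg (resF hbas.le) h2
  rw [map_mul, map_pow, resF_resF, resF_self, show resF hbas.le T = _ from (k a.t).symm,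
    show resF hbas.le A = _ from (k α).symm] at h'
  exact h'

theorem isSeparated_of_isRelVeryAmple (h : RelProj.IsRelVeryAmple q L) : IsSeparated q := by
  obtain ⟨E, hE, 𝒯, j, hT, P, p, chart, hP, O1, lam, hL, r, hri, hr, -⟩ := h
  haveI := isSeparated_relProj hP
  subst hr
  infer_instance

/-- Very ampleness is local on the base. -/
theorem isRelVeryAmple_of_cover [QuasiCompact q] (hL : PicF.IsInvertible L) {ι : Type u} (U : ι → Y.Opens)
    (hU : ⨆ i, U i = ⊤) (h : ∀ i, RelProj.IsRelVeryAmple (q ∣_ (U i)) (L.restrict (q ⁻¹ᵁ (U i)).ι)) :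
    RelProj.IsRelVeryAmple q L := by
  haveI : IsSeparated q := IsZariskiLocalAtTarget.of_iSup_eq_top U hU fun i => isSeparated_of_isRelVeryAmple (h i)
  haveI : L.IsQuasicoherent := H28Mero.isQCoh_of_isInvertible hL
  refine isRelVeryAmple_iff.2 ⟨_, H10Coh.isQuasicoherent_pushforward q L, 𝟙 _, fun x => ?_⟩
  obtain ⟨i, hi⟩ := Opens.mem_iSup.1 (hU.ge (Opens.mem_top (q.base x)))
  obtain ⟨E, hE, u, hu⟩ := isRelVeryAmple_iff.1 (h i)
  obtain ⟨a⟩ := hu ⟨x, hi⟩
  exact EmbPt.nonempty_of_restrict a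

end Groth.Agent.H11Sym
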