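import Groth.Agent.H11Sym.VeryAmple
import Groth.Agent.H06Mod.StalkPullback

/-!
# Spanning and epimorphisms from inverse images
-/

set_option autoImplicit false
set_option linter.style.haveILetI false

universe u

open CategoryTheory AlgebraicGeometry TopologicalSpace Opposite
open Groth.Agent.H11Proj Groth.Agent.H11Tilde Groth.Agent.H11Ample

noncomputable section

namespace Groth.Agent.H11Sym

variable {X Y : Scheme.{u}} {q : X ⟶ Y} {L : X.Modules} {E : Y.Modules}

theorem GenPt.exists_coef {u : E ⟶ (Scheme.Modules.pushforward q).obj L} (g : GenPt u) {W : X.Opens} (i : W ≤ g.V)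
    (s : Γ(L, W)) : ∃ c : Γ(X, W), c • resS L (i.trans g.le) (uSec u g.m) = s := by
  obtain ⟨c, hc⟩ := (g.gen.bijective i).2 s
  beta_reduce at hc
  rw [resS, H10Coh.mres_mres] at hc
  exact ⟨c, hc⟩

/-- A spanning module of sections gives an epimorphism from its inverse image. -/
theorem epi_homEquiv_symm_of_spans {u : E ⟶ (Scheme.Modules.pushforward q).obj L} (hu : Spans u) :
    Epi (((Scheme.Modules.pullbackPushforwardAdjunction q).homEquiv E L).symm u) := by
  refine ⟨fun {N} ψ₁ ψ₂ h => ?_⟩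
  have hu' : u ≫ (Scheme.Modules.pushforward q).map ψ₁ = u ≫ (Scheme.Modules.pushforward q).map ψ₂ := by
    apply ((Scheme.Modules.pullbackPushforwardAdjunction q).homEquiv E N).symm.injective
    rw [Adjunction.homEquiv_naturality_right_symm, Adjunction.homEquiv_naturality_right_symm]
    exact h
  refine Scheme.Modules.hom_ext _ _ fun W => ?_
  ext s
  refine eq_of_locally _ _ fun x hx => ?_
  obtain ⟨g, hg⟩ := hu x
  obtain ⟨c, hc⟩ := g.exists_coef (W := W ⊓ g.V) inf_le_right (resS L inf_le_left s)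
  refine ⟨W ⊓ g.V, inf_le_left, ⟨hx, hg⟩, ?_⟩
  refine (app_map_apply ψ₁ _ s).symm.trans (Eq.trans ?_ (app_map_apply ψ₂ _ s))
  rw [show L.presheaf.map (homOfLE (inf_le_left : W ⊓ g.V ≤ W)).op s = _ from hc.symm, Scheme.Modules.Hom.app_smul,
    Scheme.Modules.Hom.app_smul]
  refine congrArg (c • ·) ?_
  refine (app_map_apply ψ₁ _ _).trans (Eq.trans ?_ (app_map_apply ψ₂ _ _).symm)
  refine congrArg (resS N _) ?_
  exact congr($(congrArg (fun k => Scheme.Modules.Hom.app k g.U) hu') g.m)

/-- If the inverse image surjects onto an invertible module, the sections span. -/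
theorem spans_of_epi (hL : PicF.IsInvertible L) (u : E ⟶ (Scheme.Modules.pushforward q).obj L)
    (h : Epi (((Scheme.Modules.pullbackPushforwardAdjunction q).homEquiv E L).symm u)) : Spans u := by
  intro x
  obtain ⟨V, e, hxV, he⟩ := exists_gen hL x
  by_contra hne
  push Not at hne
  let O := X.presheaf.stalk x
  let P : Submodule O (L.presheaf.stalk x) := (IsLocalRing.maximalIdeal O) • ⊤
  let ψ : L ⟶ H06Mod.sky x (L.presheaf.stalk x ⧸ P) := H06Mod.homOfStalk P.mkQ
  have hP : ∀ (U : Y.Opens) (m : Γ(E, U)) (hxU : x ∈ q ⁻¹ᵁ U),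
      L.presheaf.germ (q ⁻¹ᵁ U) x hxU (uSec u m) ∈ P := by
    intro U m hxU
    obtain ⟨A, hA, hxA, hAU⟩ := exists_isAffineOpen_mem_and_subset (U := U) (x := q.base x) hxU
    let mA := E.presheaf.map (homOfLE (fun _ h => hAU h : A ≤ U)).op m
    let W := V ⊓ q ⁻¹ᵁ A
    have hxW : x ∈ W := ⟨hxV, hxA⟩
    obtain ⟨c, hc⟩ := exists_coeff (he.res (inf_le_left : W ≤ V)) (resS L (inf_le_right : W ≤ q ⁻¹ᵁ A) (uSec u mA))
    have hnu : ¬ IsUnit (X.presheaf.germ W x hxW c) := fun hcu => by
      have hxb : x ∈ X.basicOpen c := (X.mem_basicOpen c x hxW).2 hcu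
      have hgen : IsGen L (resS L ((X.basicOpen_le c).trans (inf_le_right : W ≤ q ⁻¹ᵁ A)) (uSec u mA)) := by
        refine isGen_of_bijective fun W' hW' => ?_
        have hb := ((he.res (inf_le_left : W ≤ V)).bijective (hW'.trans (X.basicOpen_le c)))
        have hcu' : IsUnit (X.presheaf.map (homOfLE (hW'.trans (X.basicOpen_le c))).op c) := by
          have := RingedSpace.isUnit_res_basicOpen X.toRingedSpace c
          have h2 : IsUnit (resF hW' (resF (X.basicOpen_le c) c)) := this.map (resF hW')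
          rwa [resF_resF] at h2
        have e1 := congrArg (resS L (hW'.trans (X.basicOpen_le c))) hc
        rw [resS_smul, resS_resS] at e1
        simp only [resS, H10Coh.mres_mres] at e1 hb ⊢
        rw [e1]
        refine Eq.mpr (congrArg Function.Bijective (funext fun r => ?_))
          (hb.comp (IsUnit.isUnit_iff_mulRight_bijective.1 hcu'))
        exact smul_smul _ _ _
      exact hne ⟨A, hA, mA, X.basicOpen c, _, hgen⟩ hxb
    have e1 : L.presheaf.germ (q ⁻¹ᵁ U) x hxU (uSec u m) = L.presheaf.germ W x hxW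
        (resS L (inf_le_right : W ≤ q ⁻¹ᵁ A) (uSec u mA)) := by
      rw [TopCat.Presheaf.germ_res_apply, uSec_res, TopCat.Presheaf.germ_res_apply]
    rw [e1, hc, H06Mod.germ_smul]
    exact Submodule.smul_mem_smul ((IsLocalRing.mem_maximalIdeal _).2 hnu) Submodule.mem_top
  have h0 : u ≫ (Scheme.Modules.pushforward q).map ψ = 0 := by
    refine Scheme.Modules.hom_ext _ _ fun U => ?_
    ext m
    refine H06Mod.skyEval_ext (x := x) (N := L.presheaf.stalk x ⧸ P) fun hxU => ?_
    refine (H06Mod.skyEval_homOfStalk P.mkQ (q ⁻¹ᵁ U) hxU (uSec u m)).trans ?_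
    refine ((Submodule.Quotient.mk_eq_zero P).2 (hP U m hxU)).trans (map_zero _).symm
  have hψ : ψ = 0 := by
    rw [← cancel_epi (((Scheme.Modules.pullbackPushforwardAdjunction q).homEquiv E L).symm u), Limits.comp_zero,
      ← Adjunction.homEquiv_naturality_right_symm, h0, Adjunction.homEquiv_counit, Functor.map_zero, Limits.zero_comp]
  have he0 : L.presheaf.germ V x hxV e ∈ P := (Submodule.Quotient.mk_eq_zero P).1
    ((H06Mod.skyEval_homOfStalk P.mkQ V hxV e).symm.trans
      (congrArg (H06Mod.skyEval x _ V hxV) (congr($(congrArg (fun k => Scheme.Modules.Hom.app k V) hψ) e))))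
  have hPle : P ≤ Submodule.map (LinearMap.toSpanSingleton O _ (L.presheaf.germ V x hxV e))
      (IsLocalRing.maximalIdeal O) := by
    refine Submodule.smul_le.2 fun r hr m _ => ?_
    obtain ⟨c, rfl⟩ := (he x hxV).2 m
    exact ⟨r * c, Ideal.mul_mem_right _ _ hr, mul_smul _ _ _⟩
  obtain ⟨c, hc, hce⟩ := hPle he0
  have : c = 1 := (he x hxV).1 (hce.trans (one_smul _ _).symm)
  exact (IsLocalRing.maximalIdeal.isMaximal O).ne_top ((Ideal.eq_top_iff_one _).2 (this ▸ hc))

end Groth.Agent.H11Sym
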