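import Groth.Agent.H11Sym.SpansEpi
import Groth.Agent.H17.PullSect

/-!
# The tautological quotient on a projective bundle
-/

set_option autoImplicit false
set_option linter.style.haveILetI false

universe u

open CategoryTheory AlgebraicGeometry TopologicalSpace Opposite
open Groth.Agent.H11Proj Groth.Agent.H11Tilde Groth.Agent.H11Ample

noncomputable section

namespace Groth.Agent.H11Sym

variable {X Y P : Scheme.{u}}

theorem pullSect_comp (r : X ⟶ P) (p : P ⟶ Y) (E : Y.Modules) (U : Y.Opens) (m : Γ(E, U)) :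
    ((Scheme.Modules.pullbackComp r p).inv.app E).app ((r ≫ p) ⁻¹ᵁ U) (OmegaSh.pullSect (r ≫ p) E U m) =
      OmegaSh.pullSect r _ (p ⁻¹ᵁ U) (OmegaSh.pullSect p E U m) := by
  have h := unit_conjugateEquiv
    ((Scheme.Modules.pullbackPushforwardAdjunction p).comp (Scheme.Modules.pullbackPushforwardAdjunction r))
    (Scheme.Modules.pullbackPushforwardAdjunction (r ≫ p)) (Scheme.Modules.pullbackComp r p).inv E
  rw [Scheme.Modules.conjugateEquiv_pullbackComp_inv] at h
  exact congr($(congrArg (fun k => Scheme.Modules.Hom.app k U) h) m).symm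

theorem homEquiv_app_apply (g : X ⟶ Y) {E : Y.Modules} {L : X.Modules}
    (s : (Scheme.Modules.pullback g).obj E ⟶ L) (U : Y.Opens) (m : Γ(E, U)) :
    uSec ((Scheme.Modules.pullbackPushforwardAdjunction g).homEquiv E L s) m =
      s.app (g ⁻¹ᵁ U) (OmegaSh.pullSect g E U m) :=
  congr($(congrArg (fun k => Scheme.Modules.Hom.app k U) (Adjunction.homEquiv_unit
    (adj := Scheme.Modules.pullbackPushforwardAdjunction g) (f := s))) m)

variable {E : Y.Modules} {𝒯 : RelProj.QCGrAlg Y} {j : E ⟶ 𝒯.toModule} {p : P ⟶ Y}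
  {chart : ∀ (U : Y.Opens) (hU : IsAffineOpen U), (((p ⁻¹ᵁ U : P.Opens) : Scheme.{u}) ≅ Proj (𝒯.deg U hU))}
  {O1 : P.Modules} {lam : ∀ (U : Y.Opens) (hU : IsAffineOpen U),
    O1 ⟶ (Scheme.Modules.pushforward (RelProj.emb p chart U hU)).obj (GrTwist.twist (𝒯.deg U hU) 1)}
  (hE : Coh.IsQCoh E) (hT : RelProj.IsGrSymAlg E 𝒯 j) (hP : RelProj.IsRelProj 𝒯 p chart)
  (hL : RelProj.IsRelTwist 𝒯 p chart 1 O1 lam)

/-- The characterisation by values determines the canonical map. -/
theorem eq_ks_of_val {φ : E ⟶ (Scheme.Modules.pushforward p).obj O1}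
    (hφ : ∀ (U : Y.Opens) (hU : IsAffineOpen U) (e : Γ(E, U))
      (y : ↥(RelProj.emb p chart U hU ⁻¹ᵁ (p ⁻¹ᵁ U))),
      GrTwist.val (V := RelProj.emb p chart U hU ⁻¹ᵁ (p ⁻¹ᵁ U))
          ((lam U hU).app (p ⁻¹ᵁ U) ((φ.app U) e)) y =
        algebraMap (𝒯.presheaf.obj (op U)) (GrTwist.Loc (𝒯.deg U hU) y.1)
          ((j.app U) e : 𝒯.presheaf.obj (op U)))
    (U : Y.Opens) (hU : IsAffineOpen U) (e : Γ(E, U)) : uSec φ e = ks hT hL hU e := by
  have h1 := Taut.tw_res hL hU (japp_mem hT hU e) (le_refl (p ⁻¹ᵁ U))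
  rw [resS, H10Coh.mres_self] at h1
  refine Taut.tw_ext hU hL ?_
  refine Eq.trans ?_ h1.symm
  refine twist_ext (𝒯.deg U hU) fun y => ?_
  rw [val_gs]
  exact (hφ U hU e y).trans (Localization.mk_one_eq_algebraMap _).symm

include hE in
theorem spans_of_eq_ks {φ : E ⟶ (Scheme.Modules.pushforward p).obj O1}
    (hφ : ∀ (U : Y.Opens) (hU : IsAffineOpen U) (e : Γ(E, U)), uSec φ e = ks hT hL hU e) : Spans φ := fun x => by
  obtain ⟨U, hU, m, hm⟩ := exists_mem_dOpen hE hT (chart := chart) x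
  refine ⟨gMax φ hU m, ?_⟩
  show x ∈ genAt O1 (uSec φ m)
  rw [hφ U hU m, genAt_ks hE hT hL hU m]
  exact hm

include hE hT hP hL in
/-- Morphisms to the projective bundle are invertible quotients of the inverse image. -/
theorem existsUnique_toBundle {φ : E ⟶ (Scheme.Modules.pushforward p).obj O1}
    (hφ : ∀ (U : Y.Opens) (hU : IsAffineOpen U) (e : Γ(E, U)), uSec φ e = ks hT hL hU e)
    (g : X ⟶ Y) (L : X.Modules) (hLinv : PicF.IsInvertible L)
    (s : (Scheme.Modules.pullback g).obj E ⟶ L) (hs : Epi s) :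
    ∃! r : X ⟶ P, ∃ (hr : r ≫ p = g) (τ : (Scheme.Modules.pullback r).obj O1 ≅ L),
      (Scheme.Modules.pullbackCongr hr).inv.app E ≫ (Scheme.Modules.pullbackComp r p).inv.app E ≫
        (Scheme.Modules.pullback r).map
          (((Scheme.Modules.pullbackPushforwardAdjunction p).homEquiv E O1).symm φ) ≫ τ.hom = s := by
  let u := (Scheme.Modules.pullbackPushforwardAdjunction g).homEquiv E L s
  have hu : Spans u := spans_of_epi hLinv u (by rw [Equiv.symm_apply_apply]; exact hs)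
  let a := ((Scheme.Modules.pullbackPushforwardAdjunction p).homEquiv E O1).symm φ
  have ha : ∀ (U : Y.Opens) (m : Γ(E, U)), a.app (p ⁻¹ᵁ U) (OmegaSh.pullSect p E U m) = uSec φ m := fun U m => by
    rw [← homEquiv_app_apply, Equiv.apply_symm_apply]
  have key : ∀ (r : X ⟶ P) (τ : (Scheme.Modules.pullback r).obj O1 ≅ L) (hr : r ≫ p = g),
      ((Scheme.Modules.pullbackCongr hr).inv.app E ≫ (Scheme.Modules.pullbackComp r p).inv.app E ≫
        (Scheme.Modules.pullback r).map a ≫ τ.hom = s) ↔ MatchKs hT hL r u τ := by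
    intro r τ hr
    subst hr
    let T := (Scheme.Modules.pullbackCongr (rfl : r ≫ p = r ≫ p)).inv.app E ≫
      (Scheme.Modules.pullbackComp r p).inv.app E ≫ (Scheme.Modules.pullback r).map a ≫ τ.hom
    have hT' : ∀ (U : Y.Opens) (m : Γ(E, U)),
        uSec ((Scheme.Modules.pullbackPushforwardAdjunction (r ≫ p)).homEquiv E L T) m =
          τ.hom.app (r ⁻¹ᵁ (p ⁻¹ᵁ U)) (OmegaSh.pullSect r O1 _ (uSec φ m)) := fun U m => by
      rw [homEquiv_app_apply, ← ha, H17.PullSect.pullSect_natural r a]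
      refine congrArg (τ.hom.app (r ⁻¹ᵁ (p ⁻¹ᵁ U))) (congrArg (((Scheme.Modules.pullback r).map a).app _) ?_)
      exact pullSect_comp r p E U m
    constructor
    · intro h U hU n V i i'
      have e : uSec u n = τ.hom.app (r ⁻¹ᵁ (p ⁻¹ᵁ U)) (ksPull hT hL r hU n) := by
        show uSec ((Scheme.Modules.pullbackPushforwardAdjunction (r ≫ p)).homEquiv E L s) n = _
        rw [← h]
        exact (hT' U n).trans (congrArg (fun z => τ.hom.app _ (OmegaSh.pullSect r O1 _ z)) (hφ U hU n))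
      exact (app_map_apply τ.hom i (ksPull hT hL r hU n)).trans (congrArg (resS L i') e).symm
    · intro h
      apply ((Scheme.Modules.pullbackPushforwardAdjunction (r ≫ p)).homEquiv E L).injective
      refine Scheme.Modules.hom_ext _ _ fun U => ?_
      ext m
      refine eq_of_locally (F := L) _ _ fun x hx => ?_
      obtain ⟨A, hA, hxA, hAU⟩ := exists_isAffineOpen_mem_and_subset (U := U) (x := (r ≫ p).base x) hx
      have i : A ≤ U := fun _ hh => hAU hh
      refine ⟨(r ≫ p) ⁻¹ᵁ A, (r ≫ p).preimage_mono i, hxA, ?_⟩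
      refine (uSec_res ((Scheme.Modules.pullbackPushforwardAdjunction (r ≫ p)).homEquiv E L T) i m).symm.trans
        (Eq.trans ?_ (uSec_res u i m))
      refine (hT' A _).trans ?_
      rw [hφ A hA]
      have h2 := h A hA (E.presheaf.map (homOfLE i).op m) (r ⁻¹ᵁ (p ⁻¹ᵁ A)) le_rfl le_rfl
      rw [resS, H10Coh.mres_self] at h2
      exact h2.trans (H10Coh.mres_self _ _ _)
  obtain ⟨r, hr, τ, hτ⟩ := exists_toBundle hE hT hP hL hu
  refine ⟨r, ⟨hr, τ, (key r τ hr).2 hτ⟩, ?_⟩
  rintro r' ⟨hr', τ', h'⟩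
  exact toBundle_unique hE hT hP hL hr' hr hu ((key r' τ' hr').1 h') hτ

end Groth.Agent.H11Sym
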