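import Groth.Prelude.Def_RelSpec

/-!
# Homomorphisms into quasi-coherent algebras from their values over the affine opens
-/

set_option autoImplicit false

universe u

open CategoryTheory AlgebraicGeometry TopologicalSpace Opposite

noncomputable section

namespace Groth.Agent.H11Sym

variable {S : Scheme.{u}}

theorem exists_affine_mem_le {W : S.Opens} {s : S} (hs : s ∈ W) :
    ∃ U : S.Opens, IsAffineOpen U ∧ s ∈ U ∧ U ≤ W := by
  obtain ⟨U, hU, hsU, hle⟩ := exists_isAffineOpen_mem_and_subset (x := s) (U := W) hs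
  exact ⟨U, hU, hsU, hle⟩

/-- Restriction of sections of an algebra. -/
abbrev ares (B : RelSpec.QCAlg S) {U V : S.Opens} (i : V ≤ U) :
    B.presheaf.obj (op U) →+* B.presheaf.obj (op V) := (B.presheaf.map (homOfLE i).op).hom

/-- The structure map on an open. -/
abbrev astr (B : RelSpec.QCAlg S) (U : S.Opens) : Γ(S, U) →+* B.presheaf.obj (op U) := (B.str.app (op U)).hom

theorem ares_ares (B : RelSpec.QCAlg S) {U V W : S.Opens} (h₁ : V ≤ U) (h₂ : W ≤ V) (x : B.presheaf.obj (op U)) :
    ares B h₂ (ares B h₁ x) = ares B (h₂.trans h₁) x := by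
  simp only [ares]
  rw [← ConcreteCategory.comp_apply, ← Functor.map_comp]
  rfl

theorem ares_self (B : RelSpec.QCAlg S) {U : S.Opens} (x : B.presheaf.obj (op U)) : ares B (le_refl U) x = x :=
  ConcreteCategory.congr_hom (B.presheaf.map_id _) x

theorem ares_str (B : RelSpec.QCAlg S) {U V : S.Opens} (i : V ≤ U) (r : Γ(S, U)) :
    ares B i (astr B U r) = astr B V (S.presheaf.map (homOfLE i).op r) :=
  (ConcreteCategory.congr_hom (B.str.naturality (homOfLE i).op) r).symm

/-- Sections of an algebra agreeing on affine opens are equal. -/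
theorem eq_of_affine (B : RelSpec.QCAlg S) {W : S.Opens} {x y : B.presheaf.obj (op W)}
    (h : ∀ U, IsAffineOpen U → ∀ i : U ≤ W, ares B i x = ares B i y) : x = y := by
  choose U hU hsU hle using fun s : W => exists_affine_mem_le s.2
  exact TopCat.Sheaf.eq_of_locally_eq' (⟨B.presheaf, B.isSheaf⟩ : TopCat.Sheaf CommRingCat.{u} S.carrier) U W
    (fun s => homOfLE (hle s)) (fun s hs => Opens.mem_iSup.2 ⟨⟨s, hs⟩, hsU _⟩) x y fun s => h _ (hU s) (hle s)

/-- Homomorphisms of algebras agreeing over affine opens are equal. -/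
theorem algHom_ext {A B : RelSpec.QCAlg S} {φ ψ : A ⟶ B}
    (h : ∀ (U : S.Opens), IsAffineOpen U → ∀ x, φ.hom.app (op U) x = ψ.hom.app (op U) x) : φ = ψ := by
  refine RelSpec.QCAlg.hom_ext (NatTrans.ext (funext fun W => CommRingCat.hom_ext (RingHom.ext fun x => ?_)))
  refine eq_of_affine B fun U hU i => ?_
  exact (ConcreteCategory.congr_hom (φ.hom.naturality (homOfLE i).op) x).symm.trans
    ((h U hU _).trans (ConcreteCategory.congr_hom (ψ.hom.naturality (homOfLE i).op) x))

/-- A homomorphism of algebras from compatible homomorphisms over the affine opens. -/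
theorem exists_algHom (A B : RelSpec.QCAlg S)
    (f : ∀ U : S.Opens, IsAffineOpen U → (A.presheaf.obj (op U) →+* B.presheaf.obj (op U)))
    (hs : ∀ U hU r, f U hU (astr A U r) = astr B U r)
    (hn : ∀ (U : S.Opens) (hU : IsAffineOpen U) (r : Γ(S, U)) x,
      f _ (hU.basicOpen r) (ares A (S.basicOpen_le r) x) = ares B (S.basicOpen_le r) (f U hU x)) :
    ∃ ψ : A ⟶ B, ∀ U hU x, ψ.hom.app (op U) x = f U hU x := by
  let η : (Scheme.AffineZariskiSite.toOpensFunctor S).op ⋙ A.presheaf ⟶
      (Scheme.AffineZariskiSite.toOpensFunctor S).op ⋙ B.presheaf :=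
    { app := fun U => CommRingCat.ofHom (f U.unop.1 U.unop.2)
      naturality := fun U V i => by
        obtain ⟨⟨V, hV⟩⟩ := V
        obtain ⟨r, hr⟩ := i.unop.le
        subst hr
        exact CommRingCat.hom_ext (RingHom.ext (hn U.unop.1 U.unop.2 r)) }
  let g : A.presheaf ⟶ B.presheaf :=
    Functor.IsCoverDense.restrictHomEquivHom (G := Scheme.AffineZariskiSite.toOpensFunctor S)
      (K := Opens.grothendieckTopology S) (ℱ := A.presheaf)
      (ℱ' := (⟨B.presheaf, B.isSheaf⟩ : TopCat.Sheaf CommRingCat.{u} S.carrier)) η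
  have hg : (Scheme.AffineZariskiSite.toOpensFunctor S).op.whiskerLeft g = η :=
    (Functor.IsCoverDense.restrictHomEquivHom (G := Scheme.AffineZariskiSite.toOpensFunctor S)
      (K := Opens.grothendieckTopology S) (ℱ := A.presheaf)
      (ℱ' := (⟨B.presheaf, B.isSheaf⟩ : TopCat.Sheaf CommRingCat.{u} S.carrier))).symm_apply_apply _
  have hgU : ∀ U hU x, g.app (op U) x = f U hU x := fun U hU x =>
    ConcreteCategory.congr_hom (NatTrans.congr_app hg (op ⟨U, hU⟩)) x
  have hc : A.str ≫ g = B.str := by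
    refine NatTrans.ext (funext fun W => CommRingCat.hom_ext (RingHom.ext fun r => ?_))
    refine eq_of_affine B fun U hU i => ?_
    change ares B i (g.app W (astr A W.unop r)) = ares B i (astr B W.unop r)
    rw [ares_str, ← hs U hU, ← ares_str A i, ← hgU U hU]
    exact (ConcreteCategory.congr_hom (g.naturality (homOfLE i).op) _).symm
  exact ⟨⟨g, hc⟩, hgU⟩

variable {E : S.Modules} {B : RelSpec.QCAlg S}

/-- The value of a module map into an algebra. -/
abbrev japp (j : E ⟶ B.toModule) (U : S.Opens) (x : Γ(E, U)) : B.presheaf.obj (op U) := (j.app U).hom x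

theorem japp_res (j : E ⟶ B.toModule) {U V : S.Opens} (i : V ≤ U) (x : Γ(E, U)) :
    japp j V (E.presheaf.map (homOfLE i).op x) = ares B i (japp j U x) :=
  NatTrans.naturality_apply j.mapPresheaf (homOfLE i).op x

theorem japp_smul (j : E ⟶ B.toModule) (U : S.Opens) (r : Γ(S, U)) (x : Γ(E, U)) :
    japp j U (r • x) = astr B U r * japp j U x :=
  Scheme.Modules.Hom.app_smul j r x

theorem japp_add (j : E ⟶ B.toModule) (U : S.Opens) (x y : Γ(E, U)) :
    japp j U (x + y) = japp j U x + japp j U y :=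
  map_add (j.app U).hom x y

/-- Module maps agreeing over affine opens are equal. -/
theorem modHom_ext {φ ψ : E ⟶ B.toModule}
    (h : ∀ (U : S.Opens), IsAffineOpen U → ∀ x, japp φ U x = japp ψ U x) : φ = ψ := by
  ext W x
  refine eq_of_affine B (W := W) fun U hU i => ?_
  exact (japp_res φ i x).symm.trans ((h U hU _).trans (japp_res ψ i x))

/-- A module map from compatible maps over the affine opens. -/
theorem exists_modHom (E : S.Modules) (B : RelSpec.QCAlg S)
    (f : ∀ U : S.Opens, IsAffineOpen U → (Γ(E, U) →+ B.presheaf.obj (op U)))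
    (hs : ∀ U hU (r : Γ(S, U)) x, f U hU (r • x) = astr B U r * f U hU x)
    (hn : ∀ (U : S.Opens) (hU : IsAffineOpen U) (r : Γ(S, U)) x,
      f _ (hU.basicOpen r) (E.presheaf.map (homOfLE (S.basicOpen_le r)).op x) =
        ares B (S.basicOpen_le r) (f U hU x)) :
    ∃ j : E ⟶ B.toModule, ∀ U hU x, japp j U x = f U hU x := by
  let η : (Scheme.AffineZariskiSite.toOpensFunctor S).op ⋙ E.presheaf ⟶
      (Scheme.AffineZariskiSite.toOpensFunctor S).op ⋙ B.toAb :=
    { app := fun U => AddCommGrpCat.ofHom (f U.unop.1 U.unop.2)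
      naturality := fun U V i => by
        obtain ⟨⟨V, hV⟩⟩ := V
        obtain ⟨r, hr⟩ := i.unop.le
        subst hr
        exact AddCommGrpCat.hom_ext (AddMonoidHom.ext (hn U.unop.1 U.unop.2 r)) }
  let g : E.presheaf ⟶ B.toAb :=
    Functor.IsCoverDense.restrictHomEquivHom (G := Scheme.AffineZariskiSite.toOpensFunctor S)
      (K := Opens.grothendieckTopology S) (ℱ := E.presheaf)
      (ℱ' := (⟨B.toAb, B.isSheaf_toAb⟩ : TopCat.Sheaf AddCommGrpCat.{u} S.carrier)) η
  have hg : (Scheme.AffineZariskiSite.toOpensFunctor S).op.whiskerLeft g = η :=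
    (Functor.IsCoverDense.restrictHomEquivHom (G := Scheme.AffineZariskiSite.toOpensFunctor S)
      (K := Opens.grothendieckTopology S) (ℱ := E.presheaf)
      (ℱ' := (⟨B.toAb, B.isSheaf_toAb⟩ : TopCat.Sheaf AddCommGrpCat.{u} S.carrier))).symm_apply_apply _
  have hgU : ∀ U hU x, g.app (op U) x = f U hU x := fun U hU x =>
    ConcreteCategory.congr_hom (NatTrans.congr_app hg (op ⟨U, hU⟩)) x
  have hlin : ∀ (W : S.Opens) (r : Γ(S, W)) (x : Γ(E, W)),
      g.app (op W) (r • x) = astr B W r * g.app (op W) x := fun W r x => by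
    refine eq_of_affine B fun U hU i => ?_
    rw [map_mul, ares_str]
    refine (ConcreteCategory.congr_hom (g.naturality (homOfLE i).op) (r • x)).symm.trans ?_
    rw [ConcreteCategory.comp_apply, hgU U hU, Scheme.Modules.map_smul, hs, ← hgU U hU]
    exact congrArg _ (ConcreteCategory.congr_hom (g.naturality (homOfLE i).op) x)
  exact ⟨⟨PresheafOfModules.homMk g fun W r x => hlin W.unop r x⟩, hgU⟩

end Groth.Agent.H11Sym
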