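import Mathlib.LinearAlgebra.SymmetricAlgebra.Basic
import Mathlib.RingTheory.GradedAlgebra.Basic
import Mathlib.Algebra.Polynomial.AlgebraMap

/-!
# Gradings of algebras generated by a submodule, in particular of symmetric algebras
-/

set_option autoImplicit false

noncomputable section

namespace Groth.Agent.H11Sym

open Polynomial DirectSum

variable {R M A : Type*} [CommRing R] [AddCommGroup M] [Module R M] [CommRing A] [Algebra R A]
variable {j : M →ₗ[R] A} (hj : IsSymmetricAlgebra j)

/-- `a ↦ a T ^ deg a`. -/
def gradeHom : A →ₐ[R] A[X] :=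
  hj.lift ((Polynomial.monomial 1).restrictScalars R ∘ₗ j)

theorem gradeHom_apply (m : M) : gradeHom hj (j m) = C (j m) * X := by
  rw [gradeHom, IsSymmetricAlgebra.lift_eq, C_mul_X_eq_monomial]
  rfl

theorem eval_one_gradeHom (a : A) : (gradeHom hj a).eval 1 = a := by
  induction a using hj.induction with
  | algebraMap r => simp [Polynomial.algebraMap_apply]
  | ι m => simp [gradeHom_apply]
  | mul a b ha hb => simp [map_mul, ha, hb]
  | add a b ha hb => simp [map_add, ha, hb]

/-- Degree `d`. -/
def piece (d : ℕ) : AddSubgroup A where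
  carrier := {a | gradeHom hj a = monomial d a}
  add_mem' {a b} ha hb := by
    simp only [Set.mem_ofPred_eq] at *
    rw [map_add, map_add, ha, hb]
  zero_mem' := by simp
  neg_mem' {a} ha := by
    simp only [Set.mem_ofPred_eq] at *
    rw [map_neg, map_neg, ha]

theorem mem_piece {d : ℕ} {a : A} : a ∈ piece hj d ↔ gradeHom hj a = monomial d a := Iff.rfl

theorem algebraMap_mem (r : R) : algebraMap R A r ∈ piece hj 0 := by
  rw [mem_piece, AlgHom.commutes, monomial_zero_left]
  rfl

theorem map_mem_one (m : M) : j m ∈ piece hj 1 := by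
  rw [mem_piece, gradeHom_apply, C_mul_X_eq_monomial]

theorem mul_mem {d e : ℕ} {a b : A} (ha : a ∈ piece hj d) (hb : b ∈ piece hj e) : a * b ∈ piece hj (d + e) := by
  rw [mem_piece] at *
  rw [map_mul, ha, hb, monomial_mul_monomial]

theorem coeff_mem (a : A) : ∀ d, (gradeHom hj a).coeff d ∈ piece hj d := by
  classical
  induction a using hj.induction with
  | algebraMap r =>
    intro d
    rw [AlgHom.commutes, Polynomial.algebraMap_apply, coeff_C]
    split_ifs with h
    · exact h ▸ algebraMap_mem hj r
    · exact zero_mem _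
  | ι m =>
    intro d
    rw [gradeHom_apply, C_mul_X_eq_monomial, coeff_monomial]
    split_ifs with h
    · exact h ▸ map_mem_one hj m
    · exact zero_mem _
  | mul a b ha hb =>
    intro d
    rw [map_mul, coeff_mul]
    refine sum_mem fun p hp => ?_
    rw [← Finset.mem_antidiagonal.1 hp]
    exact mul_mem hj (ha p.1) (hb p.2)
  | add a b ha hb =>
    intro d
    rw [map_add, coeff_add]
    exact add_mem (ha d) (hb d)

instance : SetLike.GradedMonoid (piece hj) where
  one_mem := by rw [← map_one (algebraMap R A)]; exact algebraMap_mem hj 1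
  mul_mem _ _ _ _ ha hb := mul_mem hj ha hb

/-- The components. -/
def decomposeFun (a : A) : ⨁ d, piece hj d :=
  (gradeHom hj a).support.sum fun d => DirectSum.of (fun d => piece hj d) d ⟨_, coeff_mem hj a d⟩

theorem coe_decomposeFun (a : A) : DirectSum.coeAddMonoidHom (piece hj) (decomposeFun hj a) = a := by
  rw [decomposeFun, map_sum]
  simp only [DirectSum.coeAddMonoidHom_of]
  conv_rhs => rw [← eval_one_gradeHom hj a, eval_eq_sum, Polynomial.sum_def]
  simp

theorem decomposeFun_apply (a : A) (d : ℕ) : (decomposeFun hj a d : A) = (gradeHom hj a).coeff d := by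
  classical
  rw [decomposeFun, DFinsupp.finsetSum_apply, AddSubmonoidClass.coe_finsetSum]
  simp only [DirectSum.coe_of_apply]
  rw [Finset.sum_eq_single d]
  · simp
  · intro e _ he
    simp [he]
  · intro hd
    simp only [mem_support_iff, not_not] at hd
    simp [hd]

theorem gradeHom_coe (x : ⨁ d, piece hj d) (d : ℕ) :
    (gradeHom hj (DirectSum.coeAddMonoidHom (piece hj) x)).coeff d = (x d : A) := by
  classical
  induction x using DirectSum.induction_on with
  | zero => simp
  | of e y =>
    rw [DirectSum.coeAddMonoidHom_of, (mem_piece hj).1 y.2, coeff_monomial, DirectSum.coe_of_apply]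
    split_ifs <;> simp
  | add x y hx hy =>
    rw [map_add, map_add, coeff_add, hx, hy]
    rfl

/-- The grading. -/
@[instance_reducible]
def gradedRing : GradedRing (piece hj) :=
  { (inferInstance : SetLike.GradedMonoid (piece hj)) with
    decompose' := decomposeFun hj
    left_inv := coe_decomposeFun hj
    right_inv := fun x => DFunLike.ext _ _ fun d => Subtype.ext
      ((decomposeFun_apply hj _ d).trans (gradeHom_coe hj x d)) }

/-- Degree one is the image of the module. -/
theorem mem_piece_one {a : A} : a ∈ piece hj 1 ↔ ∃ m, j m = a := by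
  refine ⟨fun ha => ?_, fun ⟨m, hm⟩ => hm ▸ map_mem_one hj m⟩
  have key : ∀ b : A, (∃ r, algebraMap R A r = (gradeHom hj b).coeff 0) ∧
      ∃ m, j m = (gradeHom hj b).coeff 1 := by
    intro b
    induction b using hj.induction with
    | algebraMap r => exact ⟨⟨r, by simp [Polynomial.algebraMap_apply]⟩, 0, by simp [Polynomial.algebraMap_apply, coeff_C]⟩
    | ι m => exact ⟨⟨0, by simp [gradeHom_apply]⟩, m, by simp [gradeHom_apply]⟩
    | mul a b ha hb =>
      obtain ⟨⟨r, hr⟩, m, hm⟩ := ha
      obtain ⟨⟨s, hs⟩, n, hn⟩ := hb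
      refine ⟨⟨r * s, by rw [map_mul, map_mul, hr, hs, mul_coeff_zero]⟩, r • n + s • m, ?_⟩
      rw [map_mul, mul_coeff_one, ← hr, ← hs, ← hm, ← hn, map_add, map_smul, map_smul, Algebra.smul_def,
        Algebra.smul_def]
      ring
    | add a b ha hb =>
      obtain ⟨⟨r, hr⟩, m, hm⟩ := ha
      obtain ⟨⟨s, hs⟩, n, hn⟩ := hb
      exact ⟨⟨r + s, by rw [map_add, map_add, coeff_add, hr, hs]⟩, m + n, by
        rw [map_add, map_add, coeff_add, hm, hn]⟩
  obtain ⟨-, m, hm⟩ := key a
  exact ⟨m, by rw [hm, (mem_piece hj).1 ha, coeff_monomial, if_pos rfl]⟩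

theorem closure_eq_top : Subring.closure ((piece hj 0 : Set A) ∪ (piece hj 1 : Set A)) = ⊤ := by
  refine eq_top_iff.2 fun a h => ?_
  clear h
  induction a using hj.induction with
  | algebraMap r => exact Subring.subset_closure (Or.inl (algebraMap_mem hj r))
  | ι m => exact Subring.subset_closure (Or.inr (map_mem_one hj m))
  | mul a b ha hb => exact Subring.mul_mem _ ha hb
  | add a b ha hb => exact Subring.add_mem _ ha hb

/-- Any grading with the generators in degree one is the standard one. -/
theorem eq_piece (𝒜 : ℕ → AddSubgroup A) [GradedRing 𝒜] (h0 : ∀ r, algebraMap R A r ∈ 𝒜 0)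
    (h1 : ∀ m, j m ∈ 𝒜 1) (d : ℕ) : 𝒜 d = piece hj d := by
  classical
  have hle : ∀ (a : A) (e : ℕ), (gradeHom hj a).coeff e ∈ 𝒜 e := by
    intro a
    induction a using hj.induction with
    | algebraMap r =>
      intro e
      rw [AlgHom.commutes, Polynomial.algebraMap_apply, coeff_C]
      split_ifs with h
      · exact h ▸ h0 r
      · exact zero_mem _
    | ι m =>
      intro e
      rw [gradeHom_apply, C_mul_X_eq_monomial, coeff_monomial]
      split_ifs with h
      · exact h ▸ h1 m
      · exact zero_mem _
    | mul a b ha hb =>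
      intro e
      rw [map_mul, coeff_mul]
      refine sum_mem fun p hp => ?_
      rw [← Finset.mem_antidiagonal.1 hp]
      exact SetLike.mul_mem_graded (ha p.1) (hb p.2)
    | add a b ha hb =>
      intro e
      rw [map_add, coeff_add]
      exact add_mem (ha e) (hb e)
  refine le_antisymm (fun a ha => ?_) fun a ha => ?_
  · have h2 : ∀ e, (DirectSum.decompose 𝒜 a e : A) = (gradeHom hj a).coeff e := by
      intro e
      conv_lhs => rw [← eval_one_gradeHom hj a, eval_eq_sum, Polynomial.sum_def]
      simp only [one_pow, mul_one, ← GradedRing.proj_apply, map_sum]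
      simp only [GradedRing.proj_apply]
      rw [Finset.sum_eq_single e]
      · exact DirectSum.decompose_of_mem_same 𝒜 (hle a e)
      · intro i _ hi
        exact DirectSum.decompose_of_mem_ne 𝒜 (hle a i) hi
      · intro he
        simp only [mem_support_iff, not_not] at he
        simp [he]
    rw [mem_piece]
    refine Polynomial.ext fun e => ?_
    rw [← h2, coeff_monomial]
    split_ifs with h
    · subst h
      exact DirectSum.decompose_of_mem_same 𝒜 ha
    · exact DirectSum.decompose_of_mem_ne 𝒜 ha h
  · have := hle a d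
    rw [(mem_piece hj).1 ha, coeff_monomial, if_pos rfl] at this
    exact this

end Groth.Agent.H11Sym
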