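import Mathlib.LinearAlgebra.SymmetricAlgebra.Basic
import Mathlib.RingTheory.Localization.Away.Basic
import Mathlib.Algebra.Module.LocalizedModule.Basic

/-!
# Symmetric algebras: ring homomorphisms out of them, behaviour under localization
-/

set_option autoImplicit false
set_option linter.style.haveILetI false

noncomputable section

namespace Groth.Agent.H11Sym

variable {R M A : Type*} [CommRing R] [AddCommGroup M] [Module R M] [CommRing A] [Algebra R A]
variable {j : M →ₗ[R] A} (hj : IsSymmetricAlgebra j)

include hj in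
theorem ringHom_ext {B : Type*} [CommRing B] {φ ψ : A →+* B}
    (h₀ : ∀ r, φ (algebraMap R A r) = ψ (algebraMap R A r)) (h₁ : ∀ m, φ (j m) = ψ (j m)) : φ = ψ := by
  refine RingHom.ext fun a => ?_
  induction a using hj.induction with
  | algebraMap r => exact h₀ r
  | ι m => exact h₁ m
  | mul a b ha hb => rw [map_mul, map_mul, ha, hb]
  | add a b ha hb => rw [map_add, map_add, ha, hb]

/-- The ring homomorphism extending `φ` and a `φ`-linear map. -/
def liftHom {B : Type*} [CommRing B] (φ : R →+* B) (f : M →+ B) (hf : ∀ r m, f (r • m) = φ r * f m) :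
    A →+* B :=
  letI := φ.toAlgebra
  (hj.lift { toFun := f, map_add' := map_add f, map_smul' := hf }).toRingHom

theorem liftHom_j {B : Type*} [CommRing B] (φ : R →+* B) (f : M →+ B) (hf : ∀ r m, f (r • m) = φ r * f m)
    (m : M) : liftHom hj φ f hf (j m) = f m := by
  letI := φ.toAlgebra
  exact hj.lift_eq { toFun := f, map_add' := map_add f, map_smul' := hf } m

theorem liftHom_algebraMap {B : Type*} [CommRing B] (φ : R →+* B) (f : M →+ B)
    (hf : ∀ r m, f (r • m) = φ r * f m) (r : R) : liftHom hj φ f hf (algebraMap R A r) = φ r := by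
  letI := φ.toAlgebra
  exact AlgHom.commutes (hj.lift { toFun := f, map_add' := map_add f, map_smul' := hf }) r

include hj in
/-- The symmetric algebra of a localized module is the localization of the symmetric algebra. -/
theorem isLocalization_away {R' M' A' : Type*} [CommRing R'] [Algebra R R'] [AddCommGroup M'] [Module R M']
    [Module R' M'] [IsScalarTower R R' M'] [CommRing A'] [Algebra R' A'] {j' : M' →ₗ[R'] A'}
    (hj' : IsSymmetricAlgebra j') (t : R) [IsLocalization.Away t R'] (g : M →ₗ[R] M')
    [IsLocalizedModule (Submonoid.powers t) g] (ψ : A →+* A')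
    (hψ₀ : ∀ r, ψ (algebraMap R A r) = algebraMap R' A' (algebraMap R R' r))
    (hψ₁ : ∀ m, ψ (j m) = j' (g m)) :
    letI := ψ.toAlgebra
    IsLocalization.Away (algebraMap R A t) A' := by
  letI := ψ.toAlgebra
  let a₀ : A := algebraMap R A t
  let L := Localization.Away a₀
  have hu : IsUnit (algebraMap A' A' (ψ a₀)) := by
    simp only [a₀, hψ₀, Algebra.algebraMap_self, RingHom.id_apply]
    exact (IsLocalization.Away.algebraMap_isUnit t).map _
  have hLu : IsUnit (((algebraMap A L).comp (algebraMap R A)) t) := IsLocalization.Away.algebraMap_isUnit a₀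
  let φ' : R' →+* L := IsLocalization.Away.lift t hLu
  have hφ' : ∀ r, φ' (algebraMap R R' r) = algebraMap A L (algebraMap R A r) := IsLocalization.Away.lift_eq t hLu
  have hAL : ∀ r, algebraMap R L r = algebraMap A L (algebraMap R A r) := IsScalarTower.algebraMap_apply R A L
  let f : M →ₗ[R] L :=
    { toFun := fun m => algebraMap A L (j m)
      map_add' := fun a b => by simp [map_add]
      map_smul' := fun r m => by
        rw [map_smul, Algebra.smul_def, map_mul, RingHom.id_apply, Algebra.smul_def, hAL] }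
  have hfu : ∀ x : Submonoid.powers t, IsUnit (algebraMap R (Module.End R L) x) := by
    rintro ⟨_, n, rfl⟩
    rw [map_pow]
    refine IsUnit.pow _ ?_
    have : algebraMap R (Module.End R L) t = Algebra.lmul R L (algebraMap R L t) :=
      ((Algebra.lmul R L).commutes t).symm
    rw [this, hAL]
    exact hLu.map _
  let f' : M' →ₗ[R] L := IsLocalizedModule.lift (Submonoid.powers t) g f hfu
  have hf' : ∀ m, f' (g m) = algebraMap A L (j m) := fun m =>
    IsLocalizedModule.lift_apply (Submonoid.powers t) g f hfu m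
  have hlin : ∀ (r' : R') (m' : M'), f' (r' • m') = φ' r' * f' m' := by
    intro r' m'
    obtain ⟨⟨r, s⟩, hrs⟩ := IsLocalization.surj (Submonoid.powers t) r'
    have hus : IsUnit (φ' (algebraMap R R' s)) := (IsLocalization.map_units R' s).map φ'
    refine hus.mul_left_cancel ?_
    have e : ∀ (b : R) (x : M'), φ' (algebraMap R R' b) * f' x = f' (algebraMap R R' b • x) := fun b x => by
      rw [algebraMap_smul, map_smul, hφ', Algebra.smul_def, hAL]
    rw [e, smul_smul, mul_comm (algebraMap R R' s) r', hrs, ← mul_assoc, ← map_mul,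
      mul_comm (algebraMap R R' s) r', hrs, e]
  let τ : A' →+* L := liftHom hj' φ' f'.toAddMonoidHom hlin
  have hτ : τ.comp ψ = algebraMap A L := by
    refine ringHom_ext hj (fun r => ?_) fun m => ?_
    · rw [RingHom.comp_apply, hψ₀, liftHom_algebraMap, hφ']
    · rw [RingHom.comp_apply, hψ₁, liftHom_j]
      exact hf' m
  refine ⟨?_, ?_, ?_⟩
  · rintro ⟨_, n, rfl⟩
    change IsUnit (ψ (a₀ ^ n))
    rw [map_pow]
    exact IsUnit.pow _ hu
  · intro z
    suffices H : ∃ (n : ℕ) (a : A), z * ψ a₀ ^ n = ψ a by
      obtain ⟨n, a, e⟩ := H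
      refine ⟨⟨a, ⟨_, n, rfl⟩⟩, ?_⟩
      change z * ψ (a₀ ^ n) = ψ a
      rw [← e, map_pow]
    induction z using hj'.induction with
    | algebraMap r' =>
      obtain ⟨⟨r, ⟨_, n, rfl⟩⟩, hrs⟩ := IsLocalization.surj (Submonoid.powers t) r'
      refine ⟨n, algebraMap R A r, ?_⟩
      rw [hψ₀, hψ₀, ← map_pow, ← map_mul, ← map_pow]
      exact congrArg (algebraMap R' A') hrs
    | ι m' =>
      obtain ⟨⟨m, ⟨_, n, rfl⟩⟩, hms⟩ := IsLocalizedModule.surj (Submonoid.powers t) g m'
      refine ⟨n, j m, ?_⟩
      have hms' : algebraMap R R' (t ^ n) • m' = g m := by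
        rw [algebraMap_smul]
        exact hms
      rw [hψ₁, ← hms', map_smul, Algebra.smul_def, hψ₀, ← map_pow, ← map_pow, mul_comm]
    | mul x y hx hy =>
      obtain ⟨n, a, ea⟩ := hx
      obtain ⟨k, b, eb⟩ := hy
      exact ⟨n + k, a * b, by rw [map_mul, ← ea, ← eb, pow_add]; ring⟩
    | add x y hx hy =>
      obtain ⟨n, a, ea⟩ := hx
      obtain ⟨k, b, eb⟩ := hy
      exact ⟨n + k, a * a₀ ^ k + b * a₀ ^ n, by
        rw [map_add, map_mul, map_mul, map_pow, map_pow, ← ea, ← eb, pow_add]; ring⟩
  · intro x y h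
    have h' : algebraMap A L x = algebraMap A L y := by
      rw [← hτ, RingHom.comp_apply, RingHom.comp_apply]
      exact congrArg τ h
    exact (IsLocalization.eq_iff_exists (Submonoid.powers a₀) L).1 h'

end Groth.Agent.H11Sym
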