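import Groth.Prelude.Def_RelProj2
import Groth.Agent.H11Sym.SymGrading
import Groth.Agent.H11Sym.SymLoc
import Groth.Agent.H11Sym.Extend
import Groth.Agent.H7Lim.Approx.AffineSpecExists
import Groth.Agent.H29Fitt.Sheaf

/-!
# The symmetric algebra of a quasi-coherent module, as a quasi-coherent graded algebra
-/

set_option autoImplicit false
set_option linter.style.haveILetI false

universe u

open CategoryTheory AlgebraicGeometry TopologicalSpace Opposite

noncomputable section

namespace Groth.Agent.H11Sym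

variable {S : Scheme.{u}} {E : S.Modules}

section jlin

variable {B : RelSpec.QCAlg S}

/-- The algebra structure on the sections over an open. -/
abbrev algOn (B : RelSpec.QCAlg S) (U : S.Opens) : Algebra Γ(S, U) (B.presheaf.obj (op U)) :=
  (B.str.app (op U)).hom.toAlgebra

/-- A module map into an algebra, on an open, as a linear map. -/
abbrev jlin (j : E ⟶ B.toModule) (U : S.Opens) :
    letI := algOn B U
    Γ(E, U) →ₗ[Γ(S, U)] B.presheaf.obj (op U) :=
  letI := algOn B U
  { toFun := japp j U, map_add' := japp_add j U, map_smul' := japp_smul j U }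

/-- Over every affine open the sections form the symmetric algebra. -/
def IsAffSym (j : E ⟶ B.toModule) : Prop :=
  ∀ U : S.Opens, IsAffineOpen U → letI := algOn B U; IsSymmetricAlgebra (jlin j U)

theorem IsAffSym.ringHom_ext {j : E ⟶ B.toModule} (hj : IsAffSym j) {U : S.Opens} (hU : IsAffineOpen U)
    {C : Type*} [CommRing C] {φ ψ : B.presheaf.obj (op U) →+* C}
    (h₀ : ∀ r, φ (astr B U r) = ψ (astr B U r)) (h₁ : ∀ x, φ (japp j U x) = ψ (japp j U x)) : φ = ψ := by
  letI := algOn B U
  exact H11Sym.ringHom_ext (hj U hU) h₀ h₁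

theorem IsAffSym.exists_lift {j : E ⟶ B.toModule} (hj : IsAffSym j) {U : S.Opens} (hU : IsAffineOpen U)
    {C : Type*} [CommRing C] (φ : Γ(S, U) →+* C) (f : Γ(E, U) →+ C) (hf : ∀ r m, f (r • m) = φ r * f m) :
    ∃ g : B.presheaf.obj (op U) →+* C, (∀ r, g (astr B U r) = φ r) ∧ ∀ x, g (japp j U x) = f x := by
  letI := algOn B U
  exact ⟨liftHom (hj U hU) φ f hf, liftHom_algebraMap (hj U hU) φ f hf, liftHom_j (hj U hU) φ f hf⟩

/-- Symmetric algebras over the affine opens give the universal property. -/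
theorem IsAffSym.isSymAlg {j : E ⟶ B.toModule} (hj : IsAffSym j) : RelSpec.IsSymAlg E B j := by
  intro C φ
  choose f hf₀ hf₁ using fun (U : S.Opens) (hU : IsAffineOpen U) =>
    hj.exists_lift hU (astr C U) (AddMonoidHom.mk' (japp φ U) (japp_add φ U)) (japp_smul φ U)
  have hnat : ∀ (U : S.Opens) (hU : IsAffineOpen U) (r : Γ(S, U)) x,
      f _ (hU.basicOpen r) (ares B (S.basicOpen_le r) x) = ares C (S.basicOpen_le r) (f U hU x) := fun U hU r x =>
    RingHom.congr_fun (f := (f _ (hU.basicOpen r)).comp (ares B (S.basicOpen_le r)))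
      (g := (ares C (S.basicOpen_le r)).comp (f U hU))
      (hj.ringHom_ext hU (fun s => by
        simp only [RingHom.comp_apply]
        rw [ares_str, hf₀, hf₀, ares_str]) fun m => by
        simp only [RingHom.comp_apply]
        rw [← japp_res, hf₁, hf₁]
        exact japp_res φ _ m) x
  obtain ⟨ψ, hψ⟩ := exists_algHom B C f hf₀ hnat
  refine ⟨ψ, modHom_ext fun U hU x => (hψ U hU _).trans (hf₁ U hU x), fun ψ' hψ' => ?_⟩
  refine algHom_ext fun U hU x => ?_
  rw [hψ U hU]
  refine RingHom.congr_fun (f := (ψ'.hom.app (op U)).hom) (g := f U hU) (hj.ringHom_ext hU (fun r => ?_) fun m => ?_) x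
  · rw [hf₀]
    exact ConcreteCategory.congr_hom (NatTrans.congr_app ψ'.comm (op U)) r
  · rw [hf₁]
    exact congrArg (fun q : E ⟶ C.toModule => japp q U m) hψ'

end jlin

section construction

variable (E)

/-- The symmetric algebra over an open. -/
abbrev symRing (U : S.Opens) : CommRingCat.{u} := CommRingCat.of (SymmetricAlgebra Γ(S, U) Γ(E, U))

theorem symMap_aux {U V : S.Opens} (i : V ≤ U) (r : Γ(S, U)) (m : Γ(E, U)) :
    ((SymmetricAlgebra.ι Γ(S, V) Γ(E, V)).toAddMonoidHom.comp (E.presheaf.map (homOfLE i).op).hom) (r • m) =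
      ((algebraMap Γ(S, V) (symRing E V)).comp (S.presheaf.map (homOfLE i).op).hom) r *
        ((SymmetricAlgebra.ι Γ(S, V) Γ(E, V)).toAddMonoidHom.comp (E.presheaf.map (homOfLE i).op).hom) m := by
  simp only [AddMonoidHom.comp_apply, RingHom.comp_apply, LinearMap.toAddMonoidHom_coe]
  rw [← Algebra.smul_def, ← map_smul]
  exact congrArg _ (Scheme.Modules.map_smul E _ r m)

/-- Restriction of symmetric algebras. -/
def symMap {U V : S.Opens} (i : V ≤ U) : symRing E U ⟶ symRing E V :=
  CommRingCat.ofHom (liftHom (SymmetricAlgebra.isSymmetricAlgebra_ι (R := Γ(S, U)) (M := Γ(E, U))) _ _ (symMap_aux E i))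

theorem symMap_algebraMap {U V : S.Opens} (i : V ≤ U) (r : Γ(S, U)) :
    (symMap E i).hom (algebraMap Γ(S, U) (symRing E U) r) =
      algebraMap Γ(S, V) (symRing E V) (S.presheaf.map (homOfLE i).op r) :=
  liftHom_algebraMap (SymmetricAlgebra.isSymmetricAlgebra_ι (R := Γ(S, U)) (M := Γ(E, U))) _ _ (symMap_aux E i) r

theorem symMap_ι {U V : S.Opens} (i : V ≤ U) (m : Γ(E, U)) :
    (symMap E i).hom (SymmetricAlgebra.ι Γ(S, U) Γ(E, U) m) =
      SymmetricAlgebra.ι Γ(S, V) Γ(E, V) (E.presheaf.map (homOfLE i).op m) :=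
  liftHom_j (SymmetricAlgebra.isSymmetricAlgebra_ι (R := Γ(S, U)) (M := Γ(E, U))) _ _ (symMap_aux E i) m

/-- The symmetric algebras as a presheaf on the affine site. -/
def symPre : S.AffineZariskiSiteᵒᵖ ⥤ CommRingCat.{u} where
  obj U := symRing E U.unop.1
  map {U V} i := symMap E (Scheme.AffineZariskiSite.toOpens_mono i.unop.le)
  map_id U := by
    refine CommRingCat.hom_ext (ringHom_ext SymmetricAlgebra.isSymmetricAlgebra_ι (fun r => ?_) fun m => ?_)
    · rw [symMap_algebraMap]
      exact congrArg _ (ConcreteCategory.congr_hom (S.presheaf.map_id _) r)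
    · rw [symMap_ι]
      exact congrArg _ (ConcreteCategory.congr_hom (E.presheaf.map_id _) m)
  map_comp {U V W} i k := by
    refine CommRingCat.hom_ext (ringHom_ext SymmetricAlgebra.isSymmetricAlgebra_ι (fun r => ?_) fun m => ?_)
    · rw [CommRingCat.hom_comp, RingHom.comp_apply, symMap_algebraMap, symMap_algebraMap, symMap_algebraMap,
        ← ConcreteCategory.comp_apply, ← Functor.map_comp]
      rfl
    · rw [CommRingCat.hom_comp, RingHom.comp_apply, symMap_ι, symMap_ι, symMap_ι,
        ← ConcreteCategory.comp_apply, ← Functor.map_comp]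
      rfl

/-- The structure maps. -/
def symStr : (Scheme.AffineZariskiSite.toOpensFunctor S).op ⋙ S.presheaf ⟶ symPre E where
  app U := CommRingCat.ofHom (algebraMap Γ(S, U.unop.1) (symRing E U.unop.1))
  naturality U V i := by
    refine CommRingCat.hom_ext (RingHom.ext fun r => ?_)
    exact (symMap_algebraMap E _ r).symm

theorem coequifibered_symStr (hE : Coh.IsQCoh E) : (symStr E).Coequifibered := by
  refine Scheme.AffineZariskiSite.coequifibered_iff_forall_isLocalizationAway.2 fun U t => ?_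
  letI := Module.compHom Γ(E, S.basicOpen t) (algebraMap Γ(S, U.1) Γ(S, S.basicOpen t))
  haveI : IsScalarTower Γ(S, U.1) Γ(S, S.basicOpen t) Γ(E, S.basicOpen t) :=
    ⟨fun a b m => by
      change (algebraMap Γ(S, U.1) Γ(S, S.basicOpen t) a * b) • m = _
      rw [mul_smul]; rfl⟩
  haveI := U.2.isLocalization_basicOpen t
  haveI := H29Fitt.isLocalizedModule_resLin E hE U.2 t
  exact isLocalization_away (SymmetricAlgebra.isSymmetricAlgebra_ι (R := Γ(S, U.1)) (M := Γ(E, U.1)))
    (SymmetricAlgebra.isSymmetricAlgebra_ι (R := Γ(S, S.basicOpen t)) (M := Γ(E, S.basicOpen t))) t (H29Fitt.resLin E t) _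
    (fun r => symMap_algebraMap E _ r) fun m => symMap_ι E _ m

/-- A quasi-coherent algebra with the symmetric algebras as sections over the affine opens. -/
theorem exists_affSym (hE : Coh.IsQCoh E) :
    ∃ (B : RelSpec.QCAlg S) (j : E ⟶ B.toModule), IsAffSym j := by
  obtain ⟨P, p, hp, ε, hiso, hstr, hnat⟩ :=
    H7Lim.Approx.exists_affine_of_coequifibered (coequifibered_symStr E hE)
  haveI := hp
  haveI := hiso
  let B := RelSpec.QCAlg.directImage p
  let e : ∀ (U : S.Opens) (hU : IsAffineOpen U), B.presheaf.obj (op U) ≅ symRing E U :=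
    fun U hU => @asIso _ _ _ _ (ε ⟨U, hU⟩) (hiso ⟨U, hU⟩)
  have hsinv : ∀ U hU r, (e U hU).inv.hom (algebraMap Γ(S, U) (symRing E U) r) = astr B U r := fun U hU r => by
    have h := ConcreteCategory.congr_hom ((Iso.eq_comp_inv (e U hU)).2 (hstr ⟨U, hU⟩)) r
    exact h.symm
  have hninv : ∀ (U : S.Opens) (hU : IsAffineOpen U) (r : Γ(S, U)) (y : symRing E U),
      (e _ (hU.basicOpen r)).inv.hom ((symMap E (S.basicOpen_le r)).hom y) =
        ares B (S.basicOpen_le r) ((e U hU).inv.hom y) := fun U hU r y => by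
    have h : (e U hU).inv ≫ B.presheaf.map (homOfLE (S.basicOpen_le r)).op =
        symMap E (S.basicOpen_le r) ≫ (e _ (hU.basicOpen r)).inv :=
      (Iso.eq_comp_inv _).2 ((Category.assoc _ _ _).trans ((Iso.inv_comp_eq _).2 (hnat ⟨U, hU⟩ r)))
    exact (ConcreteCategory.congr_hom h y).symm
  obtain ⟨j, hj⟩ := exists_modHom E B
    (fun U hU => (e U hU).inv.hom.toAddMonoidHom.comp (SymmetricAlgebra.ι Γ(S, U) Γ(E, U)).toAddMonoidHom)
    (fun U hU r x => by
      simp only [AddMonoidHom.comp_apply, LinearMap.toAddMonoidHom_coe]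
      rw [map_smul, Algebra.smul_def]
      change (e U hU).inv.hom (_ * _) = _
      rw [map_mul, hsinv]
      rfl)
    (fun U hU r x => by
      simp only [AddMonoidHom.comp_apply, LinearMap.toAddMonoidHom_coe]
      rw [← symMap_ι E (S.basicOpen_le r) x]
      exact hninv U hU r _)
  refine ⟨B, j, fun U hU => ?_⟩
  letI := algOn B U
  let eA : SymmetricAlgebra Γ(S, U) Γ(E, U) ≃ₐ[Γ(S, U)] B.presheaf.obj (op U) :=
    { (e U hU).symm.commRingCatIsoToRingEquiv with commutes' := fun r => hsinv U hU r }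
  refine IsSymmetricAlgebra.of_equiv eA ?_
  ext m
  exact (hj U hU m).symm

end construction

section unique

variable {A B : RelSpec.QCAlg S}

theorem _root_.RelSpec.IsSymAlg.isAffSym (hE : Coh.IsQCoh E) {j : E ⟶ A.toModule}
    (hA : RelSpec.IsSymAlg E A j) : IsAffSym j := by
  obtain ⟨B, j₀, hB⟩ := exists_affSym E hE
  obtain ⟨φ, hφ, -⟩ := hA B j₀
  obtain ⟨ψ, hψ, -⟩ := hB.isSymAlg A j
  have hφ' : ∀ U m, (φ.hom.app (op U)).hom (japp j U m) = japp j₀ U m := fun U m =>
    congrArg (fun q : E ⟶ B.toModule => japp q U m) hφ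
  have hψ' : ∀ U m, (ψ.hom.app (op U)).hom (japp j₀ U m) = japp j U m := fun U m =>
    congrArg (fun q : E ⟶ A.toModule => japp q U m) hψ
  have hA' : φ ≫ ψ = 𝟙 A :=
    (hA A j).unique (modHom_ext fun U _ m => (congrArg _ (hφ' U m)).trans (hψ' U m)) (modHom_ext fun U _ m => rfl)
  have hB' : ψ ≫ φ = 𝟙 B :=
    (hB.isSymAlg B j₀).unique (modHom_ext fun U _ m => (congrArg _ (hψ' U m)).trans (hφ' U m))
      (modHom_ext fun U _ m => rfl)
  intro U hU
  letI := algOn A U
  letI := algOn B U
  let eU : B.presheaf.obj (op U) ≃ₐ[Γ(S, U)] A.presheaf.obj (op U) :=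
    { toFun := (ψ.hom.app (op U)).hom
      invFun := (φ.hom.app (op U)).hom
      left_inv := fun x => ConcreteCategory.congr_hom (congrArg (fun q : B ⟶ B => q.hom.app (op U)) hB') x
      right_inv := fun x => ConcreteCategory.congr_hom (congrArg (fun q : A ⟶ A => q.hom.app (op U)) hA') x
      map_mul' := map_mul _
      map_add' := map_add _
      commutes' := fun r => ConcreteCategory.congr_hom (NatTrans.congr_app ψ.comm (op U)) r }
  refine IsSymmetricAlgebra.of_equiv ((hB U hU).equiv.trans eU) ?_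
  ext m
  change eU ((hB U hU).equiv (SymmetricAlgebra.ι Γ(S, U) Γ(E, U) m)) = japp j U m
  rw [IsSymmetricAlgebra.equiv_apply, SymmetricAlgebra.lift_ι_apply]
  exact hψ' U m

end unique

section graded

variable {B : RelSpec.QCAlg S} {j : E ⟶ B.toModule}

/-- The standard graded algebra. -/
def IsAffSym.toGr (hj : IsAffSym j) : RelProj.QCGrAlg S where
  toQCAlg := B
  deg U hU d := letI := algOn B U; piece (hj U hU) d
  graded U hU := letI := algOn B U; gradedRing (hj U hU)
  map_mem {U V} hU hV i {d x} hx := by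
    letI := algOn B U
    letI := algOn B V
    rw [mem_piece] at hx ⊢
    have key : (gradeHom (hj V hV)).toRingHom.comp (ares B i) =
        (Polynomial.mapRingHom (ares B i)).comp (gradeHom (hj U hU)).toRingHom := by
      refine hj.ringHom_ext hU (fun r => ?_) fun m => ?_
      · have a₁ : gradeHom (hj V hV) (algebraMap Γ(S, V) (B.presheaf.obj (op V))
            (S.presheaf.map (homOfLE i).op r)) = _ := AlgHom.commutes _ _
        have a₂ : gradeHom (hj U hU) (algebraMap Γ(S, U) (B.presheaf.obj (op U)) r) = _ := AlgHom.commutes _ _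
        change gradeHom (hj V hV) (ares B i (astr B U r)) = (gradeHom (hj U hU) (astr B U r)).map (ares B i)
        rw [ares_str]
        refine a₁.trans (Eq.trans ?_ (congrArg _ a₂).symm)
        rw [Polynomial.algebraMap_apply, Polynomial.algebraMap_apply, Polynomial.map_C]
        exact congrArg _ (ares_str B i r).symm
      · change gradeHom (hj V hV) (ares B i (jlin j U m)) = (gradeHom (hj U hU) (jlin j U m)).map (ares B i)
        have e : ares B i (jlin j U m) = jlin j V (E.presheaf.map (homOfLE i).op m) := (japp_res j i m).symm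
        rw [e, gradeHom_apply, gradeHom_apply, Polynomial.map_mul, Polynomial.map_C, Polynomial.map_X, e]
    have h := RingHom.congr_fun key x
    change gradeHom (hj V hV) (ares B i x) = (gradeHom (hj U hU) x).map (ares B i) at h
    exact h.trans ((congrArg _ hx).trans (Polynomial.map_monomial _))
  str_mem U hU r := by
    letI := algOn B U
    exact algebraMap_mem (hj U hU) r

theorem IsAffSym.isGrSymAlg_toGr (hj : IsAffSym j) : RelProj.IsGrSymAlg E hj.toGr j :=
  ⟨hj.isSymAlg, fun U hU x => by letI := algOn B U; exact map_mem_one (hj U hU) x⟩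

theorem exists_isGrSymAlg (E : S.Modules) (hE : Coh.IsQCoh E) :
    ∃ (𝒮 : RelProj.QCGrAlg S) (j : E ⟶ 𝒮.toModule), RelProj.IsGrSymAlg E 𝒮 j := by
  obtain ⟨B, j, hj⟩ := exists_affSym E hE
  exact ⟨hj.toGr, j, hj.isGrSymAlg_toGr⟩

variable {𝒮 : RelProj.QCGrAlg S} {j' : E ⟶ 𝒮.toModule}

theorem deg_eq_piece (hE : Coh.IsQCoh E) (h : RelProj.IsGrSymAlg E 𝒮 j') (U : S.Opens) (hU : IsAffineOpen U)
    (d : ℕ) :
    letI := algOn 𝒮.toQCAlg U
    𝒮.deg U hU d = piece (h.1.isAffSym hE U hU) d :=
  letI := algOn 𝒮.toQCAlg U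
  eq_piece (h.1.isAffSym hE U hU) (𝒮.deg U hU) (𝒮.str_mem U hU) (h.2 U hU) d

theorem isGenDegOne (hE : Coh.IsQCoh E) (h : RelProj.IsGrSymAlg E 𝒮 j') : 𝒮.IsGenDegOne := fun U hU => by
  letI := algOn 𝒮.toQCAlg U
  rw [deg_eq_piece hE h, deg_eq_piece hE h]
  exact closure_eq_top _

theorem mem_deg_one (hE : Coh.IsQCoh E) (h : RelProj.IsGrSymAlg E 𝒮 j') {U : S.Opens} (hU : IsAffineOpen U)
    {a : 𝒮.presheaf.obj (op U)} : a ∈ 𝒮.deg U hU 1 ↔ ∃ m, japp j' U m = a := by
  letI := algOn 𝒮.toQCAlg U
  rw [deg_eq_piece hE h]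
  exact mem_piece_one _

end graded

end Groth.Agent.H11Sym
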