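import Groth.Agent.H11Sym.Emb
import Groth.Agent.H11Sym.SymSheaf
import Groth.Agent.H11Proj.RelProjExists
import Groth.Agent.H11Tilde.TwistLoc
import Groth.Agent.H11Proj.ProjProd
import Groth.Agent.H11Ample.Restrict
import Groth.Agent.H10Coh.TensorTilde

/-!
# Relative very ampleness through sections of a quasi-coherent module
-/

set_option autoImplicit false
set_option linter.style.haveILetI false

universe u

open CategoryTheory AlgebraicGeometry TopologicalSpace Opposite
open Groth.Agent.H11Proj Groth.Agent.H11Tilde Groth.Agent.H11Ample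

noncomputable section

namespace Groth.Agent.H11Sym

variable {X Y : Scheme.{u}} {q : X ⟶ Y} {L : X.Modules}

/-- `L` is very ample relative to `q` iff the sections of some quasi-coherent module on the base embed. -/
theorem isRelVeryAmple_iff :
    RelProj.IsRelVeryAmple q L ↔
      ∃ (E : Y.Modules) (_ : Coh.IsQCoh E) (u : E ⟶ (Scheme.Modules.pushforward q).obj L), Emb u := by
  constructor
  · rintro ⟨E, hE, 𝒯, j, hT, P, p, chart, hP, O1, lam, hL, r, hri, hr, ⟨e⟩⟩
    obtain ⟨v, hv, -⟩ := exists_hom_pullback hE hT hP hL r hr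
    refine ⟨E, hE, v ≫ (Scheme.Modules.pushforward q).map e.inv,
      emb_of_isImmersion hE hT hP hL hr (τ := e.symm) fun U hU n V i i' => ?_⟩
    show e.inv.app V _ = resS L i' (e.inv.app (q ⁻¹ᵁ U) (uSec v n))
    rw [hv U hU n]
    exact (congrArg (e.inv.app V) (H10Coh.mres_mres _ _ _ _).symm).trans (app_map_apply e.inv i' _)
  · rintro ⟨E, hE, u, hu⟩
    obtain ⟨𝒯, j, hT⟩ := exists_isGrSymAlg E hE
    obtain ⟨P, p, chart, hP⟩ := exists_isRelProj 𝒯
    obtain ⟨O1, lam, hL⟩ := exists_isRelTwist hP 1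
    obtain ⟨r, hr, τ, hτ⟩ := exists_toBundle hE hT hP hL hu.spans
    exact ⟨E, hE, 𝒯, j, hT, P, p, chart, hP, O1, lam, hL, r,
      isImmersion_of_emb hE hT hP hL hr hτ hu, hr, ⟨τ.symm⟩⟩

theorem isRelVeryAmple_of_iso {L' : X.Modules} (e : L ≅ L') (h : RelProj.IsRelVeryAmple q L) :
    RelProj.IsRelVeryAmple q L' := by
  obtain ⟨E, hE, 𝒯, j, hT, P, p, chart, hP, O1, lam, hL, r, hri, hr, ⟨f⟩⟩ := h
  exact ⟨E, hE, 𝒯, j, hT, P, p, chart, hP, O1, lam, hL, r, hri, hr, ⟨e.symm ≪≫ f⟩⟩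

section EmbPt

variable {E : Y.Modules} {u : E ⟶ (Scheme.Modules.pushforward q).obj L} {x : X}

theorem GenPt.base_mem_ratioRing (g : GenPt u) (r : Γ(Y, g.U)) : q.appLE g.U g.V g.le r ∈ g.ratioRing :=
  Subring.subset_closure (Or.inl ⟨r, rfl⟩)

theorem GenPt.mem_ratioRing (g : GenPt u) {c : Γ(X, g.V)} (n : Γ(E, g.U))
    (h : c • resS L g.le (uSec u g.m) = resS L g.le (uSec u n)) : c ∈ g.ratioRing :=
  Subring.subset_closure (Or.inr ⟨n, h⟩)

/-- Shrinking the standard open. -/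
theorem EmbPt.exists_refine (a : EmbPt u x) {O : X.Opens} (hx : x ∈ O) :
    ∃ b : EmbPt u x, b.U = a.U ∧ X.basicOpen b.t ≤ O ⊓ X.basicOpen a.t := by
  obtain ⟨c, hcO, hxc⟩ := a.aff.exists_basicOpen_le (V := O ⊓ X.basicOpen a.t) ⟨x, ⟨hx, a.mem⟩⟩ a.mem
  obtain ⟨N, α, hα, hc⟩ := a.surj c
  have hbas : X.basicOpen (a.t * α) = X.basicOpen c := by
    have ht : resF (X.basicOpen_le a.t) (a.t * α) = (c * resF (X.basicOpen_le a.t) a.t ^ (N + 1)) := by
      rw [map_mul, ← hc, pow_succ]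
      ring
    have h1 : X.basicOpen (resF (X.basicOpen_le a.t) (a.t * α)) = X.basicOpen (a.t * α) := by
      rw [Scheme.basicOpen_res]
      exact inf_eq_right.2 ((X.basicOpen_mul _ _).trans_le inf_le_left)
    rw [← h1, ht, Scheme.basicOpen_mul, X.basicOpen_pow _ (Nat.succ_pos N), Scheme.basicOpen_res, inf_idem]
    exact inf_eq_left.2 (X.basicOpen_le c)
  refine ⟨⟨a.U, a.hU, a.m, a.t * α, Subring.mul_mem _ a.ht hα, hbas.ge hxc, hbas ▸ a.aff.basicOpen c, fun z => ?_⟩,
    rfl, hbas.trans_le hcO⟩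
  haveI := a.aff.isLocalization_basicOpen c
  obtain ⟨⟨y, ⟨_, k, rfl⟩⟩, hy⟩ := IsLocalization.surj (Submonoid.powers c) (resF hbas.ge z)
  obtain ⟨M, β, hβ, hy'⟩ := a.surj y
  refine ⟨k + M, β * a.t ^ (N * k + k) * α ^ M,
    Subring.mul_mem _ (Subring.mul_mem _ hβ (Subring.pow_mem _ a.ht _)) (Subring.pow_mem _ hα _), ?_⟩
  let i : X.basicOpen (a.t * α) ≤ X.basicOpen a.t := (X.basicOpen_mul _ _).trans_le inf_le_left
  have e1 := congrArg (resF hbas.le) hy
  have e2 := congrArg (resF i) hy'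
  have e3 := congrArg (resF i) hc
  simp only [RingHom.algebraMap_toAlgebra, map_mul, map_pow, resF_resF, resF_self] at e1 e2 e3 ⊢
  rw [← e2, ← e1, ← e3]
  ring

/-- Moving a standard open to another module of sections. -/
theorem EmbPt.nonempty_transfer (a : EmbPt u x) {Y' : Scheme.{u}} {q' : X ⟶ Y'} {L' : X.Modules} {E' : Y'.Modules}
    {v : E' ⟶ (Scheme.Modules.pushforward q').obj L'} {U' : Y'.Opens} (hU' : IsAffineOpen U') (m' : Γ(E', U'))
    (i : (gMax v hU' m').V ≤ (gMax u a.hU a.m).V) (hle : X.basicOpen a.t ≤ (gMax v hU' m').V)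
    (hbase : ∀ r : Γ(Y, a.U), resF i (q.appLE a.U _ (gMax u a.hU a.m).le r) ∈ (gMax v hU' m').ratioRing)
    (hrat : ∀ (c : Γ(X, (gMax u a.hU a.m).V)) (n : Γ(E, a.U)),
      c • resS L (gMax u a.hU a.m).le (uSec u a.m) = resS L (gMax u a.hU a.m).le (uSec u n) →
        resF i c ∈ (gMax v hU' m').ratioRing) :
    Nonempty (EmbPt v x) := by
  have hring : ∀ c ∈ (gMax u a.hU a.m).ratioRing, resF i c ∈ (gMax v hU' m').ratioRing := fun c hc =>
    (Subring.closure_le (t := (gMax v hU' m').ratioRing.comap (resF i))).2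
      (by rintro d (⟨r, rfl⟩ | ⟨n, hn⟩); exacts [hbase r, hrat d n hn]) hc
  have hbas : X.basicOpen (resF i a.t) = X.basicOpen a.t := by
    rw [Scheme.basicOpen_res]
    exact inf_eq_right.2 hle
  refine ⟨⟨U', hU', m', resF i a.t, hring _ a.ht, hbas.ge a.mem, hbas ▸ a.aff, fun z => ?_⟩⟩
  obtain ⟨N, α, hα, e⟩ := a.surj (resF hbas.ge z)
  refine ⟨N, resF i α, hring _ hα, ?_⟩
  have h := congrArg (resF hbas.le) e
  simp only [map_mul, map_pow, resF_resF, resF_self] at h ⊢
  exact h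

/-- A module of sections containing an embedding one embeds. -/
theorem Emb.of_factor {E' : Y.Modules} {v : E' ⟶ (Scheme.Modules.pushforward q).obj L} (f : E ⟶ E')
    (hu : Emb (f ≫ v)) : Emb v := fun x => by
  obtain ⟨a⟩ := hu x
  refine a.nonempty_transfer a.hU (f.app a.U a.m) le_rfl (X.basicOpen_le _) (fun r => ?_) fun c n hn => ?_
  · exact ((congrArg (· ∈ _) (resF_self _)).mpr
      ((gMax v a.hU (f.app a.U a.m)).base_mem_ratioRing r))
  · exact (congrArg (· ∈ _) (resF_self _)).mpr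
      ((gMax v a.hU (f.app a.U a.m)).mem_ratioRing (f.app a.U n) hn)

end EmbPt

section Tensor

variable {E E' : Y.Modules} {L' : X.Modules} (u : E ⟶ (Scheme.Modules.pushforward q).obj L)
  (v : E' ⟶ (Scheme.Modules.pushforward q).obj L')

/-- Products of sections. -/
def prodPairing : Pairing E E' ((Scheme.Modules.pushforward q).obj (CohB1.tensorMod L L')) where
  toFun U m n := tm (M := L) (N := L') (uSec u m) (uSec v n)
  add_left U m m' n := by rw [uSec_add]; exact tm_add_left _ _ _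
  smul_left U r m n := by rw [uSec_smul]; exact tm_smul_left _ _ _
  add_right U m n n' := by rw [uSec_add]; exact tm_add_right _ _ _
  smul_right U r m n := by rw [uSec_smul]; exact tm_smul_right _ _ _
  res U V h m n := by rw [uSec_res, uSec_res]; exact tm_res (q.preimage_mono h) _ _

/-- The map into the sections of the tensor product. -/
def prodMap : CohB1.tensorMod E E' ⟶ (Scheme.Modules.pushforward q).obj (CohB1.tensorMod L L') :=
  tensorDesc (prodPairing u v)

theorem uSec_prodMap {U : Y.Opens} (m : Γ(E, U)) (n : Γ(E', U)) :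
    uSec (prodMap u v) (tm m n) = tm (uSec u m) (uSec v n) :=
  tensorDesc_tm (prodPairing u v) m n

/-- An embedding module times a spanning one embeds. -/
theorem Emb.prod (hL : PicF.IsInvertible L) (hL' : PicF.IsInvertible L') (hu : Emb u) (hv : Spans v) :
    Emb (prodMap u v) := fun x => by
  obtain ⟨a₀⟩ := hu x
  obtain ⟨g, hg⟩ := hv x
  obtain ⟨a, hUa, hO⟩ := a₀.exists_refine (O := g.V) hg
  have hxU : q.base x ∈ a.U := (gMax u a.hU a.m).le (X.basicOpen_le a.t a.mem)
  obtain ⟨s, s', hss, hsx⟩ := exists_basicOpen_le_affine_inter a.hU g.hU (q.base x) ⟨hxU, g.le hg⟩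
  obtain ⟨b, hUb, hb⟩ := a.exists_refine (O := q ⁻¹ᵁ Y.basicOpen s) hsx
  have hW : Y.basicOpen s ≤ b.U := (Y.basicOpen_le s).trans_eq hUb.symm
  have hW' : Y.basicOpen s ≤ g.U := hss.trans_le (Y.basicOpen_le _)
  let m₁ := E.presheaf.map (homOfLE hW).op b.m
  let m₂ := E'.presheaf.map (homOfLE hW').op g.m
  let m : Γ(CohB1.tensorMod E E', Y.basicOpen s) := tm m₁ m₂
  have hgen : (gMax (prodMap u v) (a.hU.basicOpen s) m).V =
      genAt L (uSec u b.m) ⊓ q ⁻¹ᵁ Y.basicOpen s ⊓ (genAt L' (uSec v g.m) ⊓ q ⁻¹ᵁ Y.basicOpen s) := by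
    show genAt _ (uSec (prodMap u v) m) = _
    rw [uSec_prodMap, genAt_tm hL hL', uSec_res, uSec_res, genAt_res, genAt_res]
  let i : (gMax (prodMap u v) (a.hU.basicOpen s) m).V ≤ (gMax u b.hU b.m).V :=
    hgen.trans_le (inf_le_left.trans inf_le_left)
  have key : ∀ (c : Γ(X, (gMax u b.hU b.m).V)) (n : Γ(E, b.U)),
      c • resS L (gMax u b.hU b.m).le (uSec u b.m) = resS L (gMax u b.hU b.m).le (uSec u n) →
        resF i c ∈ (gMax (prodMap u v) (a.hU.basicOpen s) m).ratioRing := fun c n hn => by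
    refine GenPt.mem_ratioRing _ (tm (E.presheaf.map (homOfLE hW).op n) m₂) ?_
    have e := congrArg (resS L i) hn
    rw [resS_smul, resS_resS, resS_resS] at e
    show resF i c • resS _ _ (uSec (prodMap u v) m) = _
    rw [uSec_prodMap, uSec_prodMap, resS_tm, resS_tm, ← tm_smul_left]
    refine congrArg (fun z => tm z _) ?_
    erw [uSec_res, uSec_res, resS_resS, resS_resS]
    exact e
  refine b.nonempty_transfer (a.hU.basicOpen s) m i ?_ (fun r => key _ (r • b.m) ?_) key
  · refine (le_inf (le_inf (X.basicOpen_le _) (hb.trans inf_le_left)) (le_inf ?_ (hb.trans inf_le_left))).trans_eq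
      hgen.symm
    exact (hb.trans inf_le_right).trans ((hO.trans inf_le_left).trans (le_genAt _ g.le g.gen))
  · exact ((congrArg (resS L _) (uSec_smul u r b.m)).trans (resS_smul _ _ _ _)).symm

/-- Tensor product with a spanned invertible module preserves very ampleness. -/
theorem isRelVeryAmple_tensor (hL : PicF.IsInvertible L) (hL' : PicF.IsInvertible L') (hE' : Coh.IsQCoh E')
    (hva : RelProj.IsRelVeryAmple q L) (hv : Spans v) :
    RelProj.IsRelVeryAmple q (CohB1.tensorMod L L') := by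
  obtain ⟨E₁, hE₁, u₁, hu₁⟩ := isRelVeryAmple_iff.1 hva
  exact isRelVeryAmple_iff.2 ⟨_, (haveI : E₁.IsQuasicoherent := hE₁; haveI : E'.IsQuasicoherent := hE';
    H10Coh.TT.isQCoh_tensorMod E₁ E'), prodMap u₁ v, hu₁.prod u₁ v hL hL' hv⟩

end Tensor

end Groth.Agent.H11Sym
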