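import Groth.Agent.H11Sym.VeryAmpleLocal
import Groth.Agent.H8Props.QCohExtend
import Mathlib.AlgebraicGeometry.Limits

/-!
# Relative very ampleness on a disjoint union of two opens
-/

set_option autoImplicit false
set_option linter.style.haveILetI false

universe u

open CategoryTheory CategoryTheory.Limits AlgebraicGeometry TopologicalSpace Opposite
open Groth.Agent.H11Proj Groth.Agent.H11Tilde Groth.Agent.H11Ample

noncomputable section

namespace Groth.Agent.H11Sym

variable {X Y : Scheme.{u}} {q : X ⟶ Y} {L : X.Modules}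

/-- Very ampleness passes to subschemes. -/
theorem isRelVeryAmple_comp_immersion {Z : Scheme.{u}} (k : Z ⟶ X) [IsImmersion k]
    (h : RelProj.IsRelVeryAmple q L) : RelProj.IsRelVeryAmple (k ≫ q) ((Scheme.Modules.pullback k).obj L) := by
  obtain ⟨E, hE, 𝒯, j, hT, P, p, chart, hP, O1, lam, hL, r, hri, hr, ⟨e⟩⟩ := h
  refine ⟨E, hE, 𝒯, j, hT, P, p, chart, hP, O1, lam, hL, k ≫ r, inferInstance, ?_,
    ⟨(Scheme.Modules.pullback k).mapIso e ≪≫ (Scheme.Modules.pullbackComp k r).app O1⟩⟩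
  rw [Category.assoc, hr]

variable {A B : X.Opens}

theorem image_preimage_comp_ι (U : Y.Opens) : A.ι ''ᵁ ((A.ι ≫ q) ⁻¹ᵁ U) = A ⊓ q ⁻¹ᵁ U := by
  rw [Scheme.Hom.comp_preimage, Scheme.Hom.image_preimage_eq_opensRange_inf, Scheme.Opens.opensRange_ι]

/-- Extension by zero of a section over one of two disjoint opens covering the space. -/
theorem existsUnique_ext (hd : A ⊓ B = ⊥) (hc : A ⊔ B = ⊤) (W : X.Opens) (s : Γ(L, A ⊓ W)) :
    ∃! t : Γ(L, W), resS L inf_le_right t = s ∧ resS L (inf_le_right : B ⊓ W ≤ W) t = 0 := by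
  let V : ULift.{u} Bool → X.Opens := fun b => cond b.down (A ⊓ W) (B ⊓ W)
  let sf : ∀ b, Γ(L, V b) := fun b => match b with | ⟨true⟩ => s | ⟨false⟩ => 0
  have hbot : ∀ {O : X.Opens}, O ≤ ⊥ → ∀ a b : Γ(L, O), a = b := fun hO a b =>
    eq_of_locally a b fun x hx => (hO hx : x ∈ (⊥ : X.Opens)).elim
  have hcompat : TopCat.Presheaf.IsCompatible L.presheaf V sf := by
    rintro ⟨_ | _⟩ ⟨_ | _⟩
    · rfl
    · exact hbot ((le_inf (inf_le_right.trans inf_le_left) (inf_le_left.trans inf_le_left)).trans hd.le) _ _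
    · exact hbot ((le_inf (inf_le_left.trans inf_le_left) (inf_le_right.trans inf_le_left)).trans hd.le) _ _
    · rfl
  have hcov : W ≤ iSup V := fun x hx => by
    rcases (hc.ge (Opens.mem_top x) : x ∈ A ⊔ B) with h | h
    · exact Opens.mem_iSup.2 ⟨⟨true⟩, h, hx⟩
    · exact Opens.mem_iSup.2 ⟨⟨false⟩, h, hx⟩
  obtain ⟨t, ht, huniq⟩ := TopCat.Sheaf.existsUnique_gluing' (⟨L.presheaf, L.isSheaf⟩ : TopCat.Sheaf Ab.{u} X)
    V W (fun b => match b with | ⟨true⟩ => homOfLE inf_le_right | ⟨false⟩ => homOfLE inf_le_right) hcov sf hcompat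
  exact ⟨t, ⟨ht ⟨true⟩, ht ⟨false⟩⟩, fun t' ht' => huniq t' fun b => match b with
    | ⟨true⟩ => ht'.1
    | ⟨false⟩ => ht'.2⟩

theorem not_isGen_zero {V : X.Opens} {x : X} (hx : x ∈ V) : ¬ IsGen L (0 : Γ(L, V)) := fun h => by
  have h1 := (h x hx).1 (a₁ := (0 : X.presheaf.stalk x)) (a₂ := 1)
    (by simp only [map_zero, smul_zero])
  exact zero_ne_one h1

/-- The sections over one part, extended by zero, embed that part. -/
theorem exists_extMap (hd : A ⊓ B = ⊥) (hc : A ⊔ B = ⊤) {E : Y.Modules}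
    (u₁ : E ⟶ (Scheme.Modules.pushforward (A.ι ≫ q)).obj (L.restrict A.ι)) :
    ∃ w : E ⟶ (Scheme.Modules.pushforward q).obj L,
      ∀ (x : A.toScheme), Nonempty (EmbPt u₁ x) → Nonempty (EmbPt w (A.ι.base x)) := by
  let s : ∀ U : Y.Opens, Γ(E, U) → Γ(L, A ⊓ q ⁻¹ᵁ U) := fun U m =>
    resS L (image_preimage_comp_ι (q := q) U).ge (toImg A L (uSec u₁ m))
  choose T hT hTu using fun (U : Y.Opens) (m : Γ(E, U)) => existsUnique_ext hd hc (q ⁻¹ᵁ U) (s U m)
  have hTadd : ∀ U a b, T U (a + b) = T U a + T U b := fun U a b =>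
    (hTu U (a + b) _ ⟨by
      refine (map_add _ _ _).trans ?_
      rw [show L.presheaf.map _ (T U a) = _ from (hT U a).1, show L.presheaf.map _ (T U b) = _ from (hT U b).1]
      show resS L _ (toImg A L (uSec u₁ a)) + resS L _ (toImg A L (uSec u₁ b)) = resS L _ (toImg A L (uSec u₁ (a + b)))
      rw [uSec_add]
      exact (map_add _ _ _).symm, by
      refine (map_add _ _ _).trans ?_
      rw [show L.presheaf.map _ (T U a) = _ from (hT U a).2, show L.presheaf.map _ (T U b) = _ from (hT U b).2,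
        add_zero]⟩).symm
  have hTsmul : ∀ U (c : Γ(Y, U)) m, T U (c • m) = q.app U c • T U m := fun U c m =>
    (hTu U (c • m) _ ⟨by
      rw [resS_smul, (hT U m).1]
      show _ = resS L _ (toImg A L (uSec u₁ (c • m)))
      rw [uSec_smul, toImg_smul', resS_smul]
      refine congrArg (· • _) ?_
      show resF _ (q.app U c) = resF (image_preimage_comp_ι (q := q) U).ge ((A.ι ≫ q).app U c)
      show resF _ (q.app U c) = resF (image_preimage_comp_ι (q := q) U).ge (A.ι.app (q ⁻¹ᵁ U) (q.app U c))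
      rw [Scheme.Opens.ι_app]
      exact (resF_resF _ _ _).symm, by
      rw [resS_smul, (hT U m).2, smul_zero]⟩).symm
  have hTres : ∀ (U : Y.Opens) (U' : Y.Opens) (i : U' ≤ U) m,
      T U' (E.presheaf.map (homOfLE i).op m) = resS L (q.preimage_mono i) (T U m) := fun U U' i m =>
    (hTu U' _ _ ⟨by
      rw [resS_resS, ← resS_resS L (inf_le_inf_left A (q.preimage_mono i)) inf_le_right, (hT U m).1]
      show resS L _ (resS L _ (toImg A L (uSec u₁ m))) = resS L _ (toImg A L (uSec u₁ (E.presheaf.map (homOfLE i).op m)))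
      rw [uSec_res]
      refine Eq.trans ?_ (congrArg (resS L _) (toImg_res A L ((A.ι ≫ q).preimage_mono i) (uSec u₁ m))).symm
      exact (resS_resS L _ _ (toImg A L (uSec u₁ m))).trans (resS_resS L _ _ (toImg A L (uSec u₁ m))).symm, by
      rw [resS_resS, ← resS_resS L (inf_le_inf_left B (q.preimage_mono i)) inf_le_right, (hT U m).2]
      exact map_zero _⟩).symm
  obtain ⟨w, hw⟩ := exists_hom_of_affine E ((Scheme.Modules.pushforward q).obj L)
    (fun U _ => ((AddMonoidHom.mk' (T U) (hTadd U) : Γ(E, U) →+ Γ(L, q ⁻¹ᵁ U)) :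
      Γ(E, U) →+ Γ((Scheme.Modules.pushforward q).obj L, U)))
    (fun U _ c m => hTsmul U c m) (fun U _ r m => hTres U _ (Y.basicOpen_le r) m)
  refine ⟨w, fun x ⟨a⟩ => ?_⟩
  let g := gMax w a.hU a.m
  let g' := gMax u₁ a.hU a.m
  have hwA : ∀ n : Γ(E, a.U), resS L inf_le_right (uSec w n) = s a.U n := fun n => by
    rw [show uSec w n = T a.U n from hw a.U a.hU n]
    exact (hT a.U n).1
  have hV : g.V = A.ι ''ᵁ g'.V := by
    have hA : g.V ≤ A := fun y hy => by
      rcases (hc.ge (Opens.mem_top y) : y ∈ A ⊔ B) with h | h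
      · exact h
      · exfalso
        have hgen := (isGen_genAt (uSec w a.m)).res (inf_le_left : g.V ⊓ B ≤ g.V)
        refine not_isGen_zero (L := L) (x := y) (V := g.V ⊓ B) ⟨hy, h⟩ ?_
        refine (congrArg (IsGen L) ?_).mp hgen
        have h2 := congrArg (resS L (le_inf inf_le_right (inf_le_left.trans g.le) : g.V ⊓ B ≤ B ⊓ q ⁻¹ᵁ a.U))
          ((congrArg (resS L inf_le_right) (hw a.U a.hU a.m)).trans (hT a.U a.m).2)
        rw [resS_resS] at h2
        exact (resS_resS L _ _ _).trans (h2.trans (map_zero _))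
    show genAt L (uSec w a.m) = A.ι ''ᵁ genAt (L.restrict A.ι) (uSec u₁ a.m)
    rw [image_genAt_restrict]
    have h1 : genAt L (uSec w a.m) = genAt L (resS L (inf_le_right : A ⊓ q ⁻¹ᵁ a.U ≤ q ⁻¹ᵁ a.U) (uSec w a.m)) := by
      rw [genAt_res]
      exact (inf_eq_left.2 (le_inf hA g.le)).symm
    rw [h1, hwA, show s a.U a.m = resS L _ (toImg A L (uSec u₁ a.m)) from rfl, genAt_res,
      inf_eq_left.2 ((genAt_le _).trans (image_preimage_comp_ι (q := q) a.U).le)]
  let φ : Γ(A.toScheme, g'.V) →+* Γ(X, g.V) := resF hV.le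
  have hφ : ∀ c ∈ g'.ratioRing, φ c ∈ g.ratioRing := fun c hc' =>
    (Subring.closure_le (t := g.ratioRing.comap φ)).2 (by
      rintro d (⟨r, rfl⟩ | ⟨n, hn⟩)
      · have k : φ ((A.ι ≫ q).appLE a.U g'.V g'.le r) = q.appLE a.U g.V g.le r := by
          rw [← Scheme.Hom.appLE_comp_appLE A.ι q a.U (q ⁻¹ᵁ a.U) g'.V le_rfl g'.le, CommRingCat.comp_apply,
            Scheme.Opens.ι_appLE]
          exact (resF_resF _ _ _).trans (congr($(Scheme.Hom.appLE_map q _ _) r))
        exact Subring.mem_comap.2 ((congrArg (· ∈ g.ratioRing) k).mpr (g.base_mem_ratioRing _))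
      · refine g.mem_ratioRing n ?_
        have h := congrArg (fun t => resS L hV.le (toImg A L t)) hn
        simp only [toImg_smul', resS, toImg_res, H10Coh.mres_mres] at h
        rw [Scheme.Modules.map_smul, H10Coh.mres_mres] at h
        have k : ∀ n, resS L g.le (uSec w n) = resS L (hV.le.trans (Scheme.Hom.image_mono A.ι g'.le)) (toImg A L (uSec u₁ n)) :=
          fun n => by
          have hle : g.V ≤ A ⊓ q ⁻¹ᵁ a.U :=
            (hV.le.trans (Scheme.Hom.image_mono A.ι g'.le)).trans (image_preimage_comp_ι (q := q) a.U).le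
          rw [show resS L g.le (uSec w n) = resS L hle (resS L inf_le_right (uSec w n)) from
            (resS_resS L _ _ _).symm, hwA]
          exact resS_resS L _ _ _
        show φ d • resS L g.le (uSec w a.m) = resS L g.le (uSec w n)
        rw [k, k]
        exact h) hc'
  have hbas : X.basicOpen (φ a.t) = A.ι ''ᵁ A.toScheme.basicOpen a.t := by
    show X.basicOpen (resF hV.le _) = _
    rw [Scheme.basicOpen_res]
    refine Eq.trans ?_ (Scheme.image_basicOpen A.ι a.t).symm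
    rw [Scheme.Opens.ι_appIso]
    exact inf_eq_right.2 ((X.basicOpen_le _).trans hV.ge)
  refine ⟨⟨a.U, a.hU, a.m, φ a.t, hφ _ a.ht, hbas.ge ⟨x, a.mem, rfl⟩,
    hbas ▸ a.aff.image_of_isOpenImmersion _, fun z => ?_⟩⟩
  obtain ⟨N, α, hα, h⟩ := a.surj (resF hbas.ge z)
  refine ⟨N, φ α, hφ _ hα, ?_⟩
  let T' : Γ(X, A.ι ''ᵁ A.toScheme.basicOpen a.t) := resF (A.toScheme.basicOpen_le a.t) a.t
  let A' : Γ(X, A.ι ''ᵁ A.toScheme.basicOpen a.t) := resF (A.toScheme.basicOpen_le a.t) α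
  have h2 : resF hbas.ge z * T' ^ N = A' := h
  have k : ∀ c : Γ(A.toScheme, g'.V), resF (X.basicOpen_le (φ a.t)) (φ c) =
      resF hbas.le (resF (A.toScheme.basicOpen_le a.t) c) := fun c => by
    rw [show φ c = resF hV.le c from rfl, resF_resF]
    refine Eq.trans ?_ (resF_resF hbas.le (Scheme.Hom.image_mono A.ι (A.toScheme.basicOpen_le a.t)) c).symm
    rfl
  have h' := congrArg (resF hbas.le) h2
  rw [map_mul, map_pow, resF_resF, resF_self, show resF hbas.le T' = _ from (k a.t).symm,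
    show resF hbas.le A' = _ from (k α).symm] at h'
  exact h'

theorem isRelVeryAmple_of_isCompl (hd : A ⊓ B = ⊥) (hc : A ⊔ B = ⊤)
    (hA : RelProj.IsRelVeryAmple (A.ι ≫ q) (L.restrict A.ι)) (hB : RelProj.IsRelVeryAmple (B.ι ≫ q) (L.restrict B.ι)) :
    RelProj.IsRelVeryAmple q L := by
  obtain ⟨E₁, hE₁, u₁, hu₁⟩ := isRelVeryAmple_iff.1 hA
  obtain ⟨E₂, hE₂, u₂, hu₂⟩ := isRelVeryAmple_iff.1 hB
  obtain ⟨w₁, hw₁⟩ := exists_extMap hd hc u₁
  obtain ⟨w₂, hw₂⟩ := exists_extMap (inf_comm A B ▸ hd) (sup_comm A B ▸ hc) u₂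
  have hfac : ∀ {E : Y.Modules} (f : E ⟶ E₁ ⊞ E₂) (w : E ⟶ (Scheme.Modules.pushforward q).obj L) (y : X),
      f ≫ biprod.desc w₁ w₂ = w → Nonempty (EmbPt w y) → Nonempty (EmbPt (biprod.desc w₁ w₂) y) := by
    intro E f w y hf ⟨a⟩
    subst hf
    refine a.nonempty_transfer (v := biprod.desc w₁ w₂) a.hU (f.app a.U a.m) le_rfl (X.basicOpen_le _) (fun r => ?_)
      fun c n hn => ?_
    · exact ((congrArg (· ∈ _) (resF_self _)).mpr
        ((gMax (biprod.desc w₁ w₂) a.hU (f.app a.U a.m)).base_mem_ratioRing r))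
    · exact (congrArg (· ∈ _) (resF_self _)).mpr
        ((gMax (biprod.desc w₁ w₂) a.hU (f.app a.U a.m)).mem_ratioRing (f.app a.U n) hn)
  haveI : E₁.IsQuasicoherent := hE₁
  haveI : E₂.IsQuasicoherent := hE₂
  refine isRelVeryAmple_iff.2 ⟨E₁ ⊞ E₂, H8Props.QCohExtend.isQuasicoherent_biprod E₁ E₂, biprod.desc w₁ w₂, fun y => ?_⟩
  rcases (hc.ge (Opens.mem_top y) : y ∈ A ⊔ B) with h | h
  · exact hfac biprod.inl w₁ y (biprod.inl_desc w₁ w₂) (hw₁ ⟨y, h⟩ (hu₁ _))
  · exact hfac biprod.inr w₂ y (biprod.inr_desc w₁ w₂) (hw₂ ⟨y, h⟩ (hu₂ _))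

end Groth.Agent.H11Sym
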