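import Groth.Agent.H11Sym.SymSheaf
import Mathlib.AlgebraicGeometry.Morphisms.FiniteType
import Mathlib.AlgebraicGeometry.Morphisms.ClosedImmersion

/-!
# Properties of relative spectra and of vector bundles read over the affine opens
-/

set_option autoImplicit false
set_option linter.style.haveILetI false

universe u

open CategoryTheory AlgebraicGeometry TopologicalSpace Opposite

noncomputable section

namespace Groth.Agent.H11Sym

variable {S : Scheme.{u}}

theorem iSup_preimage_π (A : RelSpec.QCAlg S) : ⨆ U : S.affineOpens, A.π ⁻¹ᵁ U.1 = ⊤ := by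
  rw [← Scheme.Hom.preimage_iSup, iSup_affineOpens_eq_top, Scheme.Hom.preimage_top]

/-- The relative spectrum covered by its charts. -/
def chartCover (A : RelSpec.QCAlg S) : A.spec.OpenCover where
  I₀ := S.affineOpens
  X U := Spec (A.presheaf.obj (op U.1))
  f U := A.ι U.1 U.2
  mem₀ := by
    rw [Scheme.presieve₀_mem_precoverage_iff]
    refine ⟨fun x => ?_, inferInstance⟩
    obtain ⟨U, hU⟩ := Opens.mem_iSup.1 ((iSup_preimage_π A).ge (Opens.mem_top x))
    rw [A.π_preimage U.1 U.2] at hU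
    exact ⟨U, hU⟩

theorem locallyOfFiniteType_π (A : RelSpec.QCAlg S)
    (h : ∀ U : S.Opens, IsAffineOpen U → (A.str.app (op U)).hom.FiniteType) : LocallyOfFiniteType A.π := by
  refine IsZariskiLocalAtSource.of_openCover (chartCover A) fun U => ?_
  change LocallyOfFiniteType (A.ι U.1 U.2 ≫ A.π)
  rw [A.ι_π]
  haveI : LocallyOfFiniteType (Spec.map (A.str.app (op U.1))) :=
    (HasRingHomProperty.Spec_iff (P := @LocallyOfFiniteType)).2 (h U.1 U.2)
  infer_instance

theorem isClosedImmersion_specMap {A B : RelSpec.QCAlg S} (φ : A ⟶ B)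
    (h : ∀ U : S.Opens, IsAffineOpen U → Function.Surjective (φ.hom.app (op U)).hom) :
    IsClosedImmersion (RelSpec.QCAlg.specMap φ) := by
  refine IsZariskiLocalAtTarget.of_iSup_eq_top (fun U : S.affineOpens => A.π ⁻¹ᵁ U.1) (iSup_preimage_π A) fun U => ?_
  haveI : IsClosedImmersion (Spec.map (φ.hom.app (op U.1))) := IsClosedImmersion.spec_of_surjective _ (h U.1 U.2)
  have hr : A.π ⁻¹ᵁ U.1 = (A.ι U.1 U.2).opensRange := A.π_preimage U.1 U.2
  rw [hr]
  have hr' : RelSpec.QCAlg.specMap φ ⁻¹ᵁ (A.ι U.1 U.2).opensRange = (B.ι U.1 U.2).opensRange := by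
    rw [← hr, ← B.π_preimage U.1 U.2, ← Scheme.Hom.comp_preimage, RelSpec.QCAlg.specMap_π]
  have e : Arrow.mk (Spec.map (φ.hom.app (op U.1))) ≅
      Arrow.mk (RelSpec.QCAlg.specMap φ ∣_ (A.ι U.1 U.2).opensRange) :=
    Arrow.isoMk ((B.ι U.1 U.2).isoOpensRange ≪≫ B.spec.isoOfEq hr'.symm) (A.ι U.1 U.2).isoOpensRange (by
      rw [← cancel_mono (A.ι U.1 U.2).opensRange.ι]
      simp [RelSpec.QCAlg.ι_specMap])
  exact (MorphismProperty.arrow_mk_iso_iff @IsClosedImmersion e).1 inferInstance

variable {E : S.Modules} {A : RelSpec.QCAlg S} {j : E ⟶ A.toModule}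

theorem IsAffSym.finiteType_str (hj : IsAffSym j) {U : S.Opens} (hU : IsAffineOpen U)
    [Module.Finite Γ(S, U) Γ(E, U)] : (A.str.app (op U)).hom.FiniteType := by
  letI := algOn A U
  obtain ⟨s, hs⟩ := (Module.Finite.fg_top : (⊤ : Submodule Γ(S, U) Γ(E, U)).FG)
  have key : Algebra.adjoin Γ(S, U) ((jlin j U) '' (s : Set Γ(E, U))) = ⊤ := by
    refine eq_top_iff.2 fun a ha => ?_
    clear ha
    induction a using (hj U hU).induction with
    | algebraMap r => exact Subalgebra.algebraMap_mem _ r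
    | ι m =>
      have hm : m ∈ Submodule.span Γ(S, U) (s : Set Γ(E, U)) := hs.symm ▸ Submodule.mem_top
      exact (Submodule.span_le.2 (fun x hx => Algebra.subset_adjoin ⟨x, hx, rfl⟩) :
        Submodule.span Γ(S, U) (s : Set Γ(E, U)) ≤
          (Subalgebra.toSubmodule (Algebra.adjoin Γ(S, U) ((jlin j U) '' (s : Set Γ(E, U))))).comap (jlin j U)) hm
    | mul a b ha hb => exact Subalgebra.mul_mem _ ha hb
    | add a b ha hb => exact add_mem ha hb
  classical
  exact ⟨⟨s.image (jlin j U), by rw [Finset.coe_image]; exact key⟩⟩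

end Groth.Agent.H11Sym
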