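import Groth.Agent.H11Sym.BundleUP

/-!
# The universal property of a projective bundle
-/

set_option autoImplicit false
set_option linter.style.haveILetI false

universe u

open CategoryTheory AlgebraicGeometry TopologicalSpace Opposite
open Groth.Agent.H11Proj Groth.Agent.H11Tilde

noncomputable section

namespace Groth.Agent.H11Sym

variable {X Y P : Scheme.{u}} {E : Y.Modules} {𝒯 : RelProj.QCGrAlg Y} {j : E ⟶ 𝒯.toModule} {p : P ⟶ Y}
  {chart : ∀ (U : Y.Opens) (hU : IsAffineOpen U), (((p ⁻¹ᵁ U : P.Opens) : Scheme.{u}) ≅ Proj (𝒯.deg U hU))}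
  {O1 : P.Modules} {lam : ∀ (U : Y.Opens) (hU : IsAffineOpen U),
    O1 ⟶ (Scheme.Modules.pushforward (RelProj.emb p chart U hU)).obj (GrTwist.twist (𝒯.deg U hU) 1)}
  (hE : Coh.IsQCoh E) (hT : RelProj.IsGrSymAlg E 𝒯 j) (hP : RelProj.IsRelProj 𝒯 p chart)
  (hL : RelProj.IsRelTwist 𝒯 p chart 1 O1 lam)
  {q : X ⟶ Y} {L : X.Modules} {u : E ⟶ (Scheme.Modules.pushforward q).obj L}

namespace GenPt

variable (g : GenPt u)

/-- The functions on the open of `P(E)` of a generating point, to the functions on its open. -/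
def evalHom : Γ(P, dOpen (𝒯 := 𝒯) (j := j) (chart := chart) g.hU g.m) ⟶ Γ(X, g.V) :=
  ((RelProj.emb p chart g.U g.hU).appIso _).hom ≫
    H11Tilde.chartHom (𝒯.deg g.U g.hU) (g.dehom hE hT) (japp_mem hT g.hU g.m) (g.dehom_self hE hT)

theorem evalHom_kappa {k : ℕ} {a : 𝒯.presheaf.obj (op g.U)} (ha : a ∈ 𝒯.deg g.U g.hU k) :
    g.evalHom (chart := chart) hE hT
      (kappa (chart := chart) g.hU g.m (H11Tilde.ratio (𝒯.deg g.U g.hU) (japp_mem hT g.hU g.m) ha)) =
        g.dehom hE hT a := by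
  let i := (RelProj.emb p chart g.U g.hU).appIso
    (Proj.basicOpen (𝒯.deg g.U g.hU) (japp (B := 𝒯.toQCAlg) j g.U g.m))
  let ρ := H11Tilde.ratio (𝒯.deg g.U g.hU) (japp_mem hT g.hU g.m) ha
  change H11Tilde.chartHom (𝒯.deg g.U g.hU) (g.dehom hE hT) (japp_mem hT g.hU g.m) (g.dehom_self hE hT)
    (i.hom (i.inv ρ)) = _
  have e : i.hom (i.inv ρ) = ρ := ConcreteCategory.congr_hom i.inv_hom_id ρ
  exact (congrArg _ e).trans (H11Tilde.chartHom_ratio _ _ _ _ ha)

theorem chartMor_eq :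
    g.chartMor chart hE hT = g.V.toSpecΓ ≫ Spec.map (g.evalHom (chart := chart) hE hT) ≫
      (isAffineOpen_dOpen (chart := chart) hT g.hU g.m).fromSpec := by
  rw [chartMor, projChart_eq_chartHom _ _ _ (g.dehom_self hE hT), evalHom, Spec.map_comp,
    Scheme.Hom.appIso_hom']
  simp only [Category.assoc]
  refine congrArg (g.V.toSpecΓ ≫ Spec.map _ ≫ ·) ?_
  exact (IsAffineOpen.SpecMap_appLE_fromSpec (RelProj.emb p chart g.U g.hU)
    (isAffineOpen_dOpen (chart := chart) hT g.hU g.m)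
    (Proj.isAffineOpen_basicOpen (𝒯.deg g.U g.hU) (japp j g.U g.m) (japp_mem hT g.hU g.m) Nat.one_pos)
    ((RelProj.emb p chart g.U g.hU).preimage_image_eq _).ge).symm

variable {g}

theorem le_preimage_dOpen {r : X ⟶ P} (hr : g.V.ι ≫ r = g.chartMor chart hE hT) :
    g.V ≤ r ⁻¹ᵁ dOpen (𝒯 := 𝒯) (j := j) (chart := chart) g.hU g.m :=
  H11Tilde.le_preimage_of_ι_comp _ (hr.trans (g.chartMor_eq hE hT))

theorem appLE_kappa {r : X ⟶ P} (hr : g.V.ι ≫ r = g.chartMor chart hE hT) {k : ℕ}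
    {a : 𝒯.presheaf.obj (op g.U)} (ha : a ∈ 𝒯.deg g.U g.hU k) :
    r.appLE _ g.V (le_preimage_dOpen hE hT hr)
      (kappa (chart := chart) g.hU g.m (H11Tilde.ratio (𝒯.deg g.U g.hU) (japp_mem hT g.hU g.m) ha)) =
        g.dehom hE hT a := by
  rw [H11Tilde.appLE_eq_of_ι_comp _ (hr.trans (g.chartMor_eq hE hT))]
  exact g.evalHom_kappa hE hT ha

end GenPt

/-- The canonical section pulled back. -/
def ksPull (r : X ⟶ P) {U : Y.Opens} (hU : IsAffineOpen U) (n : Γ(E, U)) :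
    Γ((Scheme.Modules.pullback r).obj O1, r ⁻¹ᵁ (p ⁻¹ᵁ U)) :=
  OmegaSh.pullSect r O1 _ (ks hT hL hU n)

theorem ksPull_smul_of_eq {r : X ⟶ P} {U : Y.Opens} (hU : IsAffineOpen U) (m n : Γ(E, U)) {V : X.Opens}
    (hV : V ≤ r ⁻¹ᵁ dOpen (𝒯 := 𝒯) (j := j) (chart := chart) hU m) (i : V ≤ r ⁻¹ᵁ (p ⁻¹ᵁ U)) :
    resS _ i (ksPull hT hL r hU n) =
      r.appLE _ V hV (kappa (chart := chart) hU m
        (H11Tilde.ratio (𝒯.deg U hU) (japp_mem hT hU m) (japp_mem hT hU n))) •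
        resS _ i (ksPull hT hL r hU m) := by
  have h := congrArg (fun z => resS ((Scheme.Modules.pullback r).obj O1) hV
    (OmegaSh.pullSect r O1 _ z)) (ks_eq_kappa_smul hT hL hU m n)
  simp only [OmegaSh.pullSect_smul, resS_smul, resS, H11Tilde.pullSect_res, H10Coh.mres_mres] at h ⊢
  exact h

include hE in
theorem isGen_ksPull {r : X ⟶ P} {U : Y.Opens} (hU : IsAffineOpen U) (m : Γ(E, U)) {V : X.Opens}
    (hV : V ≤ r ⁻¹ᵁ dOpen (𝒯 := 𝒯) (j := j) (chart := chart) hU m) (i : V ≤ r ⁻¹ᵁ (p ⁻¹ᵁ U)) :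
    IsGen ((Scheme.Modules.pullback r).obj O1) (resS _ i (ksPull hT hL r hU m)) := by
  have e := genAt_ks hE hT hL hU m
  have h := ((isGen_genAt (ks hT hL hU m)).pullSect r).res (hV.trans_eq (congrArg (r ⁻¹ᵁ ·) e.symm))
  simp only [resS, H11Tilde.pullSect_res, H10Coh.mres_mres] at h
  exact h

include hE hT hP hL in
theorem exists_hom_pullback (r : X ⟶ P) (hr : r ≫ p = q) :
    ∃ v : E ⟶ (Scheme.Modules.pushforward q).obj ((Scheme.Modules.pullback r).obj O1),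
      (∀ (U : Y.Opens) (hU : IsAffineOpen U) (n : Γ(E, U)),
        uSec v n = resS _ (by rw [← hr]; exact le_rfl) (ksPull hT hL r hU n)) ∧ Spans v := by
  subst hr
  obtain ⟨φ, hφ⟩ := exists_canon hE hT hP hL
  let v : E ⟶ (Scheme.Modules.pushforward (r ≫ p)).obj ((Scheme.Modules.pullback r).obj O1) :=
    φ ≫ (Scheme.Modules.pushforward p).map ((Scheme.Modules.pullbackPushforwardAdjunction r).unit.app O1)
  have hv : ∀ (U : Y.Opens) (hU : IsAffineOpen U) (n : Γ(E, U)), uSec v n = ksPull hT hL r hU n :=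
    fun U hU n => congrArg (((Scheme.Modules.pullbackPushforwardAdjunction r).unit.app O1).app _) (hφ U hU n)
  refine ⟨v, fun U hU n => (hv U hU n).trans (H10Coh.mres_self _ _ _).symm, fun x => ?_⟩
  obtain ⟨U, hU, m, hm⟩ := exists_mem_dOpen hE hT (chart := chart) (r.base x)
  refine ⟨⟨U, hU, m, r ⁻¹ᵁ dOpen (𝒯 := 𝒯) (j := j) (chart := chart) hU m,
    r.preimage_mono (dOpen_le hU m), ?_⟩, hm⟩
  rw [hv U hU]
  exact isGen_ksPull hE hT hL hU m le_rfl _

include hP in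
theorem resS_ksPull_res (r : X ⟶ P) {U W : Y.Opens} (hU : IsAffineOpen U) (hW : IsAffineOpen W) (s : Γ(Y, U))
    (es : W = Y.basicOpen s) (i : W ≤ U) (n : Γ(E, U)) {V : X.Opens} (h₁ : V ≤ r ⁻¹ᵁ (p ⁻¹ᵁ W))
    (h₂ : V ≤ r ⁻¹ᵁ (p ⁻¹ᵁ U)) :
    resS ((Scheme.Modules.pullback r).obj O1) h₁ (ksPull hT hL r hW (E.presheaf.map (homOfLE i).op n)) =
      resS ((Scheme.Modules.pullback r).obj O1) h₂ (ksPull hT hL r hU n) := by
  have e := congrArg (fun z => resS ((Scheme.Modules.pullback r).obj O1) h₁ (OmegaSh.pullSect r O1 _ z))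
    (ks_res hT hP hL hU hW s es i n).symm
  exact e.trans ((congrArg (resS ((Scheme.Modules.pullback r).obj O1) h₁)
    (H11Tilde.pullSect_res r O1 (p.preimage_mono i) _)).trans (H10Coh.mres_mres _ _ _ _))

/-- `τ` identifies the pulled back canonical sections with the given ones. -/
def MatchKs (r : X ⟶ P) (u : E ⟶ (Scheme.Modules.pushforward q).obj L)
    (τ : (Scheme.Modules.pullback r).obj O1 ≅ L) : Prop :=
  ∀ (U : Y.Opens) (hU : IsAffineOpen U) (n : Γ(E, U)) (V : X.Opens) (i : V ≤ r ⁻¹ᵁ (p ⁻¹ᵁ U))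
    (i' : V ≤ q ⁻¹ᵁ U), τ.hom.app V (resS _ i (ksPull hT hL r hU n)) = resS L i' (uSec u n)

include hE hT hP hL in
theorem chartMor_of_match {r : X ⟶ P} (hr : r ≫ p = q) {τ : (Scheme.Modules.pullback r).obj O1 ≅ L}
    (hτ : MatchKs hT hL r u τ) (g : GenPt u) : g.V.ι ≫ r = g.chartMor chart hE hT := by
  subst hr
  have i : g.V ≤ r ⁻¹ᵁ (p ⁻¹ᵁ g.U) := g.le
  have hgen' : IsGen ((Scheme.Modules.pullback r).obj O1) (resS _ i (ksPull hT hL r g.hU g.m)) := by
    have h := g.gen.map_iso τ.symm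
    rw [← hτ g.U g.hU g.m g.V i g.le] at h
    simp only [Iso.symm_hom] at h
    rw [← ConcreteCategory.comp_apply, ← Scheme.Modules.Hom.comp_app, Iso.hom_inv_id] at h
    exact h
  have hV : g.V ≤ r ⁻¹ᵁ dOpen (𝒯 := 𝒯) (j := j) (chart := chart) g.hU g.m :=
    ((H11Proj.le_genAt _ i hgen').trans_eq
      (genAt_pullSect (isInvertible_twist_one hE hT hP hL) _)).trans_eq
        (congrArg (r ⁻¹ᵁ ·) (genAt_ks hE hT hL g.hU g.m))
  rw [g.chartMor_eq hE hT,
    H11Tilde.ι_comp_eq_fromSpec r (isAffineOpen_dOpen (chart := chart) hT g.hU g.m) g.V hV]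
  refine congrArg (fun φ => g.V.toSpecΓ ≫ Spec.map φ ≫ _) ?_
  let iso := (RelProj.emb p chart g.U g.hU).appIso
    (Proj.basicOpen (𝒯.deg g.U g.hU) (japp (B := 𝒯.toQCAlg) j g.U g.m))
  refine (cancel_epi iso.inv).1 (H11Tilde.ringHom_ext_ratio (𝒯.deg g.U g.hU) (japp_mem hT g.hU g.m) fun k a ha => ?_)
  change r.appLE _ g.V hV (kappa (chart := chart) g.hU g.m _) =
    g.evalHom (chart := chart) hE hT (kappa (chart := chart) g.hU g.m _)
  rw [g.evalHom_kappa hE hT ha]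
  let dh : 𝒯.presheaf.obj (op g.U) →+* Γ(X, g.V) :=
    ((iso.inv ≫ r.appLE _ g.V hV).hom.comp (Polynomial.evalRingHom 1)).comp
      (H11Tilde.dehom (𝒯.deg g.U g.hU) (japp_mem hT g.hU g.m))
  have hdh : ∀ {l : ℕ} {b : 𝒯.presheaf.obj (op g.U)} (hb : b ∈ 𝒯.deg g.U g.hU l),
      dh b = r.appLE _ g.V hV (kappa (chart := chart) g.hU g.m
        (H11Tilde.ratio (𝒯.deg g.U g.hU) (japp_mem hT g.hU g.m) hb)) := fun {l b} hb => by
    simp only [dh, RingHom.comp_apply, H11Tilde.dehom_of_mem _ (japp_mem hT g.hU g.m) hb, Polynomial.coe_evalRingHom,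
      Polynomial.eval_monomial, one_pow, mul_one]
    rfl
  have he : dh = g.dehom hE hT := by
    refine g.dehom_ext hE hT (fun s => ?_) fun n => ?_
    · refine (hdh (𝒯.str_mem g.U g.hU s)).trans ?_
      rw [← kappa_str hE hT hP g.hU g.m s, ← ConcreteCategory.comp_apply, Scheme.Hom.appLE_comp_appLE]
    · rw [hdh (japp_mem hT g.hU n), ← hτ g.U g.hU g.m g.V i g.le, ← Scheme.Modules.Hom.app_smul,
        ← ksPull_smul_of_eq hT hL g.hU g.m n hV i]
      exact hτ g.U g.hU n g.V i g.le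
  rw [← hdh ha, he]

include hE hT hP hL in
/-- The universal property of `P(E)`: existence. -/
theorem exists_toBundle (hu : Spans u) :
    ∃ r : X ⟶ P, r ≫ p = q ∧ ∃ τ : (Scheme.Modules.pullback r).obj O1 ≅ L, MatchKs hT hL r u τ := by
  obtain ⟨r, hr, hrp⟩ := exists_hom_of_spans hE hT hP u hu
  subst hrp
  refine ⟨r, rfl, ?_⟩
  let Q := (Scheme.Modules.pullback r).obj O1
  let e : ∀ g : GenPt u, Γ(Q, g.V) := fun g =>
    resS Q (show g.V ≤ r ⁻¹ᵁ (p ⁻¹ᵁ g.U) from g.le) (ksPull hT hL r g.hU g.m)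
  have he : ∀ g, IsGen Q (e g) := fun g =>
    isGen_ksPull hE hT hL g.hU g.m (GenPt.le_preimage_dOpen hE hT (hr g)) _
  have hrat : ∀ (g : GenPt u) (n : Γ(E, g.U)),
      resS Q (show g.V ≤ r ⁻¹ᵁ (p ⁻¹ᵁ g.U) from g.le) (ksPull hT hL r g.hU n) =
        g.dehom hE hT (japp (B := 𝒯.toQCAlg) j g.U n) • e g := fun g n => by
    rw [← GenPt.appLE_kappa hE hT (hr g) (japp_mem hT g.hU n)]
    exact ksPull_smul_of_eq hT hL g.hU g.m n _ _
  obtain ⟨φ, hφ⟩ := exists_hom_of_gen (N := L) (fun g : GenPt u => g.V) hu e he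
    (fun g => resS L g.le (uSec u g.m)) fun a b w hw => by
      refine eq_of_locally _ _ fun x hx => ?_
      obtain ⟨s, s', hss, hsx⟩ := exists_basicOpen_le_affine_inter a.hU b.hU ((r ≫ p).base x)
        ⟨a.le hx.1, b.le hx.2⟩
      let O := (a.V ⊓ b.V) ⊓ (r ≫ p) ⁻¹ᵁ Y.basicOpen s
      refine ⟨O, inf_le_left, ⟨hx, hsx⟩, ?_⟩
      have hW := a.hU.basicOpen s
      have iA : Y.basicOpen s ≤ a.U := Y.basicOpen_le _
      have iB : Y.basicOpen s ≤ b.U := hss.trans_le (Y.basicOpen_le _)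
      have hO : O ≤ (r ≫ p) ⁻¹ᵁ Y.basicOpen s := inf_le_right
      let mA := E.presheaf.map (homOfLE iA).op a.m
      let mB := E.presheaf.map (homOfLE iB).op b.m
      have genB : IsGen L (resS L hO (uSec u mB)) := by
        rw [show uSec u mB = _ from uSec_res u iB b.m, resS_resS]
        exact (b.restrict (inf_le_left.trans inf_le_right : O ≤ b.V)).gen
      let c : GenPt u := ⟨Y.basicOpen s, hW, mB, O, hO, genB⟩
      have h1 := hrat c mA
      have h2 := c.dehom_smul hE hT mA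
      have hw' := congrArg (resS Q (inf_le_left : O ≤ a.V ⊓ b.V)) hw
      simp only [resS, Scheme.Modules.map_smul, H10Coh.mres_mres] at hw'
      have kA : ∀ hh, resS Q hh (ksPull hT hL r hW mA) = resS Q (inf_le_left.trans inf_le_left : O ≤ a.V) (e a) :=
        fun hh => (resS_ksPull_res hT hP hL r a.hU hW s rfl iA a.m hh
          ((inf_le_left.trans inf_le_left : O ≤ a.V).trans a.le)).trans (H10Coh.mres_mres _ _ _ _).symm
      have kB : ∀ hh, resS Q hh (ksPull hT hL r hW mB) = resS Q (inf_le_left.trans inf_le_right : O ≤ b.V) (e b) :=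
        fun hh => (resS_ksPull_res hT hP hL r b.hU hW s' hss iB b.m hh
          ((inf_le_left.trans inf_le_right : O ≤ b.V).trans b.le)).trans (H10Coh.mres_mres _ _ _ _).symm
      have h1' : resS Q (inf_le_left.trans inf_le_left : O ≤ a.V) (e a) =
          c.dehom hE hT (japp (B := 𝒯.toQCAlg) j _ mA) • resS Q (inf_le_left.trans inf_le_right : O ≤ b.V) (e b) := by
        rw [← kA (c.le), ← kB (c.le)]
        exact h1
      have hwc := (((he b).bijective (inf_le_left.trans inf_le_right : O ≤ b.V)).1 (h1'.symm.trans hw'))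
      simp only [resS, Scheme.Modules.map_smul, H10Coh.mres_mres]
      rw [← hwc]
      simp only [c, mA, mB, uSec_res, resS, H10Coh.mres_mres] at h2
      exact h2.symm
  haveI : IsIso φ := isIso_of_gen φ fun x => by
    obtain ⟨g, hg⟩ := hu x
    exact ⟨_, e g, hg, he g, by rw [hφ g]; exact g.gen⟩
  refine ⟨asIso φ, fun U hU n V i i' => eq_of_locally _ _ fun x hx => ?_⟩
  obtain ⟨g, hg⟩ := hu x
  obtain ⟨s, s', hss, hsx⟩ := exists_basicOpen_le_affine_inter hU g.hU ((r ≫ p).base x) ⟨i' hx, g.le hg⟩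
  let O := (V ⊓ g.V) ⊓ (r ≫ p) ⁻¹ᵁ Y.basicOpen s
  refine ⟨O, inf_le_left.trans inf_le_left, ⟨⟨hx, hg⟩, hsx⟩, ?_⟩
  have hW := hU.basicOpen s
  have iA : Y.basicOpen s ≤ U := Y.basicOpen_le _
  have iB : Y.basicOpen s ≤ g.U := hss.trans_le (Y.basicOpen_le _)
  have hO : O ≤ (r ≫ p) ⁻¹ᵁ Y.basicOpen s := inf_le_right
  have genB : IsGen L (resS L hO (uSec u (E.presheaf.map (homOfLE iB).op g.m))) := by
    rw [uSec_res, resS_resS]
    exact (g.restrict (inf_le_left.trans inf_le_right : O ≤ g.V)).gen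
  let c : GenPt u := ⟨Y.basicOpen s, hW, _, O, hO, genB⟩
  have h1 := hrat c (E.presheaf.map (homOfLE iA).op n)
  have h2 := c.dehom_smul hE hT (E.presheaf.map (homOfLE iA).op n)
  rw [← hφ c] at h2
  rw [← Scheme.Modules.Hom.app_smul, ← h1] at h2
  rw [resS_ksPull_res hT hP hL r hU hW s rfl iA n _ ((inf_le_left.trans inf_le_left : O ≤ V).trans i)] at h2
  simp only [c, resS, uSec_res, H10Coh.mres_mres] at h2
  simp only [resS, asIso_hom, ← app_map_apply, H10Coh.mres_mres]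
  exact h2

include hE hT hP hL in
/-- The universal property of `P(E)`: uniqueness. -/
theorem toBundle_unique {r r' : X ⟶ P} (hr : r ≫ p = q) (hr' : r' ≫ p = q) (hu : Spans u)
    {τ : (Scheme.Modules.pullback r).obj O1 ≅ L} (hτ : MatchKs hT hL r u τ)
    {τ' : (Scheme.Modules.pullback r').obj O1 ≅ L} (hτ' : MatchKs hT hL r' u τ') : r = r' := by
  choose g hg using hu
  refine (X.openCoverOfIsOpenCover (fun x => (g x).V)
    (top_le_iff.1 fun x _ => Opens.mem_iSup.2 ⟨x, hg x⟩)).hom_ext _ _ fun x => ?_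
  exact (chartMor_of_match hE hT hP hL hr hτ (g x)).trans (chartMor_of_match hE hT hP hL hr' hτ' (g x)).symm

end Groth.Agent.H11Sym
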