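import Groth.Agent.H11Sym.BundleUP2
import Mathlib.AlgebraicGeometry.Morphisms.Immersion

/-!
# When the morphism into a projective bundle is an immersion
-/

set_option autoImplicit false
set_option linter.style.haveILetI false

universe u

open CategoryTheory AlgebraicGeometry TopologicalSpace Opposite
open Groth.Agent.H11Proj Groth.Agent.H11Tilde

noncomputable section

namespace Groth.Agent.H11Sym

theorem isClosedImmersion_morphismRestrict_iff {X Y : Scheme.{u}} (f : X ⟶ Y) {D : Y.Opens} (hD : IsAffineOpen D) :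
    IsClosedImmersion (f ∣_ D) ↔ IsAffineOpen (f ⁻¹ᵁ D) ∧ Function.Surjective (f.app D) := by
  haveI : IsAffine D.toScheme := hD
  rw [HasAffineProperty.iff_of_isAffine (P := @IsClosedImmersion)]
  refine and_congr Iff.rfl ?_
  have key : ∀ (W : Y.Opens) (W' : X.Opens) (e : W = D) (e' : W' = f ⁻¹ᵁ W),
      (Function.Surjective (f.app W ≫ X.presheaf.map (eqToHom e').op) ↔ Function.Surjective (f.app D)) := by
    rintro W W' rfl rfl
    simp only [eqToHom_refl, op_id, CategoryTheory.Functor.map_id, Category.comp_id]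
  rw [morphismRestrict_appTop]
  exact key _ _ D.ι_image_top _

/-- An immersion from closed immersions over a family of affine opens meeting every point of the image. -/
theorem isImmersion_of_local {X Y : Scheme.{u}} (f : X ⟶ Y) {ι : Type u} (D : ι → Y.Opens)
    (hcov : ∀ x, ∃ i, f.base x ∈ D i) (h : ∀ i, IsClosedImmersion (f ∣_ D i)) : IsImmersion f := by
  let O : Y.Opens := ⨆ i, D i
  have hO : ∀ x, f.base x ∈ O := fun x => Opens.mem_iSup.2 (hcov x)
  let g : X ⟶ O.toScheme := IsOpenImmersion.lift O.ι f (by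
    rintro _ ⟨x, rfl⟩
    rw [Scheme.Opens.range_ι]
    exact hO x)
  have hg : g ≫ O.ι = f := IsOpenImmersion.lift_fac _ _ _
  have : IsClosedImmersion g := by
    refine IsZariskiLocalAtTarget.of_iSup_eq_top (fun i => O.ι ⁻¹ᵁ D i) ?_ fun i => ?_
    · rw [← Scheme.Hom.preimage_iSup, eq_top_iff]
      intro x _
      exact x.2
    · have hp : g ⁻¹ᵁ O.ι ⁻¹ᵁ D i = f ⁻¹ᵁ D i := by rw [← Scheme.Hom.comp_preimage, hg]
      have hi : O.ι ''ᵁ (O.ι ⁻¹ᵁ D i) = D i := by
        rw [Scheme.Hom.image_preimage_eq_opensRange_inf, Scheme.Opens.opensRange_ι]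
        exact inf_eq_right.2 (le_iSup D i)
      have e : Arrow.mk (g ∣_ O.ι ⁻¹ᵁ D i) ≅ Arrow.mk (f ∣_ D i) :=
        Arrow.isoMk (X.isoOfEq hp) ((O.ι.isoImage _) ≪≫ Y.isoOfEq hi) (by
          rw [← cancel_mono (D i).ι]
          simp [hg])
      exact (MorphismProperty.arrow_mk_iso_iff @IsClosedImmersion e).2 (h i)
  exact hg ▸ inferInstance

variable {X Y P : Scheme.{u}} {E : Y.Modules} {q : X ⟶ Y} {L : X.Modules}

/-- The largest generating open of a section of `E`. -/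
def gMax (u : E ⟶ (Scheme.Modules.pushforward q).obj L) {U : Y.Opens} (hU : IsAffineOpen U) (m : Γ(E, U)) :
    GenPt u :=
  ⟨U, hU, m, genAt L (uSec u m), genAt_le _, isGen_genAt _⟩

/-- The functions on a generating open obtained from the base and the ratios. -/
def GenPt.ratioRing {u : E ⟶ (Scheme.Modules.pushforward q).obj L} (g : GenPt u) : Subring Γ(X, g.V) :=
  Subring.closure (Set.range (q.appLE g.U g.V g.le) ∪
    {c | ∃ n : Γ(E, g.U), c • resS L g.le (uSec u g.m) = resS L g.le (uSec u n)})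

/-- A standard open around `x` on which the ratios generate the functions. -/
structure EmbPt (u : E ⟶ (Scheme.Modules.pushforward q).obj L) (x : X) where
  U : Y.Opens
  hU : IsAffineOpen U
  m : Γ(E, U)
  t : Γ(X, (gMax u hU m).V)
  ht : t ∈ (gMax u hU m).ratioRing
  mem : x ∈ X.basicOpen t
  aff : IsAffineOpen (X.basicOpen t)
  surj : ∀ z : Γ(X, X.basicOpen t), ∃ (N : ℕ) (a : Γ(X, (gMax u hU m).V)),
    a ∈ (gMax u hU m).ratioRing ∧ z * resF (X.basicOpen_le t) t ^ N = resF (X.basicOpen_le t) a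

/-- The sections of `E` embed `X`. -/
def Emb (u : E ⟶ (Scheme.Modules.pushforward q).obj L) : Prop := ∀ x : X, Nonempty (EmbPt u x)

theorem Emb.spans {u : E ⟶ (Scheme.Modules.pushforward q).obj L} (h : Emb u) : Spans u := fun x => by
  obtain ⟨a⟩ := h x
  exact ⟨gMax u a.hU a.m, X.basicOpen_le a.t a.mem⟩

variable {𝒯 : RelProj.QCGrAlg Y} {j : E ⟶ 𝒯.toModule} {p : P ⟶ Y}
  {chart : ∀ (U : Y.Opens) (hU : IsAffineOpen U), (((p ⁻¹ᵁ U : P.Opens) : Scheme.{u}) ≅ Proj (𝒯.deg U hU))}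
  {O1 : P.Modules} {lam : ∀ (U : Y.Opens) (hU : IsAffineOpen U),
    O1 ⟶ (Scheme.Modules.pushforward (RelProj.emb p chart U hU)).obj (GrTwist.twist (𝒯.deg U hU) 1)}
  (hE : Coh.IsQCoh E) (hT : RelProj.IsGrSymAlg E 𝒯 j) (hP : RelProj.IsRelProj 𝒯 p chart)
  (hL : RelProj.IsRelTwist 𝒯 p chart 1 O1 lam)
  {u : E ⟶ (Scheme.Modules.pushforward q).obj L}

theorem GenPt.range_dehom (g : GenPt u) : (g.dehom hE hT).range = g.ratioRing := by
  refine le_antisymm ?_ (Subring.closure_le.2 ?_)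
  · rintro _ ⟨a, rfl⟩
    letI := algOn 𝒯.toQCAlg g.U
    induction a using (hT.1.isAffSym hE g.U g.hU).induction with
    | algebraMap r => exact Subring.subset_closure (Or.inl ⟨r, (g.dehom_str hE hT r).symm⟩)
    | ι n => exact Subring.subset_closure (Or.inr ⟨n, g.dehom_smul hE hT n⟩)
    | mul a b ha hb => rw [map_mul]; exact Subring.mul_mem _ ha hb
    | add a b ha hb => rw [map_add]; exact Subring.add_mem _ ha hb
  · rintro c (⟨r, rfl⟩ | ⟨n, hn⟩)
    · exact ⟨_, g.dehom_str hE hT r⟩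
    · exact ⟨_, g.cancel ((g.dehom_smul hE hT n).trans hn.symm)⟩

include hE hT hP hL in
theorem preimage_dOpen_of_match {r : X ⟶ P} (hr : r ≫ p = q) {τ : (Scheme.Modules.pullback r).obj O1 ≅ L}
    (hτ : MatchKs hT hL r u τ) {U : Y.Opens} (hU : IsAffineOpen U) (m : Γ(E, U)) :
    r ⁻¹ᵁ dOpen (𝒯 := 𝒯) (j := j) (chart := chart) hU m = genAt L (uSec u m) := by
  subst hr
  refine le_antisymm ?_ (GenPt.le_preimage_dOpen hE hT (chartMor_of_match hE hT hP hL rfl hτ (gMax u hU m)))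
  have i : r ⁻¹ᵁ dOpen (𝒯 := 𝒯) (j := j) (chart := chart) hU m ≤ r ⁻¹ᵁ (p ⁻¹ᵁ U) :=
    r.preimage_mono (dOpen_le hU m)
  refine H11Proj.le_genAt _ i ?_
  have h := (isGen_ksPull hE hT hL hU m le_rfl i).map_iso τ
  rwa [hτ U hU m _ i i] at h

theorem GenPt.mem_range_appLE {r : X ⟶ P} {g : GenPt u} (hr : g.V.ι ≫ r = g.chartMor chart hE hT)
    (c : Γ(X, g.V)) :
    (∃ w, r.appLE _ g.V (GenPt.le_preimage_dOpen hE hT hr) w = c) ↔ c ∈ g.ratioRing := by
  classical
  rw [← g.range_dehom hE hT]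
  constructor
  · rintro ⟨w, rfl⟩
    let i := (RelProj.emb p chart g.U g.hU).appIso
      (Proj.basicOpen (𝒯.deg g.U g.hU) (japp (B := 𝒯.toQCAlg) j g.U g.m))
    obtain ⟨k, a, ha, e⟩ := H11Tilde.exists_ratio (𝒯.deg g.U g.hU) (japp_mem hT g.hU g.m) (i.hom w)
    have hw : w = kappa (chart := chart) g.hU g.m
        (H11Tilde.ratio (𝒯.deg g.U g.hU) (japp_mem hT g.hU g.m) ha) :=
      (ConcreteCategory.congr_hom i.hom_inv_id w).symm.trans (congrArg i.inv e)
    exact ⟨a, by rw [hw, GenPt.appLE_kappa hE hT hr ha]⟩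
  · rintro ⟨a, rfl⟩
    let dh : 𝒯.presheaf.obj (op g.U) → Γ(P, dOpen (𝒯 := 𝒯) (j := j) (chart := chart) g.hU g.m) := fun a =>
      ∑ k ∈ (DirectSum.decompose (𝒯.deg g.U g.hU) a).support, kappa (chart := chart) g.hU g.m
        (H11Tilde.ratio (𝒯.deg g.U g.hU) (japp_mem hT g.hU g.m) (DirectSum.decompose (𝒯.deg g.U g.hU) a k).2)
    refine ⟨dh a, ?_⟩
    conv_rhs => rw [← DirectSum.sum_support_decompose (𝒯.deg g.U g.hU) a, map_sum]
    rw [map_sum]
    exact Finset.sum_congr rfl fun k _ => GenPt.appLE_kappa hE hT hr _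

include hE hT hP hL in
theorem isImmersion_of_emb {r : X ⟶ P} (hr : r ≫ p = q) {τ : (Scheme.Modules.pullback r).obj O1 ≅ L}
    (hτ : MatchKs hT hL r u τ) (hu : Emb u) : IsImmersion r := by
  let a : ∀ x, EmbPt u x := fun x => (hu x).some
  have hk : ∀ x, ∃ κ : Γ(P, dOpen (𝒯 := 𝒯) (j := j) (chart := chart) (a x).hU (a x).m),
      r.appLE _ _ (GenPt.le_preimage_dOpen hE hT (chartMor_of_match hE hT hP hL hr hτ (gMax u (a x).hU (a x).m))) κ =
        (a x).t := fun x =>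
    (GenPt.mem_range_appLE hE hT (chartMor_of_match hE hT hP hL hr hτ (gMax u (a x).hU (a x).m)) _).2 (a x).ht
  choose κ hκ using hk
  have hpre : ∀ x, r ⁻¹ᵁ P.basicOpen (κ x) = X.basicOpen (a x).t := fun x => by
    have hle := GenPt.le_preimage_dOpen (chart := chart) hE hT
      (chartMor_of_match hE hT hP hL hr hτ (gMax u (a x).hU (a x).m))
    rw [← hκ x, Scheme.basicOpen_appLE]
    refine (inf_eq_right.2 ?_).symm
    exact (r.preimage_mono (P.basicOpen_le _)).trans (preimage_dOpen_of_match hE hT hP hL hr hτ _ _).le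
  refine isImmersion_of_local r (fun x => P.basicOpen (κ x))
    (fun x => ⟨x, (hpre x).ge (a x).mem⟩) fun x => ?_
  have hD := isAffineOpen_dOpen (chart := chart) hT (a x).hU (a x).m
  refine (isClosedImmersion_morphismRestrict_iff r (hD.basicOpen (κ x))).2 ⟨(hpre x) ▸ (a x).aff, fun z => ?_⟩
  have hr' := chartMor_of_match hE hT hP hL hr hτ (gMax u (a x).hU (a x).m)
  let i₁ : r ⁻¹ᵁ P.basicOpen (κ x) ≤ X.basicOpen (a x).t := (hpre x).le
  let i₂ : X.basicOpen (a x).t ≤ r ⁻¹ᵁ P.basicOpen (κ x) := (hpre x).ge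
  obtain ⟨N, c, hc, e⟩ := (a x).surj (resF i₂ z)
  obtain ⟨w, hw⟩ := (GenPt.mem_range_appLE hE hT hr' c).2 hc
  have hkey : ∀ v, r.app _ (P.presheaf.map (homOfLE (P.basicOpen_le (κ x))).op v) =
      resF i₁ (resF (X.basicOpen_le _) (r.appLE _ _ (GenPt.le_preimage_dOpen hE hT hr') v)) := fun v => by
    simp only [resF, Scheme.Hom.app_eq_appLE, ← ConcreteCategory.comp_apply, Scheme.Hom.appLE_map,
      Scheme.Hom.map_appLE]
    rfl
  haveI := hD.isLocalization_basicOpen (κ x)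
  obtain ⟨vu, hvu⟩ : IsUnit (P.presheaf.map (homOfLE (P.basicOpen_le (κ x))).op (κ x ^ N)) :=
    IsLocalization.map_units (M := Submonoid.powers (κ x)) Γ(P, P.basicOpen (κ x)) ⟨_, N, rfl⟩
  refine ⟨P.presheaf.map (homOfLE (P.basicOpen_le (κ x))).op w * ↑vu⁻¹, ?_⟩
  have hu' : r.app _ (↑vu : Γ(P, P.basicOpen (κ x))) = resF i₁ (resF (X.basicOpen_le _) (a x).t ^ N) := by
    rw [hvu, hkey]
    refine (congrArg (fun y => resF i₁ (resF (X.basicOpen_le _) y))
      (map_pow (r.appLE _ _ (GenPt.le_preimage_dOpen hE hT hr')).hom (κ x) N)).trans ?_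
    simp only [map_pow]
    exact congrArg (fun y => resF i₁ (resF (X.basicOpen_le _) y) ^ N) (hκ x)
  have hz : r.app _ (P.presheaf.map (homOfLE (P.basicOpen_le (κ x))).op w) = z * r.app _ (↑vu : Γ(P, P.basicOpen (κ x))) := by
    rw [hkey, hw, ← e, map_mul, resF_resF, resF_self, hu']
  rw [map_mul, hz, mul_assoc, ← map_mul, Units.mul_inv, map_one, mul_one]

include hE hT hP hL in
theorem exists_embPt_of_isImmersion {r : X ⟶ P} (hr : r ≫ p = q) {τ : (Scheme.Modules.pullback r).obj O1 ≅ L}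
    (hτ : MatchKs hT hL r u τ) [IsImmersion r] (x : X) {U : Y.Opens} (hU : IsAffineOpen U) (m : Γ(E, U))
    (hxD : r.base x ∈ dOpen (𝒯 := 𝒯) (j := j) (chart := chart) hU m) :
    ∃ t : Γ(X, (gMax u hU m).V), t ∈ (gMax u hU m).ratioRing ∧ x ∈ X.basicOpen t ∧ IsAffineOpen (X.basicOpen t) ∧
      ∀ z : Γ(X, X.basicOpen t), ∃ (N : ℕ) (a : Γ(X, (gMax u hU m).V)),
        a ∈ (gMax u hU m).ratioRing ∧ z * resF (X.basicOpen_le t) t ^ N = resF (X.basicOpen_le t) a := by
  have hD := isAffineOpen_dOpen (chart := chart) hT hU m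
  have hxO : r.base x ∈ r.coborderRange := subset_coborder ⟨x, rfl⟩
  obtain ⟨κ, hκle, hxκ⟩ := hD.exists_basicOpen_le (V := r.coborderRange ⊓ dOpen (𝒯 := 𝒯) (j := j) (chart := chart) hU m)
    ⟨r.base x, ⟨hxO, hxD⟩⟩ hxD
  have hr' := chartMor_of_match hE hT hP hL hr hτ (gMax u hU m)
  let t := r.appLE _ _ (GenPt.le_preimage_dOpen hE hT hr') κ
  have hpre : X.basicOpen t = r ⁻¹ᵁ P.basicOpen κ := by
    rw [Scheme.basicOpen_appLE]
    exact inf_eq_right.2 ((r.preimage_mono (P.basicOpen_le _)).trans (preimage_dOpen_of_match hE hT hP hL hr hτ _ _).le)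
  have hDκ := hD.basicOpen κ
  have hcl : IsClosedImmersion (r ∣_ P.basicOpen κ) := by
    have hO : P.basicOpen κ ≤ r.coborderRange := hκle.trans inf_le_left
    have h1 := IsZariskiLocalAtTarget.restrict (inferInstance : IsClosedImmersion r.liftCoborder)
      (r.coborderRange.ι ⁻¹ᵁ P.basicOpen κ)
    have hp : r.liftCoborder ⁻¹ᵁ r.coborderRange.ι ⁻¹ᵁ P.basicOpen κ = r ⁻¹ᵁ P.basicOpen κ := by
      rw [← Scheme.Hom.comp_preimage, Scheme.Hom.liftCoborder_ι]
    have hi : r.coborderRange.ι ''ᵁ (r.coborderRange.ι ⁻¹ᵁ P.basicOpen κ) = P.basicOpen κ := by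
      rw [Scheme.Hom.image_preimage_eq_opensRange_inf, Scheme.Opens.opensRange_ι]
      exact inf_eq_right.2 hO
    have e : Arrow.mk (r.liftCoborder ∣_ r.coborderRange.ι ⁻¹ᵁ P.basicOpen κ) ≅ Arrow.mk (r ∣_ P.basicOpen κ) :=
      Arrow.isoMk (X.isoOfEq hp) ((r.coborderRange.ι.isoImage _) ≪≫ P.isoOfEq hi) (by
        rw [← cancel_mono (P.basicOpen κ).ι]
        simp)
    exact (MorphismProperty.arrow_mk_iso_iff @IsClosedImmersion e).1 h1
  obtain ⟨hWaff, hsurj⟩ := (isClosedImmersion_morphismRestrict_iff r hDκ).1 hcl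
  refine ⟨t, (GenPt.mem_range_appLE hE hT hr' t).1 ⟨κ, rfl⟩, hpre.ge hxκ, hpre ▸ hWaff, fun z => ?_⟩
  haveI := hD.isLocalization_basicOpen κ
  obtain ⟨w, hw⟩ := hsurj (resF hpre.ge z)
  obtain ⟨⟨v, ⟨_, N, rfl⟩⟩, hv⟩ := IsLocalization.surj (Submonoid.powers κ) w
  refine ⟨N, r.appLE _ _ (GenPt.le_preimage_dOpen hE hT hr') v, (GenPt.mem_range_appLE hE hT hr' _).1 ⟨v, rfl⟩, ?_⟩
  have hkey : ∀ v, resF (X.basicOpen_le t) (r.appLE _ _ (GenPt.le_preimage_dOpen hE hT hr') v) =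
      resF hpre.le (r.app _ (P.presheaf.map (homOfLE (P.basicOpen_le κ)).op v)) := fun v => by
    simp only [resF, Scheme.Hom.app_eq_appLE, ← ConcreteCategory.comp_apply, Scheme.Hom.appLE_map,
      Scheme.Hom.map_appLE]
    rfl
  have h2 := congrArg (fun y => resF hpre.le (r.app _ y)) hv
  simp only [map_mul, hw, resF_resF, resF_self, RingHom.algebraMap_toAlgebra] at h2
  refine Eq.trans ?_ (h2.trans (hkey v).symm)
  rw [← map_pow, show resF (X.basicOpen_le t) (t ^ N) = _ from congrArg _ (map_pow _ _ _).symm, hkey]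
  rfl

include hE hT hP hL in
theorem emb_of_isImmersion {r : X ⟶ P} (hr : r ≫ p = q) {τ : (Scheme.Modules.pullback r).obj O1 ≅ L}
    (hτ : MatchKs hT hL r u τ) [IsImmersion r] : Emb u := fun x => by
  obtain ⟨U, hU, m, hxD⟩ := exists_mem_dOpen hE hT (chart := chart) (r.base x)
  obtain ⟨t, ht, hx, haff, hsurj⟩ := exists_embPt_of_isImmersion hE hT hP hL hr hτ x hU m hxD
  exact ⟨⟨U, hU, m, t, ht, hx, haff, hsurj⟩⟩

end Groth.Agent.H11Sym
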