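import Groth.Agent.H11Sym.SpansEpi
import Groth.Agent.H28Mero.Gen

/-!
# The projective bundle of an invertible module is the base
-/

set_option autoImplicit false
set_option linter.style.haveILetI false

universe u

open CategoryTheory AlgebraicGeometry TopologicalSpace Opposite
open Groth.Agent.H11Proj Groth.Agent.H11Tilde Groth.Agent.H11Ample

noncomputable section

namespace Groth.Agent.H11Sym

theorem exists_coeff_eq {R M A : Type*} [CommRing R] [AddCommGroup M] [Module R M] [CommRing A] [Algebra R A]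
    {j : M →ₗ[R] A} (hj : IsSymmetricAlgebra j) (e : M) (he : ∀ m : M, ∃ c : R, c • e = m) (a : A) (d : ℕ) :
    ∃ c : R, (gradeHom hj a).coeff d = algebraMap R A c * j e ^ d := by
  classical
  induction a using hj.induction generalizing d with
  | algebraMap r =>
    rw [AlgHom.commutes, Polynomial.algebraMap_apply, Polynomial.coeff_C]
    split_ifs with h
    · exact ⟨r, by subst h; simp⟩
    · exact ⟨0, by simp⟩
  | ι m =>
    obtain ⟨c, rfl⟩ := he m
    rw [gradeHom_apply, Polynomial.C_mul_X_eq_monomial, Polynomial.coeff_monomial]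
    split_ifs with h
    · exact ⟨c, by subst h; rw [map_smul, Algebra.smul_def, pow_one]⟩
    · exact ⟨0, by simp⟩
  | mul a b ha hb =>
    choose ca hca using ha
    choose cb hcb using hb
    refine ⟨∑ p ∈ Finset.HasAntidiagonal.antidiagonal d, ca p.1 * cb p.2, ?_⟩
    rw [map_mul, Polynomial.coeff_mul, map_sum, Finset.sum_mul]
    refine Finset.sum_congr rfl fun p hp => ?_
    rw [hca, hcb, map_mul, ← Finset.HasAntidiagonal.mem_antidiagonal.1 hp, pow_add]
    ring
  | add a b ha hb =>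
    obtain ⟨ca, hca⟩ := ha d
    obtain ⟨cb, hcb⟩ := hb d
    exact ⟨ca + cb, by rw [map_add, Polynomial.coeff_add, hca, hcb, map_add, add_mul]⟩

variable {Y P : Scheme.{u}} {E : Y.Modules} {𝒯 : RelProj.QCGrAlg Y} {j : E ⟶ 𝒯.toModule} {p : P ⟶ Y}
  {chart : ∀ (U : Y.Opens) (hU : IsAffineOpen U), (((p ⁻¹ᵁ U : P.Opens) : Scheme.{u}) ≅ Proj (𝒯.deg U hU))}
  (hE : Coh.IsQCoh E) (hT : RelProj.IsGrSymAlg E 𝒯 j) (hP : RelProj.IsRelProj 𝒯 p chart)

include hE hT hP in
theorem isIso_morphismRestrict_of_gen {U : Y.Opens} (hU : IsAffineOpen U) {e : Γ(E, U)} (he : IsGen E e)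
    {r : Y ⟶ P} (hr : r ≫ p = 𝟙 Y) : IsIso (p ∣_ U) := by
  classical
  letI := algOn 𝒯.toQCAlg U
  have hj := hT.1.isAffSym hE U hU
  have hspan : ∀ m : Γ(E, U), ∃ c : Γ(Y, U), c • e = m := fun m => by
    obtain ⟨c, hc⟩ := (he.bijective le_rfl).2 m
    exact ⟨c, (congrArg (c • ·) (H10Coh.mres_self E _ e)).symm.trans hc⟩
  have hdeg : ∀ (k : ℕ) (a : 𝒯.presheaf.obj (op U)), a ∈ 𝒯.deg U hU k →
      ∃ c : Γ(Y, U), a = astr 𝒯.toQCAlg U c * japp (B := 𝒯.toQCAlg) j U e ^ k := fun k a ha => by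
    rw [deg_eq_piece hE hT U hU k] at ha
    obtain ⟨c, hc⟩ := exists_coeff_eq hj e hspan a k
    rw [(mem_piece hj).1 ha, Polynomial.coeff_monomial, if_pos rfl] at hc
    exact ⟨c, hc⟩
  have htop : p ⁻¹ᵁ U = dOpen (𝒯 := 𝒯) (j := j) (chart := chart) hU e := by
    refine le_antisymm (fun y hy => ?_) (dOpen_le hU e)
    obtain ⟨z, rfl⟩ := (opensRange_emb p chart U hU).ge hy
    obtain ⟨a, ha, hay⟩ := exists_degOne_notMem (𝒯.deg U hU) (isGenDegOne hE hT U hU) z
    obtain ⟨c, hc⟩ := hdeg 1 a ha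
    refine ⟨z, fun h => hay ?_, rfl⟩
    rw [hc, pow_one]
    exact z.asHomogeneousIdeal.toIdeal.mul_mem_left _ h
  have hD := isAffineOpen_dOpen (chart := chart) hT hU e
  have hsurj : Function.Surjective (p.appLE U _ (dOpen_le (𝒯 := 𝒯) (j := j) (chart := chart) hU e)) := fun w => by
    let i := (RelProj.emb p chart U hU).appIso (Proj.basicOpen (𝒯.deg U hU) (japp (B := 𝒯.toQCAlg) j U e))
    obtain ⟨k, a, ha, h1⟩ := H11Tilde.exists_ratio (𝒯.deg U hU) (japp_mem hT hU e) (i.hom w)
    obtain ⟨c, hc⟩ := hdeg k a ha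
    refine ⟨c, ?_⟩
    rw [kappa_str hE hT hP hU e c]
    have hratio : H11Tilde.ratio (𝒯.deg U hU) (japp_mem hT hU e) ha =
        H11Tilde.ratio (𝒯.deg U hU) (japp_mem hT hU e) (𝒯.str_mem U hU c) := by
      refine fval_ext (𝒯.deg U hU) fun z => ?_
      rw [fval_ratio, fval_ratio]
      refine Localization.mk_eq_mk_iff.2 (Localization.r_iff_exists.2 ⟨1, ?_⟩)
      simp only [OneMemClass.coe_one, one_mul, pow_zero]
      rw [hc, mul_comm]
    rw [← hratio]
    exact ((ConcreteCategory.congr_hom i.hom_inv_id w).symm.trans (congrArg i.inv h1)).symm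
  have hinj : Function.Injective (p.app U) := fun a b h => by
    have h2 := congrArg (r.app (p ⁻¹ᵁ U)) h
    have key : ∀ c, r.app (p ⁻¹ᵁ U) (p.app U c) = resF (by rw [← Scheme.Hom.comp_preimage, hr]; exact le_rfl) c :=
      fun c => by
        rw [← ConcreteCategory.comp_apply, ← Scheme.Hom.comp_app]
        simp only [Scheme.Hom.app_eq_appLE, hr]
        rfl
    rw [key, key] at h2
    have e2 : U ≤ r ⁻¹ᵁ (p ⁻¹ᵁ U) := by rw [← Scheme.Hom.comp_preimage, hr]; exact le_rfl
    have h3 := congrArg (resF e2) h2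
    simpa only [resF_resF, resF_self] using h3
  haveI : IsAffine U.toScheme := hU
  haveI : IsAffine (p ⁻¹ᵁ U).toScheme := htop ▸ hD
  have happ : Function.Bijective (p.app U) := by
    refine ⟨hinj, fun w => ?_⟩
    obtain ⟨c, hc⟩ := hsurj (resF htop.ge w)
    refine ⟨c, ?_⟩
    have h4 := congrArg (resF htop.le) hc
    rw [resF_resF, resF_self] at h4
    refine Eq.trans ?_ h4
    simp only [resF, ← ConcreteCategory.comp_apply, Scheme.Hom.appLE_map]
    simp only [Scheme.Hom.app_eq_appLE]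
  have hiso : IsIso ((p ∣_ U).appTop) := by
    have key : ∀ (W : Y.Opens) (W' : P.Opens) (e : W = U) (e' : W' = p ⁻¹ᵁ W),
        IsIso (p.app W ≫ P.presheaf.map (eqToHom e').op) := by
      rintro W W' rfl rfl
      simp only [eqToHom_refl, op_id, CategoryTheory.Functor.map_id, Category.comp_id]
      exact (ConcreteCategory.isIso_iff_bijective (p.app W)).2 happ
    rw [morphismRestrict_appTop]
    exact key _ _ U.ι_image_top _
  exact (HasAffineProperty.iff_of_isAffine (P := MorphismProperty.isomorphisms Scheme.{u})).2 ⟨inferInstance, hiso⟩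

end Groth.Agent.H11Sym
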