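import Groth.Agent.H11Sym.VeryAmpleLocal
import Groth.Agent.H11Sym.BundleAmple
import Groth.Agent.H11Ample.VeryAmple
import Groth.Agent.H11Ample.Converse
import Groth.Agent.H10Coh.SerreVanishing2
import Groth.Agent.H10Coh.TensorBasics

/-!
# Large powers of relatively ample modules are relatively very ample
-/

set_option autoImplicit false
set_option linter.style.haveILetI false

universe u

open CategoryTheory CategoryTheory.Limits AlgebraicGeometry TopologicalSpace Opposite
open Groth.Agent.H11Proj Groth.Agent.H11Tilde Groth.Agent.H11Ample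

noncomputable section

namespace Groth.Agent.H11Sym

variable {X Y : Scheme.{u}} {L : X.Modules}

/-- Over an affine base large powers of an ample module are very ample. -/
theorem eventually_isRelVeryAmple_of_isAffine [IsAffine Y] (q : X ⟶ Y) [LocallyOfFiniteType q]
    (hA : CohB1.IsAmple L) : ∃ n₀ : ℕ, ∀ m, n₀ ≤ m → RelProj.IsRelVeryAmple q (CohB1.tensorPow L m) := by
  haveI := compactSpace_of_isAmple hA
  haveI := quasiSeparatedSpace_of_isAmple hA
  haveI : QuasiCompact q := (quasiCompact_iff_compactSpace q).2 inferInstance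
  haveI : QuasiSeparated q := (HasAffineProperty.iff_of_isAffine (P := @QuasiSeparated)).2 inferInstance
  obtain ⟨n₀, h⟩ := eventually_exists_sections q hA
  refine ⟨n₀, fun m hm => ?_⟩
  let M := CohB1.tensorPow L m
  have hM : PicF.IsInvertible M := isInvertible_tensorPow (isInvertible_of_isAmple hA) m
  haveI : M.IsQuasicoherent := H28Mero.isQCoh_of_isInvertible hM
  obtain ⟨n, v, J, hJ, haff, hgen⟩ := h m hm
  let u := 𝟙 ((Scheme.Modules.pushforward q).obj M)
  refine isRelVeryAmple_iff.2 ⟨_, H10Coh.isQuasicoherent_pushforward q M, u, fun x => ?_⟩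
  obtain ⟨j, hj, hxj⟩ := hJ x
  let g := gMax u (isAffineOpen_top Y) (v j)
  have hV : g.V = gen M (v j) := genAt_eq_gen (v j)
  have h1 : X.basicOpen (1 : Γ(X, g.V)) = g.V := Scheme.basicOpen_of_isUnit _ isUnit_one
  refine ⟨⟨⊤, isAffineOpen_top Y, v j, 1, Subring.one_mem _, (h1.trans hV).ge hxj,
    (h1.trans hV).symm ▸ haff j hj, fun z => ⟨0, resF h1.ge z, ?_, ?_⟩⟩⟩
  · have hle : Subring.closure (Set.range (q.appLE ⊤ (gen M (v j)) le_top) ∪
        {c | ∃ l, M.presheaf.map (homOfLE (le_top : gen M (v j) ≤ ⊤)).op (v l) =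
          c • M.presheaf.map (homOfLE (le_top : gen M (v j) ≤ ⊤)).op (v j)}) ≤
        g.ratioRing.comap (resF hV.le) := by
      refine Subring.closure_le.2 ?_
      rintro c (⟨r, rfl⟩ | ⟨l, hl⟩)
      · exact Subring.mem_comap.2 ((congrArg (· ∈ g.ratioRing)
          (congr($(Scheme.Hom.appLE_map q _ _) r))).mpr (g.base_mem_ratioRing r))
      · refine g.mem_ratioRing (v l) ?_
        have e := congrArg (resS M hV.le) hl
        rw [resS_resS, resS_smul, resS_resS] at e
        exact e.symm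
    have h2 : resF hV.le (resF (hV.ge.trans h1.ge) z) ∈ g.ratioRing := hle ((hgen j hj).ge (Subring.mem_top _))
    rw [resF_resF] at h2
    exact h2
  · rw [pow_zero, mul_one, resF_resF, resF_self]

theorem nonempty_restrict_tensorPow (hL : PicF.IsInvertible L) (U : X.Opens) (k : ℕ) :
    Nonempty ((CohB1.tensorPow L k).restrict U.ι ≅ CohB1.tensorPow (L.restrict U.ι) k) := by
  obtain ⟨φ⟩ := exists_iso_pullback_tensorPow U.ι hL k
  exact ⟨(Scheme.Modules.restrictFunctorIsoPullback U.ι).app _ ≪≫ φ ≪≫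
    (H10Coh.Tw.tensorPowIso ((Scheme.Modules.restrictFunctorIsoPullback U.ι).app L) k).symm⟩

theorem exists_finite_affine_family (Y : Scheme.{u}) [CompactSpace Y] :
    ∃ T : Finset Y.affineOpens, ⨆ i : {V // V ∈ T}, i.1.1 = ⊤ := by
  classical
  obtain ⟨t, ht⟩ := isCompact_univ.elim_finite_subcover (fun V : Y.affineOpens => (V.1 : Set Y))
    (fun V => V.1.isOpen) (fun y _ => by
      obtain ⟨V, hV, hy⟩ := exists_isAffineOpen_mem y
      exact Set.mem_iUnion.2 ⟨⟨V, hV⟩, hy⟩)
  refine ⟨t, eq_top_iff.2 fun y _ => ?_⟩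
  obtain ⟨V, hV, hy⟩ := Set.mem_iUnion₂.1 (ht (Set.mem_univ y))
  exact Opens.mem_iSup.2 ⟨⟨V, hV⟩, hy⟩

/-- Large powers of a relatively ample module are relatively very ample. -/
theorem eventually_isRelVeryAmple [CompactSpace Y] (f : X ⟶ Y) [QuasiCompact f] [LocallyOfFiniteType f]
    (h : RelAmple.IsRelAmple f L) :
    ∃ n₀ : ℕ, 0 < n₀ ∧ ∀ n, n₀ ≤ n → RelProj.IsRelVeryAmple f (CohB1.tensorPow L n) := by
  classical
  have hL := isInvertible_of_isRelAmple h
  obtain ⟨T, hT⟩ := exists_finite_affine_family Y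
  have hloc : ∀ i : {V // V ∈ T}, ∃ N, ∀ n, N ≤ n →
      RelProj.IsRelVeryAmple (f ∣_ i.1.1) (CohB1.tensorPow (L.restrict (f ⁻¹ᵁ i.1.1).ι) n) := fun i => by
    haveI : IsAffine i.1.1.toScheme := i.1.2
    exact eventually_isRelVeryAmple_of_isAffine _ (h.2 i.1)
  choose N hN using hloc
  refine ⟨Finset.univ.sup N + 1, Nat.succ_pos _, fun n hn => ?_⟩
  refine isRelVeryAmple_of_cover (isInvertible_tensorPow hL n) (fun i : {V // V ∈ T} => i.1.1) hT fun i => ?_
  obtain ⟨φ⟩ := nonempty_restrict_tensorPow hL (f ⁻¹ᵁ i.1.1) n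
  exact isRelVeryAmple_of_iso φ.symm
    (hN i n ((Finset.le_sup (Finset.mem_univ i)).trans ((Nat.le_succ _).trans hn)))

/-- On a scheme with an ample module, large twists of an invertible module have generating global sections. -/
theorem eventually_exists_mem_gen {M : X.Modules} (hA : CohB1.IsAmple L) (hM : PicF.IsInvertible M) :
    ∃ n₀ : ℕ, ∀ n, n₀ ≤ n → ∀ x : X, ∃ S : Γ(CohB1.tensorMod M (CohB1.tensorPow L n), ⊤),
      x ∈ gen (CohB1.tensorMod M (CohB1.tensorPow L n)) S := by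
  classical
  haveI := compactSpace_of_isAmple hA
  haveI := quasiSeparatedSpace_of_isAmple hA
  have hL := isInvertible_of_isAmple hA
  have loc : ∀ x : X, ∃ (k : ℕ) (s : Γ(CohB1.tensorPow L k, ⊤)) (e : Γ(L, gen (CohB1.tensorPow L k) s))
      (m : Γ(M, gen (CohB1.tensorPow L k) s)), 0 < k ∧ x ∈ gen (CohB1.tensorPow L k) s ∧ IsGen L e ∧ IsGen M m :=
    fun x => by
    obtain ⟨V, e, hxV, he⟩ := exists_gen hL x
    obtain ⟨W, m, hxW, hm⟩ := exists_gen hM x
    obtain ⟨k, s, hk, hxs, hsV, -⟩ := exists_affine_gen_le hA (U := V ⊓ W) ⟨hxV, hxW⟩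
    exact ⟨k, s, _, _, hk, hxs, he.res (hsV.trans inf_le_left), hm.res (hsV.trans inf_le_right)⟩
  choose k s e m hk hxs he hm using loc
  choose N hN using fun x => exists_extend_pow hL (H28Mero.isQCoh_of_isInvertible hM) (hk x) (s x) (he x) (m x)
  obtain ⟨T, hT⟩ := CompactSpace.elim_nhds_subcover (fun x => (gen (CohB1.tensorPow L (k x)) (s x) : Set X))
    (fun x => (gen _ (s x)).isOpen.mem_nhds (hxs x))
  refine ⟨T.sup N, fun n hn y => ?_⟩
  obtain ⟨x, hx, hyx⟩ := Set.mem_iUnion₂.1 (hT.ge (Set.mem_univ y))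
  obtain ⟨S, c, hc, hS⟩ := hN x n ((Finset.le_sup hx).trans hn)
  refine ⟨S, mem_gen_of_isGen (W := gen (CohB1.tensorPow L (k x)) (s x)) ?_ hyx⟩
  rw [hS]
  have hcm : IsGen M (c • m x) := isGen_of_bijective fun W hW => by
    refine Eq.mpr (congrArg Function.Bijective (funext fun r => ?_))
      (((hm x).bijective hW).comp (IsUnit.isUnit_iff_mulRight_bijective.1
        (hc.map (X.presheaf.map (homOfLE hW).op).hom)))
    simp only [Function.comp_apply, Scheme.Modules.map_smul, smul_smul]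
  exact isGen_tm hcm (isGen_spow (he x) n)

/-- Large twists of an invertible module by a relatively ample one are spanned over the base. -/
theorem eventually_spans [CompactSpace Y] (f : X ⟶ Y) [QuasiCompact f] {M : X.Modules}
    (h : RelAmple.IsRelAmple f L) (hM : PicF.IsInvertible M) :
    ∃ n₀ : ℕ, ∀ n, n₀ ≤ n →
      Spans (𝟙 ((Scheme.Modules.pushforward f).obj (CohB1.tensorMod M (CohB1.tensorPow L n)))) := by
  classical
  have hL := isInvertible_of_isRelAmple h
  obtain ⟨T, hT⟩ := exists_finite_affine_family Y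
  choose N hN using fun i : {V // V ∈ T} =>
    eventually_exists_mem_gen (M := M.restrict (f ⁻¹ᵁ i.1.1).ι) (h.2 i.1)
      (H11Tilde.isInvertible_of_iso ((Scheme.Modules.restrictFunctorIsoPullback _).app M).symm
        (H11Ample.isInvertible_pullback _ hM))
  refine ⟨Finset.univ.sup N, fun n hn x => ?_⟩
  obtain ⟨i, hi⟩ := Opens.mem_iSup.1 (hT.ge (Opens.mem_top (f.base x)))
  let U := f ⁻¹ᵁ i.1.1
  obtain ⟨S, hS⟩ := hN i n ((Finset.le_sup (Finset.mem_univ i)).trans hn) ⟨x, hi⟩
  obtain ⟨φ⟩ := nonempty_restrict_tensorPow hL U n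
  obtain ⟨ψ⟩ := exists_iso_pullback_tensor U.ι hM (isInvertible_tensorPow hL n)
  let R := Scheme.Modules.restrictFunctorIsoPullback U.ι
  let θ : CohB1.tensorMod (M.restrict U.ι) (CohB1.tensorPow (L.restrict U.ι) n) ≅
      (CohB1.tensorMod M (CohB1.tensorPow L n)).restrict U.ι :=
    PicGrp.tensorModIso (R.app M) (φ.symm ≪≫ R.app _) ≪≫ ψ.symm ≪≫ (R.app _).symm
  let m : Γ((Scheme.Modules.pushforward f).obj (CohB1.tensorMod M (CohB1.tensorPow L n)), i.1.1) :=
    extendTop U (θ.hom.app ⊤ S)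
  refine ⟨gMax (𝟙 _) i.1.2 m, ?_⟩
  show x ∈ genAt _ (extendTop U (θ.hom.app ⊤ S))
  rw [← image_gen U, restrictTop_extendTop, gen_iso]
  exact ⟨⟨x, hi⟩, hS, rfl⟩

/-- Large powers of a relatively ample module twisted by an invertible one are relatively very ample. -/
theorem eventually_isRelVeryAmple_tensor [CompactSpace Y] (f : X ⟶ Y) [QuasiCompact f] [LocallyOfFiniteType f]
    {M : X.Modules} (h : RelAmple.IsRelAmple f L) (hM : PicF.IsInvertible M) :
    ∃ n₀ : ℕ, ∀ n, n₀ ≤ n → RelProj.IsRelVeryAmple f (CohB1.tensorMod (CohB1.tensorPow L n) M) := by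
  have hL := isInvertible_of_isRelAmple h
  obtain ⟨a, ha, hva⟩ := eventually_isRelVeryAmple f h
  obtain ⟨b, hb⟩ := eventually_spans f h hM
  refine ⟨a + b, fun n hn => ?_⟩
  obtain ⟨c, rfl⟩ : ∃ c, n = a + c := ⟨n - a, by omega⟩
  haveI : IsSeparated f := isSeparated_of_isRelVeryAmple (hva a le_rfl)
  have hM' := isInvertible_tensor hM (isInvertible_tensorPow hL c)
  haveI : (CohB1.tensorMod M (CohB1.tensorPow L c)).IsQuasicoherent := H28Mero.isQCoh_of_isInvertible hM'
  have h1 := isRelVeryAmple_tensor _ (isInvertible_tensorPow hL a) hM'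
    (H10Coh.isQuasicoherent_pushforward f _) (hva a le_rfl) (hb c (by omega))
  obtain ⟨φ, -⟩ := exists_iso_add hL a c
  exact isRelVeryAmple_of_iso
    (PicGrp.tensorModIso (Iso.refl _) (H10Coh.Tw.commIso M _) ≪≫ (H10Coh.Tw.assoc _ _ M).symm ≪≫
      PicGrp.tensorModIso φ (Iso.refl M)) h1

end Groth.Agent.H11Sym
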