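import Groth.Agent.H11Tilde.ProjHom

/-!
# Morphisms to `Proj` given on an open by a dehomogenisation
-/

set_option autoImplicit false

universe u

open CategoryTheory AlgebraicGeometry Opposite TopologicalSpace HomogeneousLocalization

noncomputable section

namespace Groth.Agent.H11Sym

section alg

variable {A σA : Type u} [CommRing A] [SetLike σA A] [AddSubgroupClass σA A] (𝒜 : ℕ → σA) [GradedRing 𝒜]
variable {R : Type u} [CommRing R] (h : A →+* R) {f : A} (hu : IsUnit (h f))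

/-- `a / f ^ n ↦ h a / h f ^ n`. -/
def awayHom : Away 𝒜 f →+* R :=
  (IsLocalization.Away.lift (S := Localization.Away f) f (g := h) hu).comp
    (algebraMap (Away 𝒜 f) (Localization.Away f))

theorem awayHom_mk {d : ℕ} (hf : f ∈ 𝒜 d) (n : ℕ) (a : A) (ha : a ∈ 𝒜 (n • d)) :
    awayHom 𝒜 h hu (Away.mk 𝒜 hf n a ha) * h f ^ n = h a := by
  rw [awayHom, RingHom.comp_apply, HomogeneousLocalization.algebraMap_apply, Away.val_mk, Localization.mk_eq_mk']
  have e := IsLocalization.mk'_spec (Localization.Away f) a (⟨f ^ n, n, rfl⟩ : Submonoid.powers f)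
  have e2 := congrArg (IsLocalization.Away.lift (S := Localization.Away f) f (g := h) hu) e
  rw [map_mul, IsLocalization.Away.lift_eq, IsLocalization.Away.lift_eq, map_pow] at e2
  exact e2

theorem awayHom_eq {d : ℕ} (hf : f ∈ 𝒜 d) (φ : Away 𝒜 f →+* R)
    (hφ : ∀ (n : ℕ) (a : A) (ha : a ∈ 𝒜 (n • d)), φ (Away.mk 𝒜 hf n a ha) * h f ^ n = h a) :
    φ = awayHom 𝒜 h hu := by
  refine RingHom.ext fun z => ?_
  obtain ⟨n, a, ha, rfl⟩ := Away.mk_surjective 𝒜 hf z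
  exact (hu.pow n).mul_right_cancel ((hφ n a ha).trans (awayHom_mk 𝒜 h hu hf n a ha).symm)

end alg

variable {A σA : Type u} [CommRing A] [SetLike σA A] [AddSubgroupClass σA A] (𝒜 : ℕ → σA) [GradedRing 𝒜]
variable {X : Scheme.{u}} {V : X.Opens} (h : A →+* Γ(X, V)) {d : ℕ} {f : A} (hf : f ∈ 𝒜 d) (hd : 0 < d)
  (hu : IsUnit (h f))

/-- The morphism `V ⟶ Proj 𝒜` into `D₊(f)` given by `h`. -/
def projChart : V.toScheme ⟶ Proj 𝒜 :=
  V.toSpecΓ ≫ Spec.map (CommRingCat.ofHom (awayHom 𝒜 h hu)) ≫ Proj.awayι 𝒜 f hf hd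

theorem projChart_congr {h' : A →+* Γ(X, V)} (e : h = h') (hu' : IsUnit (h' f)) :
    projChart 𝒜 h hf hd hu = projChart 𝒜 h' hf hd hu' := by
  subst e; rfl

theorem projChart_congr_elem {f' : A} (e : f = f') (hf' : f' ∈ 𝒜 d) (hu' : IsUnit (h f')) :
    projChart 𝒜 h hf hd hu = projChart 𝒜 h hf' hd hu' := by
  subst e; rfl

theorem projChart_res {W : X.Opens} (i : W ≤ V)
    (hu' : IsUnit (((X.presheaf.map (homOfLE i).op).hom.comp h) f)) :
    X.homOfLE i ≫ projChart 𝒜 h hf hd hu =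
      projChart 𝒜 ((X.presheaf.map (homOfLE i).op).hom.comp h) hf hd hu' := by
  rw [projChart, projChart, ← Scheme.Opens.toSpecΓ_SpecMap_presheaf_map_assoc W V i, ← Spec.map_comp_assoc]
  congr 3
  refine CommRingCat.hom_ext (awayHom_eq 𝒜 _ hu' hf _ fun n a ha => ?_)
  change X.presheaf.map _ (awayHom 𝒜 h hu (Away.mk 𝒜 hf n a ha)) * (X.presheaf.map _ (h f)) ^ n = X.presheaf.map _ (h a)
  rw [← map_pow, ← map_mul, awayHom_mk]

theorem projChart_mul {e : ℕ} {g : A} (hg : g ∈ 𝒜 e) (hfg : f * g ∈ 𝒜 (d + e)) (hpos : 0 < d + e)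
    (hufg : IsUnit (h (f * g))) :
    projChart 𝒜 h hf hd hu = projChart 𝒜 h hfg hpos hufg := by
  rw [projChart, projChart, ← Proj.SpecMap_awayMap_awayι 𝒜 hf hd hg rfl, ← Spec.map_comp_assoc]
  congr 3
  refine CommRingCat.hom_ext (awayHom_eq 𝒜 h hu hf _ fun n a ha => ?_).symm
  change awayHom 𝒜 h hufg (awayMap 𝒜 hg rfl (Away.mk 𝒜 hf n a ha)) * h f ^ n = h a
  rw [awayMap_mk]
  rw [map_mul, IsUnit.mul_iff] at hufg
  refine (hufg.2.pow n).mul_right_cancel ?_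
  rw [mul_assoc, ← mul_pow, ← map_mul, awayHom_mk, map_mul, map_pow]

theorem projChart_scale (h' : A →+* Γ(X, V)) (hu' : IsUnit (h' f)) (c : Γ(X, V))
    (hc : ∀ (k : ℕ) (a : A), a ∈ 𝒜 k → h' a = c ^ k * h a) :
    projChart 𝒜 h hf hd hu = projChart 𝒜 h' hf hd hu' := by
  rw [projChart, projChart]
  congr 3
  refine CommRingCat.hom_ext (awayHom_eq 𝒜 h' hu' hf _ fun n a ha => ?_)
  change awayHom 𝒜 h hu (Away.mk 𝒜 hf n a ha) * h' f ^ n = h' a
  rw [hc d f hf, hc _ a ha, mul_pow, mul_left_comm, awayHom_mk, smul_eq_mul, ← pow_mul, mul_comm d n]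

theorem projChart_map {B σB : Type u} [CommRing B] [SetLike σB B] [AddSubgroupClass σB B] {ℬ : ℕ → σB}
    [GradedRing ℬ] (φ : 𝒜 →+*ᵍ ℬ) (hφ : HomogeneousIdeal.irrelevant ℬ ≤ (HomogeneousIdeal.irrelevant 𝒜).map φ)
    (k : B →+* Γ(X, V)) (hk : ∀ a, k (φ a) = h a) (huk : IsUnit (k (φ f))) :
    projChart ℬ k (show φ f ∈ ℬ d from φ.2 hf) hd huk ≫ Proj.map φ hφ = projChart 𝒜 h hf hd hu := by
  rw [projChart, projChart, Category.assoc, Category.assoc, Proj.awayι_comp_map φ hφ hd f hf, ← Spec.map_comp_assoc]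
  congr 3
  refine CommRingCat.hom_ext (awayHom_eq 𝒜 h hu hf _ fun n a ha => ?_)
  change awayHom ℬ k huk (Away.map φ f (Away.mk 𝒜 hf n a ha)) * h f ^ n = h a
  rw [Away.map_mk φ f hf n a ha, ← hk, ← hk, awayHom_mk]

theorem projChart_toSpecZero :
    projChart 𝒜 h hf hd hu ≫ Proj.toSpecZero 𝒜 =
      V.toSpecΓ ≫ Spec.map (CommRingCat.ofHom (h.comp ((SetLike.GradeZero.subring 𝒜).subtype))) := by
  rw [projChart, Category.assoc, Category.assoc, Proj.awayι_toSpecZero, ← Spec.map_comp]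
  congr 2
  refine CommRingCat.hom_ext (RingHom.ext fun c => ?_)
  have e : fromZeroRingHom 𝒜 (Submonoid.powers f) c = Away.mk 𝒜 hf 0 (c : A) (by simp) := by
    apply val_injective
    simp [fromZeroRingHom]
  change awayHom 𝒜 h hu (fromZeroRingHom 𝒜 _ c) = h c
  rw [e]
  simpa using awayHom_mk 𝒜 h hu hf 0 (c : A) (by simp)

theorem awayι_eq_fromSpec :
    Proj.awayι 𝒜 f hf hd =
      Spec.map (Proj.basicOpenIsoAway 𝒜 f hf hd).inv ≫ (Proj.isAffineOpen_basicOpen 𝒜 f hf hd).fromSpec := by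
  rw [← cancel_epi (Spec.map (Proj.basicOpenIsoAway 𝒜 f hf hd).hom), ← Spec.map_comp_assoc, Iso.inv_hom_id,
    Spec.map_id, Category.id_comp, IsAffineOpen.fromSpec, ← cancel_epi (Proj.isAffineOpen_basicOpen 𝒜 f hf hd).isoSpec.hom,
    Iso.hom_inv_id_assoc, IsAffineOpen.isoSpec_hom]
  rw [Proj.awayι, ← Category.assoc, ← Category.assoc]
  change (Proj.basicOpenToSpec 𝒜 f ≫ _) ≫ _ = _
  rw [← Proj.basicOpenIsoSpec_hom 𝒜 f hf hd, Iso.hom_inv_id, Category.id_comp]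

/-- In degree one, through the affine open `D₊(f)`. -/
theorem projChart_eq_chartHom {f₁ : A} (hf₁ : f₁ ∈ 𝒜 1) (h1 : h f₁ = 1) :
    projChart 𝒜 h hf₁ Nat.one_pos (h1.symm ▸ isUnit_one) =
      V.toSpecΓ ≫ Spec.map (H11Tilde.chartHom 𝒜 h hf₁ h1) ≫
        (Proj.isAffineOpen_basicOpen 𝒜 f₁ hf₁ Nat.one_pos).fromSpec := by
  rw [projChart, awayι_eq_fromSpec, H11Tilde.chartHom, Spec.map_comp, Category.assoc]
  rfl

end Groth.Agent.H11Sym
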