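import Groth.Agent.H11Sym.SymSheaf
import Groth.Agent.H11Sym.ProjChart
import Groth.Agent.H11Proj.ProjData
import Groth.Agent.H11Proj.ProjTransfer

/-!
# The canonical sections of `O(1)` on a projective bundle
-/

set_option autoImplicit false
set_option linter.style.haveILetI false

universe u

open CategoryTheory AlgebraicGeometry TopologicalSpace Opposite
open Groth.Agent.H11Proj Groth.Agent.H11Tilde

noncomputable section

namespace Groth.Agent.H11Sym

/-- A module map from compatible maps over the affine opens. -/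
theorem exists_hom_of_affine {S : Scheme.{u}} (E N : S.Modules)
    (f : ∀ U : S.Opens, IsAffineOpen U → (Γ(E, U) →+ Γ(N, U)))
    (hs : ∀ U hU (r : Γ(S, U)) x, f U hU (r • x) = r • f U hU x)
    (hn : ∀ (U : S.Opens) (hU : IsAffineOpen U) (r : Γ(S, U)) x,
      f _ (hU.basicOpen r) (E.presheaf.map (homOfLE (S.basicOpen_le r)).op x) =
        N.presheaf.map (homOfLE (S.basicOpen_le r)).op (f U hU x)) :
    ∃ j : E ⟶ N, ∀ U hU x, j.app U x = f U hU x := by
  let η : (Scheme.AffineZariskiSite.toOpensFunctor S).op ⋙ E.presheaf ⟶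
      (Scheme.AffineZariskiSite.toOpensFunctor S).op ⋙ N.presheaf :=
    { app := fun U => AddCommGrpCat.ofHom (f U.unop.1 U.unop.2)
      naturality := fun U V i => by
        obtain ⟨⟨V, hV⟩⟩ := V
        obtain ⟨r, hr⟩ := i.unop.le
        subst hr
        exact AddCommGrpCat.hom_ext (AddMonoidHom.ext (hn U.unop.1 U.unop.2 r)) }
  let g : E.presheaf ⟶ N.presheaf :=
    Functor.IsCoverDense.restrictHomEquivHom (G := Scheme.AffineZariskiSite.toOpensFunctor S)
      (K := Opens.grothendieckTopology S) (ℱ := E.presheaf)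
      (ℱ' := (⟨N.presheaf, N.isSheaf⟩ : TopCat.Sheaf AddCommGrpCat.{u} S.carrier)) η
  have hg : (Scheme.AffineZariskiSite.toOpensFunctor S).op.whiskerLeft g = η :=
    (Functor.IsCoverDense.restrictHomEquivHom (G := Scheme.AffineZariskiSite.toOpensFunctor S)
      (K := Opens.grothendieckTopology S) (ℱ := E.presheaf)
      (ℱ' := (⟨N.presheaf, N.isSheaf⟩ : TopCat.Sheaf AddCommGrpCat.{u} S.carrier))).symm_apply_apply _
  have hgU : ∀ U hU x, g.app (op U) x = f U hU x := fun U hU x =>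
    ConcreteCategory.congr_hom (NatTrans.congr_app hg (op ⟨U, hU⟩)) x
  have hlin : ∀ (W : S.Opens) (r : Γ(S, W)) (x : Γ(E, W)),
      g.app (op W) (r • x) = r • (show Γ(N, W) from g.app (op W) x) := fun W r x => by
    refine eq_of_locally _ _ fun s hs' => ?_
    obtain ⟨U, hU, hsU, i⟩ := exists_affine_mem_le hs'
    refine ⟨U, i, hsU, ?_⟩
    have e₁ := ConcreteCategory.congr_hom (g.naturality (homOfLE i).op) (r • x)
    have e₂ := ConcreteCategory.congr_hom (g.naturality (homOfLE i).op) x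
    rw [ConcreteCategory.comp_apply, ConcreteCategory.comp_apply] at e₁ e₂
    rw [hgU U hU] at e₁ e₂
    rw [Scheme.Modules.map_smul, ← e₁, Scheme.Modules.map_smul, hs]
    exact congrArg _ e₂
  exact ⟨⟨PresheafOfModules.homMk g fun W r x => hlin W.unop r x⟩, hgU⟩

variable {Y P : Scheme.{u}} {E : Y.Modules} {𝒯 : RelProj.QCGrAlg Y} {j : E ⟶ 𝒯.toModule} {p : P ⟶ Y}
  {chart : ∀ (U : Y.Opens) (hU : IsAffineOpen U), (((p ⁻¹ᵁ U : P.Opens) : Scheme.{u}) ≅ Proj (𝒯.deg U hU))}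
  {O1 : P.Modules} {lam : ∀ (U : Y.Opens) (hU : IsAffineOpen U),
    O1 ⟶ (Scheme.Modules.pushforward (RelProj.emb p chart U hU)).obj (GrTwist.twist (𝒯.deg U hU) 1)}
  (hE : Coh.IsQCoh E) (hT : RelProj.IsGrSymAlg E 𝒯 j) (hP : RelProj.IsRelProj 𝒯 p chart)
  (hL : RelProj.IsRelTwist 𝒯 p chart 1 O1 lam)

include hT in
/-- A section of `E` has degree one. -/
theorem japp_mem {U : Y.Opens} (hU : IsAffineOpen U) (m : Γ(E, U)) :
    japp (B := 𝒯.toQCAlg) j U m ∈ 𝒯.deg U hU 1 := hT.2 U hU m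

/-- The canonical section of `O(1)` of a section of `E`. -/
def ks {U : Y.Opens} (hU : IsAffineOpen U) (e : Γ(E, U)) : Γ(O1, p ⁻¹ᵁ U) := Taut.tw hL hU (japp_mem hT hU e)

theorem ks_add {U : Y.Opens} (hU : IsAffineOpen U) (a b : Γ(E, U)) :
    ks hT hL hU (a + b) = ks hT hL hU a + ks hT hL hU b := by
  rw [ks, ks, ks, ← Taut.tw_add hL hU]
  exact Taut.tw_congr hL hU (japp_add j U a b) _ _

include hE hP in
theorem ks_smul {U : Y.Opens} (hU : IsAffineOpen U) (r : Γ(Y, U)) (a : Γ(E, U)) :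
    ks hT hL hU (r • a) = p.app U r • ks hT hL hU a := by
  have h : (𝒯.str.app (op U)).hom r * japp j U a ∈ 𝒯.deg U hU 1 := japp_smul j U r a ▸ japp_mem hT hU (r • a)
  rw [ks, ks, ← Taut.tw_smul (isGenDegOne hE hT) hP hL hU r (japp_mem hT hU a) h]
  exact Taut.tw_congr hL hU (japp_smul j U r a) _ _

include hP in
theorem ks_res {U V : Y.Opens} (hU : IsAffineOpen U) (hV : IsAffineOpen V) (r : Γ(Y, U))
    (e : V = Y.basicOpen r) (i : V ≤ U) (a : Γ(E, U)) :
    resS O1 (p.preimage_mono i) (ks hT hL hU a) = ks hT hL hV (E.presheaf.map (homOfLE i).op a) := by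
  rw [ks, ks, Taut.tw_res_basicOpen hP hL hU hV r e i]
  exact Taut.tw_congr hL hV (japp_res j i a).symm _ _

include hE hT hP hL in
theorem exists_canon :
    ∃ φ : E ⟶ (Scheme.Modules.pushforward p).obj O1, ∀ (U : Y.Opens) (hU : IsAffineOpen U) (e : Γ(E, U)),
      φ.app U e = ks hT hL hU e :=
  exists_hom_of_affine E ((Scheme.Modules.pushforward p).obj O1)
    (fun U hU => ((AddMonoidHom.mk' (ks hT hL hU) (ks_add hT hL hU) :
      Γ(E, U) →+ Γ(O1, p ⁻¹ᵁ U)) : Γ(E, U) →+ Γ((Scheme.Modules.pushforward p).obj O1, U)))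
    (fun U hU r x => ks_smul hE hT hP hL hU r x)
    (fun U hU r x => (ks_res hT hP hL hU (hU.basicOpen r) r rfl (Y.basicOpen_le r) x).symm)

include hE hT hP hL in
theorem isInvertible_twist_one : PicF.IsInvertible O1 := by
  refine isInvertible_of_openImmersions (fun U : Y.affineOpens => RelProj.emb p chart U.1 U.2)
    (exists_mem_range_emb p chart) O1 fun U => ?_
  refine isInvertible_of_iso
    (isoOfBijectiveApp (RelProj.emb p chart U.1 U.2) (lam U.1 U.2) fun W hW =>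
      hL.bijective U.1 U.2 W (hW.trans (opensRange_emb p chart U.1 U.2).le)).symm ?_
  intro x
  obtain ⟨a, ha, hax⟩ := exists_degOne_notMem (𝒯.deg U.1 U.2) (isGenDegOne hE hT U.1 U.2) x
  obtain ⟨e⟩ := nonempty_twist_restrict_iso (𝒯.deg U.1 U.2) ha 1 (Proj.basicOpen (𝒯.deg U.1 U.2) a) le_rfl
  rw [Nat.cast_one, mul_one] at e
  exact ⟨_, hax, ⟨e⟩⟩

/-- The open of `P(E)` where the canonical section of `m` generates. -/
def dOpen {U' : Y.Opens} (hU : IsAffineOpen U') (m : Γ(E, U')) : P.Opens :=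
  RelProj.emb p chart U' hU ''ᵁ Proj.basicOpen (𝒯.deg U' hU) (japp j U' m)

include hE in
theorem genAt_ks {U : Y.Opens} (hU : IsAffineOpen U) (m : Γ(E, U)) :
    genAt O1 (ks hT hL hU m) = dOpen (𝒯 := 𝒯) (j := j) (chart := chart) hU m :=
  Taut.genAt_tw (isGenDegOne hE hT) hL hU (japp_mem hT hU m)

theorem dOpen_le {U : Y.Opens} (hU : IsAffineOpen U) (m : Γ(E, U)) :
    dOpen (𝒯 := 𝒯) (j := j) (chart := chart) hU m ≤ p ⁻¹ᵁ U :=
  (Scheme.Hom.image_le_opensRange _ _).trans (opensRange_emb p chart U hU).le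

include hT in
theorem isAffineOpen_dOpen {U : Y.Opens} (hU : IsAffineOpen U) (m : Γ(E, U)) :
    IsAffineOpen (dOpen (𝒯 := 𝒯) (j := j) (chart := chart) hU m) :=
  (Proj.isAffineOpen_basicOpen (𝒯.deg U hU) (japp j U m) (japp_mem hT hU m) Nat.one_pos).image_of_isOpenImmersion _

include hE hT in
theorem exists_mem_dOpen (x : P) :
    ∃ (U : Y.Opens) (hU : IsAffineOpen U) (m : Γ(E, U)), x ∈ dOpen (𝒯 := 𝒯) (j := j) (chart := chart) hU m := by
  obtain ⟨⟨U, hU⟩, y, rfl⟩ := exists_mem_range_emb p chart x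
  obtain ⟨a, ha, hay⟩ := exists_degOne_notMem (𝒯.deg U hU) (isGenDegOne hE hT U hU) y
  obtain ⟨m, rfl⟩ := (mem_deg_one hE hT hU).1 ha
  exact ⟨U, hU, m, y, hay, rfl⟩

section kappa

variable {U : Y.Opens} (hU : IsAffineOpen U) (m : Γ(E, U))

/-- A function on `D₊` of a chart as a function on `P`. -/
def kappa : Γ(Proj (𝒯.deg U hU), Proj.basicOpen (𝒯.deg U hU) (japp j U m)) ⟶
    Γ(P, dOpen (𝒯 := 𝒯) (j := j) (chart := chart) hU m) :=
  ((RelProj.emb p chart U hU).appIso _).inv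

theorem ks_eq_kappa_smul (n : Γ(E, U)) :
    resS O1 (dOpen_le (𝒯 := 𝒯) (j := j) (chart := chart) hU m) (ks hT hL hU n) =
      kappa (chart := chart) hU m (H11Tilde.ratio (𝒯.deg U hU) (japp_mem hT hU m) (japp_mem hT hU n)) •
        resS O1 (dOpen_le (𝒯 := 𝒯) (j := j) (chart := chart) hU m) (ks hT hL hU m) := by
  let g := RelProj.emb p chart U hU
  let D := Proj.basicOpen (𝒯.deg U hU) (japp j U m)
  refine (hL.bijective U hU _ (dOpen_le (𝒯 := 𝒯) (j := j) (chart := chart) hU m)).1 ?_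
  change Taut.lamApp hU lam _ _ = Taut.lamApp hU lam _ _
  rw [ks, ks, Taut.lamApp_smul, Taut.tw_res hL hU _ (dOpen_le (𝒯 := 𝒯) (j := j) (chart := chart) hU m), Taut.tw_res hL hU _ (dOpen_le (𝒯 := 𝒯) (j := j) (chart := chart) hU m)]
  have e : g ⁻¹ᵁ (g ''ᵁ D) ≤ D := (g.preimage_image_eq D).le
  have h := congrArg (fun z => (GrTwist.twist (𝒯.deg U hU) 1).presheaf.map (homOfLE e).op z)
    (gs_eq_ratio_smul (𝒯.deg U hU) (japp_mem hT hU m) (japp_mem hT hU n))
  simp only [resS, Scheme.Modules.map_smul, H10Coh.mres_mres] at h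
  refine h.trans (congrArg (· • _) ?_)
  change _ = (g.app (g ''ᵁ D)) ((g.appIso D).inv _)
  rw [← ConcreteCategory.comp_apply, Scheme.Hom.appIso_inv_app]
  rfl

include hE hT hP in
theorem kappa_str (r : Γ(Y, U)) :
    p.appLE U _ (dOpen_le (𝒯 := 𝒯) (j := j) (chart := chart) hU m) r =
      kappa (chart := chart) hU m (H11Tilde.ratio (𝒯.deg U hU) (japp_mem hT hU m) (𝒯.str_mem U hU r)) := by
  let g := RelProj.emb p chart U hU
  let D := Proj.basicOpen (𝒯.deg U hU) (japp j U m)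
  have hD : D ≤ g ⁻¹ᵁ (p ⁻¹ᵁ U) := fun y _ => (opensRange_emb p chart U hU).le ⟨y, rfl⟩
  have h1 := H11Proj.appLE_basicOpen (𝒯.deg U hU) hU (𝒯.strZero U hU) (g := g ≫ p) (by
    simp only [g, RelProj.emb, Category.assoc]
    rw [← hP.chart_over U hU, Iso.inv_hom_id_assoc]) (japp_mem hT hU m) hD r
  change _ = (g.appIso D).inv _
  rw [show H11Tilde.ratio (𝒯.deg U hU) (japp_mem hT hU m) (𝒯.str_mem U hU r) = (g ≫ p).appLE U D hD r from h1.symm,
    ← Scheme.Hom.appLE_comp_appLE g p U (g ''ᵁ D) D (dOpen_le (𝒯 := 𝒯) (j := j) (chart := chart) hU m) (g.preimage_image_eq D).ge,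
    ← Scheme.Hom.appIso_hom', ← ConcreteCategory.comp_apply, Category.assoc, Iso.hom_inv_id, Category.comp_id]
  rfl

end kappa

end Groth.Agent.H11Sym
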