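import Groth.Agent.H11Sym.Bundle
import Groth.Agent.H11QMap.Chart

/-!
# The disjoint union of two projective bundles inside the bundle of the direct sum
-/

set_option autoImplicit false
set_option linter.style.haveILetI false
set_option linter.unusedSectionVars false

universe u

open CategoryTheory CategoryTheory.Limits AlgebraicGeometry TopologicalSpace Opposite

noncomputable section

namespace Groth.Agent.H11Sym.BundleCoprod

theorem isClosedImmersion_desc {A B Z : Scheme.{u}} (f : A ⟶ Z) (g : B ⟶ Z) [IsClosedImmersion f]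
    [IsClosedImmersion g] (hd : ∀ a b, f a ≠ g b) : IsClosedImmersion (coprod.desc f g) := by
  have hl : ∀ a, coprod.desc f g ((coprod.inl : A ⟶ A ⨿ B) a) = f a := fun a => by
    rw [← Scheme.Hom.comp_apply, coprod.inl_desc]
  have hr : ∀ b, coprod.desc f g ((coprod.inr : B ⟶ A ⨿ B) b) = g b := fun b => by
    rw [← Scheme.Hom.comp_apply, coprod.inr_desc]
  haveI : SurjectiveOnStalks (coprod.desc f g) := ⟨fun z => by
    obtain ⟨w, rfl⟩ := (coprodMk A B).surjective z
    rcases w with a | b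
    · rw [coprodMk_inl]
      haveI : SurjectiveOnStalks (coprod.inl ≫ coprod.desc f g) := by rw [coprod.inl_desc]; infer_instance
      have h := (coprod.inl ≫ coprod.desc f g).stalkMap_surjective a
      rw [Scheme.Hom.stalkMap_comp] at h
      intro t
      obtain ⟨s, hs⟩ := h ((coprod.inl : A ⟶ A ⨿ B).stalkMap a t)
      exact ⟨s, ((ConcreteCategory.bijective_of_isIso ((coprod.inl : A ⟶ A ⨿ B).stalkMap a)).1
        (((CommRingCat.comp_apply _ _ _).symm.trans hs)))⟩
    · rw [coprodMk_inr]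
      haveI : SurjectiveOnStalks (coprod.inr ≫ coprod.desc f g) := by rw [coprod.inr_desc]; infer_instance
      have h := (coprod.inr ≫ coprod.desc f g).stalkMap_surjective b
      rw [Scheme.Hom.stalkMap_comp] at h
      intro t
      obtain ⟨s, hs⟩ := h ((coprod.inr : B ⟶ A ⨿ B).stalkMap b t)
      exact ⟨s, ((ConcreteCategory.bijective_of_isIso ((coprod.inr : B ⟶ A ⨿ B).stalkMap b)).1
        (((CommRingCat.comp_apply _ _ _).symm.trans hs)))⟩⟩
  refine ⟨Topology.IsClosedEmbedding.of_continuous_injective_isClosedMap (coprod.desc f g).continuous ?_ ?_⟩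
  · intro x y hxy
    obtain ⟨x, rfl⟩ := (coprodMk A B).surjective x
    obtain ⟨y, rfl⟩ := (coprodMk A B).surjective y
    rcases x with a | a <;> rcases y with b | b <;> simp only [coprodMk_inl, coprodMk_inr, hl, hr] at hxy ⊢
    · rw [f.isClosedEmbedding.injective hxy]
    · exact absurd hxy (hd a b)
    · exact absurd hxy.symm (hd b a)
    · rw [g.isClosedEmbedding.injective hxy]
  · intro C hC
    have : coprod.desc f g '' C = f '' ((coprod.inl : A ⟶ A ⨿ B) ⁻¹' C) ∪
        g '' ((coprod.inr : B ⟶ A ⨿ B) ⁻¹' C) := by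
      ext z
      constructor
      · rintro ⟨x, hx, rfl⟩
        obtain ⟨w, rfl⟩ := (coprodMk A B).surjective x
        rcases w with a | b
        · rw [coprodMk_inl] at hx ⊢
          exact Or.inl ⟨a, hx, (hl a).symm⟩
        · rw [coprodMk_inr] at hx ⊢
          exact Or.inr ⟨b, hx, (hr b).symm⟩
      · rintro (⟨a, ha, rfl⟩ | ⟨b, hb, rfl⟩)
        · exact ⟨_, ha, hl a⟩
        · exact ⟨_, hb, hr b⟩
    rw [this]
    exact (f.isClosedEmbedding.isClosedMap _ (hC.preimage (coprod.inl : A ⟶ A ⨿ B).continuous)).union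
      (g.isClosedEmbedding.isClosedMap _ (hC.preimage (coprod.inr : B ⟶ A ⨿ B).continuous))

variable {Y : Scheme.{u}} {E G : Y.Modules} {𝒮E 𝒮 : RelProj.QCGrAlg Y}
  {jE : E ⟶ 𝒮E.toModule} {j : G ⟶ 𝒮.toModule}
  (π : 𝒮.toQCAlg ⟶ 𝒮E.toQCAlg) (hπ : RelProj.IsGradedHom π) (r : G ⟶ E)
  (hjπ : j ≫ RelSpec.QCAlg.Hom.toModuleMap π = r ≫ jE)

include hjπ in
theorem map_japp (U : Y.Opens) (x : Γ(G, U)) :
    (π.hom.app (op U)).hom (japp (B := 𝒮.toQCAlg) j U x) = japp (B := 𝒮E.toQCAlg) jE U (r.app U x) :=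
  congrArg (fun q : G ⟶ 𝒮E.toModule => japp (B := 𝒮E.toQCAlg) q U x) hjπ

include hjπ in
theorem surjOn_of_split (hE : Coh.IsQCoh E) (hjE : RelProj.IsGrSymAlg E 𝒮E jE)
    (hj : ∀ (U : Y.Opens) (hU : IsAffineOpen U) (x : Γ(G, U)), japp (B := 𝒮.toQCAlg) j U x ∈ 𝒮.deg U hU 1)
    (i : E ⟶ G) (hi : i ≫ r = 𝟙 E) (U : Y.Opens) (hU : IsAffineOpen U) :
    ∀ n, 1 ≤ n → Set.SurjOn (RelProj.gradedHomAt π hπ U hU) (𝒮.deg U hU n) (𝒮E.deg U hU n) := by
  refine H11Proj.surjOn_of_degOne _ (isGenDegOne hE hjE U hU) fun a ha => ?_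
  obtain ⟨x, rfl⟩ := (mem_deg_one hE hjE hU).1 ha
  refine ⟨japp (B := 𝒮.toQCAlg) j U (i.app U x), hj U hU _, ?_⟩
  refine (map_japp π r hjπ U _).trans (congrArg (japp (B := 𝒮E.toQCAlg) jE U) ?_)
  exact congr($(congrArg (fun k => Scheme.Modules.Hom.app k U) hi) x)

end Groth.Agent.H11Sym.BundleCoprod
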