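import Groth.Agent.H11Sym.BundleTaut
import Groth.Agent.H11Proj.ProjProd
import Groth.Agent.H11Ample.Extend
import Groth.Agent.H11Ample.Restrict

/-!
# `P(E ⊗ L) ≅ P(E)`
-/

set_option autoImplicit false
set_option linter.style.haveILetI false

universe u

open CategoryTheory AlgebraicGeometry TopologicalSpace Opposite
open Groth.Agent.H11Proj Groth.Agent.H11Tilde Groth.Agent.H11Ample

noncomputable section

namespace Groth.Agent.H11Sym

section ext

theorem ratio_congr {A σ : Type u} [CommRing A] [SetLike σ A] [AddSubgroupClass σ A] (𝒜 : ℕ → σ) [GradedRing 𝒜]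
    {f : A} (hf : f ∈ 𝒜 1) {k l : ℕ} {a b : A} (e : a = b) (ekl : k = l) (ha : a ∈ 𝒜 k) (hb : b ∈ 𝒜 l) :
    ratio 𝒜 hf ha = ratio 𝒜 hf hb := by
  subst e ekl
  rfl

variable {Y P : Scheme.{u}} {E : Y.Modules} {𝒯 : RelProj.QCGrAlg Y} {j : E ⟶ 𝒯.toModule} {p : P ⟶ Y}
  {chart : ∀ (U : Y.Opens) (hU : IsAffineOpen U), (((p ⁻¹ᵁ U : P.Opens) : Scheme.{u}) ≅ Proj (𝒯.deg U hU))}
  (hE : Coh.IsQCoh E) (hT : RelProj.IsGrSymAlg E 𝒯 j) (hP : RelProj.IsRelProj 𝒯 p chart)

include hE hP in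
/-- Functions on a standard open of `P(E)` are determined on the base and on the degree one ratios. -/
theorem kappa_hom_ext {U : Y.Opens} (hU : IsAffineOpen U) (m : Γ(E, U)) {R : CommRingCat.{u}}
    (a b : Γ(P, dOpen (𝒯 := 𝒯) (j := j) (chart := chart) hU m) ⟶ R)
    (h₀ : p.appLE U _ (dOpen_le (𝒯 := 𝒯) (j := j) (chart := chart) hU m) ≫ a =
      p.appLE U _ (dOpen_le (𝒯 := 𝒯) (j := j) (chart := chart) hU m) ≫ b)
    (h₁ : ∀ n : Γ(E, U), a (kappa (chart := chart) hU m (ratio (𝒯.deg U hU) (japp_mem hT hU m) (japp_mem hT hU n))) =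
      b (kappa (chart := chart) hU m (ratio (𝒯.deg U hU) (japp_mem hT hU m) (japp_mem hT hU n)))) : a = b := by
  haveI : IsIso (kappa (𝒯 := 𝒯) (j := j) (chart := chart) hU m) := by rw [kappa]; infer_instance
  refine (cancel_epi (kappa (chart := chart) hU m)).1
    (H11Tilde.ringHom_ext_ratio (𝒯.deg U hU) (japp_mem hT hU m) fun k x hx => ?_)
  let dh (c : Γ(P, dOpen (𝒯 := 𝒯) (j := j) (chart := chart) hU m) ⟶ R) : 𝒯.presheaf.obj (op U) →+* R :=
    ((kappa (chart := chart) hU m ≫ c).hom.comp (Polynomial.evalRingHom 1)).comp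
      (H11Tilde.dehom (𝒯.deg U hU) (japp_mem hT hU m))
  have hdh : ∀ c {l : ℕ} {y : 𝒯.presheaf.obj (op U)} (hy : y ∈ 𝒯.deg U hU l),
      dh c y = c (kappa (chart := chart) hU m (ratio (𝒯.deg U hU) (japp_mem hT hU m) hy)) := fun c l y hy => by
    simp only [dh, RingHom.comp_apply, H11Tilde.dehom_of_mem _ (japp_mem hT hU m) hy, Polynomial.coe_evalRingHom,
      Polynomial.eval_monomial, one_pow, mul_one]
    rfl
  have he : dh a = dh b := (hT.1.isAffSym hE).ringHom_ext hU (fun s => by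
      rw [hdh a (𝒯.str_mem U hU s), hdh b (𝒯.str_mem U hU s), ← kappa_str hE hT hP hU m s]
      exact congr($h₀ s)) fun n => by
      rw [hdh a (japp_mem hT hU n), hdh b (japp_mem hT hU n)]
      exact h₁ n
  exact (hdh a hx).symm.trans ((RingHom.congr_fun he x).trans (hdh b hx))

include hE hP in
theorem exists_coordHom {U : Y.Opens} (hU : IsAffineOpen U) (m : Γ(E, U)) {X : Scheme.{u}} {q : X ⟶ Y} {V : X.Opens}
    (i : V ≤ q ⁻¹ᵁ U) (c : Γ(E, U) →+ Γ(X, V)) (hc : ∀ r n, c (r • n) = q.appLE U V i r * c n) (hm : c m = 1) :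
    ∃ χ : Γ(P, dOpen (𝒯 := 𝒯) (j := j) (chart := chart) hU m) ⟶ Γ(X, V),
      p.appLE U _ (dOpen_le (𝒯 := 𝒯) (j := j) (chart := chart) hU m) ≫ χ = q.appLE U V i ∧
      ∀ n, χ (kappa (chart := chart) hU m (ratio (𝒯.deg U hU) (japp_mem hT hU m) (japp_mem hT hU n))) = c n := by
  obtain ⟨h, h₀, h₁⟩ := (hT.1.isAffSym hE).exists_lift hU (q.appLE U V i).hom c hc
  have hone : h (japp (B := 𝒯.toQCAlg) j U m) = 1 := (h₁ m).trans hm
  let iso := (RelProj.emb p chart U hU).appIso (Proj.basicOpen (𝒯.deg U hU) (japp (B := 𝒯.toQCAlg) j U m))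
  let χ : Γ(P, dOpen (𝒯 := 𝒯) (j := j) (chart := chart) hU m) ⟶ Γ(X, V) :=
    iso.hom ≫ H11Tilde.chartHom (𝒯.deg U hU) h (japp_mem hT hU m) hone
  have hχ : ∀ {k : ℕ} {a : 𝒯.presheaf.obj (op U)} (ha : a ∈ 𝒯.deg U hU k),
      χ (kappa (chart := chart) hU m (ratio (𝒯.deg U hU) (japp_mem hT hU m) ha)) = h a := by
    intro k a ha
    let ρ := ratio (𝒯.deg U hU) (japp_mem hT hU m) ha
    change H11Tilde.chartHom (𝒯.deg U hU) h (japp_mem hT hU m) hone (iso.hom (iso.inv ρ)) = _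
    have e : iso.hom (iso.inv ρ) = ρ := ConcreteCategory.congr_hom iso.inv_hom_id ρ
    exact (congrArg _ e).trans (H11Tilde.chartHom_ratio _ _ _ _ ha)
  refine ⟨χ, CommRingCat.hom_ext (RingHom.ext fun r => ?_), fun n => (hχ _).trans (h₁ n)⟩
  change χ (p.appLE U _ (dOpen_le (𝒯 := 𝒯) (j := j) (chart := chart) hU m) r) = _
  rw [kappa_str hE hT hP hU m r, hχ]
  exact h₀ r

end ext

variable {Y P Q : Scheme.{u}} {E L : Y.Modules}
  {𝒮 : RelProj.QCGrAlg Y} {j : E ⟶ 𝒮.toModule} {𝒯 : RelProj.QCGrAlg Y} {k : CohB1.tensorMod E L ⟶ 𝒯.toModule}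
  {p : P ⟶ Y} {chart : ∀ (U : Y.Opens) (hU : IsAffineOpen U), (((p ⁻¹ᵁ U : P.Opens) : Scheme.{u}) ≅ Proj (𝒮.deg U hU))}
  {q : Q ⟶ Y} {chartQ : ∀ (U : Y.Opens) (hU : IsAffineOpen U), (((q ⁻¹ᵁ U : Q.Opens) : Scheme.{u}) ≅ Proj (𝒯.deg U hU))}
  {OP : P.Modules} {lamP : ∀ (U : Y.Opens) (hU : IsAffineOpen U),
    OP ⟶ (Scheme.Modules.pushforward (RelProj.emb p chart U hU)).obj (GrTwist.twist (𝒮.deg U hU) 1)}
  {OQ : Q.Modules} {lamQ : ∀ (U : Y.Opens) (hU : IsAffineOpen U),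
    OQ ⟶ (Scheme.Modules.pushforward (RelProj.emb q chartQ U hU)).obj (GrTwist.twist (𝒯.deg U hU) 1)}
  (hE : Coh.IsQCoh E) (hEL : Coh.IsQCoh (CohB1.tensorMod E L)) (hL : PicF.IsInvertible L)
  (hS : RelProj.IsGrSymAlg E 𝒮 j) (hT : RelProj.IsGrSymAlg (CohB1.tensorMod E L) 𝒯 k)
  (hP : RelProj.IsRelProj 𝒮 p chart) (hQ : RelProj.IsRelProj 𝒯 q chartQ)
  (hOP : RelProj.IsRelTwist 𝒮 p chart 1 OP lamP) (hOQ : RelProj.IsRelTwist 𝒯 q chartQ 1 OQ lamQ)

variable (L) in
/-- `(e, l) ↦ φ(e) ⊗ p^* l`. -/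
def twistPairing (φ : E ⟶ (Scheme.Modules.pushforward p).obj OP) :
    H11Tilde.Pairing E L ((Scheme.Modules.pushforward p).obj
      (CohB1.tensorMod OP ((Scheme.Modules.pullback p).obj L))) where
  toFun U e l := (show Γ(CohB1.tensorMod OP ((Scheme.Modules.pullback p).obj L), p ⁻¹ᵁ U) from
    tm (uSec φ e) (OmegaSh.pullSect p L U l))
  add_left U e e' l := by
    rw [uSec_add]
    exact tm_add_left _ _ _
  smul_left U r e l := by
    rw [uSec_smul]
    exact tm_smul_left _ _ _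
  add_right U e l l' := by
    rw [show OmegaSh.pullSect p L U (l + l') = OmegaSh.pullSect p L U l + OmegaSh.pullSect p L U l' from map_add _ _ _]
    exact tm_add_right _ _ _
  smul_right U r e l := by
    rw [OmegaSh.pullSect_smul]
    exact tm_smul_right _ _ _
  res U V h e l := by
    change resS _ (p.preimage_mono h) (tm (uSec φ e) (OmegaSh.pullSect p L U l)) =
      tm (uSec φ (E.presheaf.map (homOfLE h).op e)) (OmegaSh.pullSect p L V (L.presheaf.map (homOfLE h).op l))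
    rw [resS, tm_res, uSec_res φ h e, H11Tilde.pullSect_res]

include hE hEL hL hS hT hP hQ hOP hOQ in
/-- The isomorphism `P(E) ≅ P(E ⊗ L)`, under which `O(1)` pulls back to `O(1) ⊗ L`. -/
theorem exists_bundle_iso :
    ∃ i : P ≅ Q, i.hom ≫ q = p ∧
      Nonempty ((Scheme.Modules.pullback i.hom).obj OQ ≅ CohB1.tensorMod OP ((Scheme.Modules.pullback p).obj L)) := by
  obtain ⟨φ, hφ⟩ := exists_canon hE hS hP hOP
  let N := CohB1.tensorMod OP ((Scheme.Modules.pullback p).obj L)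
  let u : CohB1.tensorMod E L ⟶ (Scheme.Modules.pushforward p).obj N := H11Tilde.tensorDesc (twistPairing L φ)
  have hu : ∀ (U : Y.Opens) (hU : IsAffineOpen U) (n : Γ(E, U)) (l : Γ(L, U)),
      uSec u (tm n l) = tm (ks hS hOP hU n) (OmegaSh.pullSect p L U l) := fun U hU n l => by
    refine (H11Ample.tensorDesc_tm (twistPairing L φ) n l).trans ?_
    change tm (uSec φ n) _ = _
    exact congrArg (fun z => tm z (OmegaSh.pullSect p L U l)) (hφ U hU n)
  have hOPi := isInvertible_twist_one hE hS hP hOP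
  have hOQi := isInvertible_twist_one hEL hT hQ hOQ
  have small : ∀ y : Y, ∃ (U : Y.Opens) (l : Γ(L, U)), IsAffineOpen U ∧ y ∈ U ∧ IsGen L l := by
    intro y
    obtain ⟨B, l, hyB, hl⟩ := exists_gen hL y
    obtain ⟨U, hU, hyU, hUB⟩ := exists_affine_mem_le hyB
    exact ⟨U, L.presheaf.map (homOfLE hUB).op l, hU, hyU, hl.res hUB⟩
  -- sections of `E ⊗ L` over small opens
  have surjEL : ∀ {U : Y.Opens} {l : Γ(L, U)}, IsGen L l → ∀ t : Γ(CohB1.tensorMod E L, U), ∃ n, tm n l = t :=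
    fun {U l} hl t => by
      obtain ⟨n, hn⟩ := (bijective_tm (F := E) hl (le_refl U)).2 t
      exact ⟨n, by simpa only [H10Coh.mres_self] using hn⟩
  have gens : ∀ (U : Y.Opens) (hU : IsAffineOpen U) (l : Γ(L, U)), IsGen L l → ∀ m : Γ(E, U),
      genAt N (uSec u (tm m l)) = dOpen (𝒯 := 𝒮) (j := j) (chart := chart) hU m := by
    intro U hU l hl m
    rw [hu U hU, genAt_tm hOPi (H11Ample.isInvertible_pullback p hL) _ _, genAt_ks hE hS hOP hU m]
    refine inf_eq_left.2 ((dOpen_le (𝒯 := 𝒮) (j := j) (chart := chart) hU m).trans ?_)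
    exact le_genAt _ le_rfl (by rw [resS, H10Coh.mres_self]; exact IsGen.pullSect p hl)
  have hspan : Spans u := fun x => by
    obtain ⟨U, l, hU, hxU, hl⟩ := small (p x)
    obtain ⟨y, rfl⟩ := (opensRange_emb p chart U hU).ge (show x ∈ p ⁻¹ᵁ U from hxU)
    obtain ⟨a, ha, hay⟩ := exists_degOne_notMem (𝒮.deg U hU) (isGenDegOne hE hS U hU) y
    obtain ⟨m, rfl⟩ := (mem_deg_one hE hS hU).1 ha
    refine ⟨gMax u hU (tm m l), ?_⟩
    show _ ∈ genAt N (uSec u (tm m l))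
    rw [gens U hU l hl m]
    exact ⟨y, hay, rfl⟩
  obtain ⟨r, hr, τ, hτ⟩ := exists_toBundle hEL hT hQ hOQ hspan
  have hτ' : ∀ (U : Y.Opens) (hU : IsAffineOpen U) (t : Γ(CohB1.tensorMod E L, U)),
      τ.hom.app (r ⁻¹ᵁ (q ⁻¹ᵁ U)) (ksPull hT hOQ r hU t) = resS N (by rw [← hr]; exact le_rfl) (uSec u t) := by
    intro U hU t
    have := hτ U hU t (r ⁻¹ᵁ (q ⁻¹ᵁ U)) le_rfl (by rw [← hr]; exact le_rfl)
    rwa [resS, H10Coh.mres_self] at this
  -- the preimage of a standard open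
  have hpre : ∀ (U : Y.Opens) (hU : IsAffineOpen U) (l : Γ(L, U)), IsGen L l → ∀ m : Γ(E, U),
      r ⁻¹ᵁ dOpen (𝒯 := 𝒯) (j := k) (chart := chartQ) hU (tm m l) = dOpen (𝒯 := 𝒮) (j := j) (chart := chart) hU m := by
    intro U hU l hl m
    have e : r ⁻¹ᵁ (q ⁻¹ᵁ U) = p ⁻¹ᵁ U := by rw [← hr]; rfl
    have hgenpull : IsGen ((Scheme.Modules.pullback r).obj OQ)
        (resS _ (r.preimage_mono (dOpen_le (𝒯 := 𝒯) (j := k) (chart := chartQ) hU (tm m l)))
          (ksPull hT hOQ r hU (tm m l))) := isGen_ksPull hEL hT hOQ hU _ le_rfl _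
    refine le_antisymm ?_ ?_
    · have h := hgenpull.map_iso τ
      simp only [resS] at h
      rw [app_map_apply, hτ' U hU] at h
      simp only [resS, H10Coh.mres_mres] at h
      exact (le_genAt (uSec u (tm m l)) _ h).trans (gens U hU l hl m).le
    · have hle : dOpen (𝒯 := 𝒮) (j := j) (chart := chart) hU m ≤ r ⁻¹ᵁ (q ⁻¹ᵁ U) :=
        (dOpen_le (𝒯 := 𝒮) (j := j) (chart := chart) hU m).trans e.ge
      have h0 : IsGen N (resS N (dOpen_le (𝒯 := 𝒮) (j := j) (chart := chart) hU m) (uSec u (tm m l))) := by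
        have := (isGen_genAt (uSec u (tm m l))).res (gens U hU l hl m).ge
        simpa only [resS, H10Coh.mres_mres] using this
      have h1 := h0.map_iso τ.symm
      have h2 : resS ((Scheme.Modules.pullback r).obj OQ) hle (ksPull hT hOQ r hU (tm m l)) =
          τ.symm.hom.app _ (resS N (dOpen_le (𝒯 := 𝒮) (j := j) (chart := chart) hU m) (uSec u (tm m l))) := by
        rw [← hτ U hU (tm m l) _ hle (dOpen_le (𝒯 := 𝒮) (j := j) (chart := chart) hU m),
          ← ConcreteCategory.comp_apply, ← Scheme.Modules.Hom.comp_app, Iso.symm_hom, Iso.hom_inv_id]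
        rfl
      rw [← h2] at h1
      exact ((le_genAt _ hle h1).trans_eq (genAt_pullSect hOQi _)).trans_eq
        (congrArg (r ⁻¹ᵁ ·) (genAt_ks hEL hT hOQ hU (tm m l)))
  -- bijectivity on the standard opens
  have hbij : ∀ (U : Y.Opens) (hU : IsAffineOpen U) (l : Γ(L, U)) (hl : IsGen L l) (m : Γ(E, U)),
      Function.Bijective (r.appLE _ _ (hpre U hU l hl m).ge) := by
    intro U hU l hl m
    let D := dOpen (𝒯 := 𝒯) (j := k) (chart := chartQ) hU (tm m l)
    let D' := dOpen (𝒯 := 𝒮) (j := j) (chart := chart) hU m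
    let ψ : Γ(Q, D) ⟶ Γ(P, D') := r.appLE D D' (hpre U hU l hl m).ge
    have hD : D ≤ q ⁻¹ᵁ U := dOpen_le (𝒯 := 𝒯) (j := k) (chart := chartQ) hU (tm m l)
    have hD' : D' ≤ p ⁻¹ᵁ U := dOpen_le (𝒯 := 𝒮) (j := j) (chart := chart) hU m
    let κQ (t : Γ(CohB1.tensorMod E L, U)) : Γ(Q, D) :=
      kappa (chart := chartQ) hU (tm m l) (ratio (𝒯.deg U hU) (japp_mem hT hU (tm m l)) (japp_mem hT hU t))
    let κP (n : Γ(E, U)) : Γ(P, D') :=
      kappa (chart := chart) hU m (ratio (𝒮.deg U hU) (japp_mem hS hU m) (japp_mem hS hU n))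
    have hψ₀ : q.appLE U D hD ≫ ψ = p.appLE U D' hD' := by
      simp only [ψ]
      rw [Scheme.Hom.appLE_comp_appLE]
      subst hr
      rfl
    have hψ₁ : ∀ n, ψ (κQ (tm n l)) = κP n := by
      intro n
      have hle : D' ≤ r ⁻¹ᵁ (q ⁻¹ᵁ U) := (hpre U hU l hl m).ge.trans (r.preimage_mono hD)
      have e1 := congrArg (τ.hom.app D') (ksPull_smul_of_eq hT hOQ (r := r) hU (tm m l) (tm n l) (hpre U hU l hl m).ge hle)
      rw [Scheme.Modules.Hom.app_smul, hτ U hU _ D' hle hD', hτ U hU _ D' hle hD', hu U hU, hu U hU] at e1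
      have e2 : resS OP hD' (ks hS hOP hU n) = κP n • resS OP hD' (ks hS hOP hU m) :=
        ks_eq_kappa_smul hS hOP hU m n
      simp only [resS, N, tm_res] at e1 e2
      rw [e2, tm_smul_left] at e1
      have hg : IsGen N (tm (OP.presheaf.map (homOfLE hD').op (ks hS hOP hU m))
          (((Scheme.Modules.pullback p).obj L).presheaf.map (homOfLE hD').op (OmegaSh.pullSect p L U l))) := by
        refine isGen_tm ?_ ((IsGen.pullSect p hl).res hD')
        have := (isGen_genAt (ks hS hOP hU m)).res (genAt_ks hE hS hOP hU m).ge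
        simpa only [resS, H10Coh.mres_mres] using this
      have := (hg.bijective le_rfl).1
      refine (this ?_).symm
      beta_reduce
      rw [H10Coh.mres_self]
      exact e1
    let c : Γ(E, U) →+ Γ(Q, D) := AddMonoidHom.mk' (fun n => κQ (tm n l)) fun a b => by
      simp only [κQ]
      rw [← map_add, ← ratio_add]
      congr 1
      refine ratio_congr _ _ ?_ rfl _ _
      rw [tm_add_left, japp_add]
    obtain ⟨χ, hχ₀, hχ₁⟩ := exists_coordHom hE hS hP (chart := chart) hU m (q := q) hD c (fun s n => by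
      change κQ (tm (s • n) l) = q.appLE U D hD s * κQ (tm n l)
      rw [show q.appLE U D hD s = _ from kappa_str hEL hT hQ hU (tm m l) s]
      simp only [κQ]
      rw [← map_mul, ← ratio_mul]
      congr 1
      refine ratio_congr _ _ ?_ (zero_add 1).symm _ _
      rw [tm_smul_left, japp_smul]) (by
      change κQ (tm m l) = 1
      simp only [κQ]
      rw [ratio_self, map_one])
    have h1 : ψ ≫ χ = 𝟙 _ := by
      refine kappa_hom_ext hEL hT hQ hU (tm m l) _ _ ?_ fun t => ?_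
      · rw [reassoc_of% hψ₀, hχ₀, Category.comp_id]
      · obtain ⟨n, rfl⟩ := surjEL hl t
        change χ (ψ (κQ (tm n l))) = κQ (tm n l)
        rw [hψ₁]
        exact hχ₁ n
    have h2 : χ ≫ ψ = 𝟙 _ := by
      refine kappa_hom_ext hE hS hP hU m _ _ ?_ fun n => ?_
      · rw [reassoc_of% hχ₀, hψ₀, Category.comp_id]
      · change ψ (χ (κP n)) = κP n
        rw [hχ₁]
        exact hψ₁ n
    haveI : IsIso ψ := ⟨χ, h1, h2⟩
    exact ConcreteCategory.bijective_of_isIso ψ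
  haveI : IsIso r := by
    let J := Σ' (U : Y.Opens) (hU : IsAffineOpen U) (l : Γ(L, U)) (_ : IsGen L l), Γ(E, U)
    let D : J → Q.Opens := fun a => dOpen (𝒯 := 𝒯) (j := k) (chart := chartQ) a.2.1 (tm a.2.2.2.2 a.2.2.1)
    have hcov : TopologicalSpace.IsOpenCover D := by
      refine top_le_iff.1 fun x _ => Opens.mem_iSup.2 ?_
      obtain ⟨U, l, hU, hxU, hl⟩ := small (q x)
      obtain ⟨y, rfl⟩ := (opensRange_emb q chartQ U hU).ge (show x ∈ q ⁻¹ᵁ U from hxU)
      obtain ⟨a, ha, hay⟩ := exists_degOne_notMem (𝒯.deg U hU) (isGenDegOne hEL hT U hU) y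
      obtain ⟨t, rfl⟩ := (mem_deg_one hEL hT hU).1 ha
      obtain ⟨n, rfl⟩ := surjEL hl t
      exact ⟨⟨U, hU, l, hl, n⟩, y, hay, rfl⟩
    change MorphismProperty.isomorphisms Scheme r
    refine (IsZariskiLocalAtTarget.iff_of_iSup_eq_top D hcov).2 fun a => ?_
    obtain ⟨U, hU, l, hl, m⟩ := a
    have e := hpre U hU l hl m
    haveI : IsAffine (D ⟨U, hU, l, hl, m⟩).toScheme := isAffineOpen_dOpen (chart := chartQ) hT hU _
    haveI : IsAffine (r ⁻¹ᵁ D ⟨U, hU, l, hl, m⟩).toScheme := by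
      have : IsAffineOpen (r ⁻¹ᵁ D ⟨U, hU, l, hl, m⟩) := e.symm ▸ isAffineOpen_dOpen (chart := chart) hS hU m
      exact this
    haveI : IsIso ((r ∣_ D ⟨U, hU, l, hl, m⟩).appTop) := by
      refine (ConcreteCategory.isIso_iff_bijective _).2 ?_
      rw [Scheme.Hom.appTop, morphismRestrict_app']
      have key : ∀ (A : Q.Opens) (B : P.Opens) (eA : A = dOpen (𝒯 := 𝒯) (j := k) (chart := chartQ) hU (tm m l))
          (eB : B = dOpen (𝒯 := 𝒮) (j := j) (chart := chart) hU m) (h : B ≤ r ⁻¹ᵁ A),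
          Function.Bijective (r.appLE A B h) := by
        rintro A B rfl rfl h
        exact hbij U hU l hl m
      exact key _ _ (by simp [D]) (by simp [D, e]) _
    haveI : IsIso (arrowIsoSpecΓOfIsAffine (r ∣_ D ⟨U, hU, l, hl, m⟩)).hom := inferInstance
    exact ((MorphismProperty.isomorphisms Scheme).arrow_mk_iso_iff
      (arrowIsoSpecΓOfIsAffine (r ∣_ D ⟨U, hU, l, hl, m⟩))).2 (inferInstanceAs (IsIso (Spec.map _)))
  exact ⟨asIso r, hr, ⟨τ⟩⟩

end Groth.Agent.H11Sym
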