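import Groth.Agent.H11Sym.BundleCanon
import Groth.Agent.H11Tilde.ProjUPUnique

/-!
# Morphisms into a projective bundle
-/

set_option autoImplicit false
set_option linter.style.haveILetI false

universe u

open CategoryTheory AlgebraicGeometry TopologicalSpace Opposite
open Groth.Agent.H11Proj Groth.Agent.H11Tilde

noncomputable section

namespace Groth.Agent.H11Sym

variable {X Y P : Scheme.{u}} {E : Y.Modules} {𝒯 : RelProj.QCGrAlg Y} {j : E ⟶ 𝒯.toModule} {p : P ⟶ Y}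
  {chart : ∀ (U : Y.Opens) (hU : IsAffineOpen U), (((p ⁻¹ᵁ U : P.Opens) : Scheme.{u}) ≅ Proj (𝒯.deg U hU))}
  (hE : Coh.IsQCoh E) (hT : RelProj.IsGrSymAlg E 𝒯 j) (hP : RelProj.IsRelProj 𝒯 p chart)
  {q : X ⟶ Y} {L : X.Modules} (u : E ⟶ (Scheme.Modules.pushforward q).obj L)

/-- The section of `L` of a section of `E`. -/
abbrev uSec {U : Y.Opens} (m : Γ(E, U)) : Γ(L, q ⁻¹ᵁ U) := u.app U m

theorem uSec_res {U W : Y.Opens} (i : W ≤ U) (m : Γ(E, U)) :
    uSec u (E.presheaf.map (homOfLE i).op m) = resS L (q.preimage_mono i) (uSec u m) :=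
  app_map_apply u i m

theorem uSec_add {U : Y.Opens} (m n : Γ(E, U)) : uSec u (m + n) = uSec u m + uSec u n := map_add (u.app U).hom m n

theorem uSec_smul {U : Y.Opens} (c : Γ(Y, U)) (m : Γ(E, U)) : uSec u (c • m) = q.app U c • uSec u m :=
  Scheme.Modules.Hom.app_smul u c m

/-- An open on which the image of a section of `E` over an affine open generates. -/
structure GenPt where
  U : Y.Opens
  hU : IsAffineOpen U
  m : Γ(E, U)
  V : X.Opens
  le : V ≤ q ⁻¹ᵁ U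
  gen : IsGen L (resS L le (uSec u m))

/-- The images of sections of `E` generate everywhere. -/
def Spans : Prop := ∀ x : X, ∃ g : GenPt u, x ∈ g.V

namespace GenPt

variable {u} (g : GenPt u)

theorem cancel {a b : Γ(X, g.V)} (h : a • resS L g.le (uSec u g.m) = b • resS L g.le (uSec u g.m)) : a = b := by
  refine (g.gen.bijective le_rfl).1 ?_
  beta_reduce
  rw [H10Coh.mres_self]
  exact h

/-- A smaller open. -/
def restrict {V : X.Opens} (i : V ≤ g.V) : GenPt u where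
  U := g.U
  hU := g.hU
  m := g.m
  V := V
  le := i.trans g.le
  gen := by
    have := g.gen.res i
    rwa [resS, H10Coh.mres_mres] at this

include hE hT in
theorem exists_dehom : ∃ h : 𝒯.presheaf.obj (op g.U) →+* Γ(X, g.V),
    (∀ r, h (astr 𝒯.toQCAlg g.U r) = q.appLE g.U g.V g.le r) ∧
      ∀ n, h (japp (B := 𝒯.toQCAlg) j g.U n) • resS L g.le (uSec u g.m) = resS L g.le (uSec u n) := by
  have hex : ∀ n : Γ(E, g.U), ∃ c : Γ(X, g.V), c • resS L g.le (uSec u g.m) = resS L g.le (uSec u n) := fun n => by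
    obtain ⟨c, hc⟩ := (g.gen.bijective le_rfl).2 (resS L g.le (uSec u n))
    beta_reduce at hc
    rw [H10Coh.mres_self] at hc
    exact ⟨c, hc⟩
  choose c hc using hex
  have hs : ∀ (r : Γ(Y, g.U)) (n : Γ(E, g.U)), c (r • n) = q.appLE g.U g.V g.le r * c n := fun r n => by
    refine g.cancel ?_
    rw [hc, mul_smul, hc, uSec_smul, resS_smul]
    rfl
  obtain ⟨h, h₀, h₁⟩ := (hT.1.isAffSym hE).exists_lift g.hU (q.appLE g.U g.V g.le).hom
    (AddMonoidHom.mk' c fun a b => g.cancel (by rw [hc, add_smul, hc, hc, uSec_add]; exact map_add _ _ _)) hs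
  exact ⟨h, h₀, fun n => by rw [h₁]; exact hc n⟩

/-- Dehomogenisation at a generating section. -/
def dehom : 𝒯.presheaf.obj (op g.U) →+* Γ(X, g.V) := (g.exists_dehom hE hT).choose

theorem dehom_str (r : Γ(Y, g.U)) : g.dehom hE hT (astr 𝒯.toQCAlg g.U r) = q.appLE g.U g.V g.le r :=
  (g.exists_dehom hE hT).choose_spec.1 r

theorem dehom_smul (n : Γ(E, g.U)) :
    g.dehom hE hT (japp (B := 𝒯.toQCAlg) j g.U n) • resS L g.le (uSec u g.m) = resS L g.le (uSec u n) :=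
  (g.exists_dehom hE hT).choose_spec.2 n

theorem dehom_ext {h : 𝒯.presheaf.obj (op g.U) →+* Γ(X, g.V)}
    (h₀ : ∀ r, h (astr 𝒯.toQCAlg g.U r) = q.appLE g.U g.V g.le r)
    (h₁ : ∀ n, h (japp (B := 𝒯.toQCAlg) j g.U n) • resS L g.le (uSec u g.m) = resS L g.le (uSec u n)) :
    h = g.dehom hE hT :=
  (hT.1.isAffSym hE).ringHom_ext g.hU (fun r => (h₀ r).trans (g.dehom_str hE hT r).symm)
    fun n => g.cancel ((h₁ n).trans (g.dehom_smul hE hT n).symm)

theorem dehom_self : g.dehom hE hT (japp (B := 𝒯.toQCAlg) j g.U g.m) = 1 :=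
  g.cancel ((g.dehom_smul hE hT g.m).trans (one_smul _ _).symm)

include hE hT in
theorem isUnit_dehom_self : IsUnit (g.dehom hE hT (japp (B := 𝒯.toQCAlg) j g.U g.m)) :=
  (g.dehom_self hE hT).symm ▸ isUnit_one

variable (chart) in
/-- The morphism on a generating open. -/
def chartMor : g.V.toScheme ⟶ P :=
  projChart (𝒯.deg g.U g.hU) (g.dehom hE hT) (japp_mem hT g.hU g.m) Nat.one_pos (g.isUnit_dehom_self hE hT) ≫
    RelProj.emb p chart g.U g.hU

theorem homOfLE_chartMor {V : X.Opens} (i : V ≤ g.V) :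
    X.homOfLE i ≫ g.chartMor chart hE hT = (g.restrict i).chartMor chart hE hT := by
  rw [chartMor, ← Category.assoc]
  refine congrArg (· ≫ _) ?_
  rw [projChart_res (𝒯.deg g.U g.hU) (g.dehom hE hT) (japp_mem hT g.hU g.m) Nat.one_pos (g.isUnit_dehom_self hE hT) i
    ((g.isUnit_dehom_self hE hT).map (X.presheaf.map (homOfLE i).op).hom)]
  refine projChart_congr (𝒯.deg g.U g.hU) _ (japp_mem hT g.hU g.m) Nat.one_pos _
    ((g.restrict i).dehom_ext hE hT (fun r => ?_) fun n => ?_) _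
  · change X.presheaf.map _ (g.dehom hE hT (astr 𝒯.toQCAlg g.U r)) = q.appLE g.U V (i.trans g.le) r
    rw [g.dehom_str, ← ConcreteCategory.comp_apply, Scheme.Hom.appLE_map]
  · have e := congrArg (resS L i) (g.dehom_smul hE hT n)
    rw [resS_smul, resS_resS, resS_resS] at e
    exact e

theorem chartMor_change (m' : Γ(E, g.U)) (gen' : IsGen L (resS L g.le (uSec u m'))) :
    g.chartMor chart hE hT = (⟨g.U, g.hU, m', g.V, g.le, gen'⟩ : GenPt u).chartMor chart hE hT := by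
  let g' : GenPt u := ⟨g.U, g.hU, m', g.V, g.le, gen'⟩
  let h := g.dehom hE hT
  let h' := g'.dehom hE hT
  let f := japp (B := 𝒯.toQCAlg) j g.U g.m
  let f' := japp (B := 𝒯.toQCAlg) j g.U m'
  have hfu : h' f * h f' = 1 := by
    refine g'.cancel ?_
    rw [one_smul, mul_comm, mul_smul, g'.dehom_smul hE hT g.m]
    exact g.dehom_smul hE hT m'
  have hscale : ∀ (k : ℕ) (a : 𝒯.presheaf.obj (op g.U)), a ∈ 𝒯.deg g.U g.hU k → h' a = h' f ^ k * h a := by
    intro k a ha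
    letI := algOn 𝒯.toQCAlg g.U
    have hj := hT.1.isAffSym hE g.U g.hU
    rw [deg_eq_piece hE hT] at ha
    have key : (Polynomial.evalRingHom (h' f)).comp
        ((Polynomial.mapRingHom h).comp (gradeHom hj).toRingHom) = h' := by
      refine H11Sym.ringHom_ext hj (fun r => ?_) fun n => ?_
      · change ((gradeHom hj (algebraMap _ _ r)).map h).eval (h' f) = h' (algebraMap _ _ r)
        rw [AlgHom.commutes, Polynomial.algebraMap_apply, Polynomial.map_C, Polynomial.eval_C]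
        exact (g.dehom_str hE hT r).trans (g'.dehom_str hE hT r).symm
      · change ((gradeHom hj (jlin j g.U n)).map h).eval (h' f) = h' (jlin j g.U n)
        rw [gradeHom_apply, Polynomial.map_mul, Polynomial.map_C, Polynomial.map_X, Polynomial.eval_mul,
          Polynomial.eval_C, Polynomial.eval_X]
        refine g'.cancel ?_
        rw [mul_smul, g'.dehom_smul hE hT g.m]
        exact (g.dehom_smul hE hT n).trans (g'.dehom_smul hE hT n).symm
    have h3 := RingHom.congr_fun key a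
    change ((gradeHom hj a).map h).eval (h' f) = h' a at h3
    rw [(mem_piece _).1 ha, Polynomial.map_monomial, Polynomial.eval_monomial] at h3
    rw [← h3, mul_comm]
  have hu : IsUnit (h' f) := IsUnit.of_mul_eq_one _ hfu
  have hu' : IsUnit (h' f') := g'.isUnit_dehom_self hE hT
  rw [chartMor, chartMor]
  refine congrArg (· ≫ _) ?_
  rw [projChart_scale _ _ _ _ _ h' hu (h' f) hscale]
  have hff : f * f' ∈ 𝒯.deg g.U g.hU (1 + 1) :=
    SetLike.mul_mem_graded (japp_mem hT g.hU g.m) (japp_mem hT g.hU m')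
  have hff' : f' * f ∈ 𝒯.deg g.U g.hU (1 + 1) := mul_comm f f' ▸ hff
  rw [projChart_mul _ h' _ _ hu (japp_mem hT g.hU m') hff (by omega) (by rw [map_mul]; exact hu.mul hu'),
    projChart_mul _ h' _ _ hu' (japp_mem hT g.hU g.m) hff' (by omega) (by rw [map_mul]; exact hu'.mul hu)]
  exact projChart_congr_elem _ _ _ _ _ (mul_comm f f') _ _

include hE hT hP in
theorem chartMor_basic {W : Y.Opens} (hW : IsAffineOpen W) (r : Γ(Y, g.U)) (e : W = Y.basicOpen r) (i : W ≤ g.U)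
    (hV : g.V ≤ q ⁻¹ᵁ W) (gen' : IsGen L (resS L hV (uSec u (E.presheaf.map (homOfLE i).op g.m)))) :
    g.chartMor chart hE hT =
      (⟨W, hW, E.presheaf.map (homOfLE i).op g.m, g.V, hV, gen'⟩ : GenPt u).chartMor chart hE hT := by
  subst e
  let g' : GenPt u := ⟨Y.basicOpen r, hW, E.presheaf.map (homOfLE i).op g.m, g.V, hV, gen'⟩
  let φ := 𝒯.res g.hU (g.hU.basicOpen r) (Y.basicOpen_le r)
  have hh : (g'.dehom hE hT).comp (ares 𝒯.toQCAlg i) = g.dehom hE hT := by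
    refine g.dehom_ext hE hT (fun s => ?_) fun n => ?_
    · rw [RingHom.comp_apply, ares_str, g'.dehom_str, ← ConcreteCategory.comp_apply, Scheme.Hom.map_appLE]
    · have h1 := g'.dehom_smul hE hT (E.presheaf.map (homOfLE i).op n)
      simp only [g', uSec_res, resS_resS] at h1
      rw [RingHom.comp_apply, ← japp_res]
      exact h1
  have hφ : ∀ n, (φ (japp (B := 𝒯.toQCAlg) j g.U n) : 𝒯.presheaf.obj (op (Y.basicOpen r))) =
      japp (B := 𝒯.toQCAlg) j _ (E.presheaf.map (homOfLE i).op n) := fun n => (japp_res j i n).symm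
  rw [chartMor, chartMor, ← RelProj.map_res_emb (chart := chart) hP g.U g.hU r, ← Category.assoc]
  refine congrArg (· ≫ _) (Eq.symm ?_)
  have huk : IsUnit (g'.dehom hE hT (φ (japp (B := 𝒯.toQCAlg) j g.U g.m))) := by
    rw [hφ]; exact g'.isUnit_dehom_self hE hT
  refine Eq.trans ?_ (projChart_map (𝒯.deg g.U g.hU) (g.dehom hE hT) (japp_mem hT g.hU g.m) Nat.one_pos
    (g.isUnit_dehom_self hE hT) φ (𝒯.irrelevant_le_map g.U g.hU r) (g'.dehom hE hT)
    (fun a => RingHom.congr_fun hh a) huk)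
  exact congrArg (· ≫ _) (projChart_congr_elem _ _ _ _ _ (hφ g.m).symm _ _)

include hE hT hP in
theorem chartMor_compat (g' : GenPt u) :
    X.homOfLE (inf_le_left : g.V ⊓ g'.V ≤ g.V) ≫ g.chartMor chart hE hT =
      X.homOfLE (inf_le_right : g.V ⊓ g'.V ≤ g'.V) ≫ g'.chartMor chart hE hT := by
  have hloc : ∀ z : ↥(g.V ⊓ g'.V), ∃ (s : Γ(Y, g.U)) (s' : Γ(Y, g'.U)), Y.basicOpen s = Y.basicOpen s' ∧
      q.base z.1 ∈ Y.basicOpen s := fun z => by
    obtain ⟨s, s', e, hs⟩ := exists_basicOpen_le_affine_inter g.hU g'.hU (q.base z.1)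
      ⟨g.le z.2.1, g'.le z.2.2⟩
    exact ⟨s, s', e, hs⟩
  choose s s' hss hsmem using hloc
  let O : ↥(g.V ⊓ g'.V) → X.Opens := fun z => (g.V ⊓ g'.V) ⊓ q ⁻¹ᵁ Y.basicOpen (s z)
  have hO : ∀ w : ↥(g.V ⊓ g'.V), w.1 ∈ O w := fun w => ⟨w.2, hsmem w⟩
  refine Scheme.Cover.hom_ext (Scheme.openCoverOfIsOpenCover (g.V ⊓ g'.V).toScheme
    (fun z => (g.V ⊓ g'.V).ι ⁻¹ᵁ O z) (top_le_iff.1 fun w _ => Opens.mem_iSup.2 ⟨w, hO w⟩)) _ _ fun z => ?_
  let W := Y.basicOpen (s z)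
  have hV : O z ≤ q ⁻¹ᵁ W := inf_le_right
  have hO₁ : O z ≤ g.V := inf_le_left.trans inf_le_left
  have hO₂ : O z ≤ g'.V := inf_le_left.trans inf_le_right
  have hW₁ : W ≤ g.U := Y.basicOpen_le _
  have hW₂ : W ≤ g'.U := (hss z).trans_le (Y.basicOpen_le _)
  have gen₁ : IsGen L (resS L hV (uSec u (E.presheaf.map (homOfLE hW₁).op g.m))) := by
    rw [uSec_res, resS_resS]
    exact (g.restrict hO₁).gen
  have gen₂ : IsGen L (resS L hV (uSec u (E.presheaf.map (homOfLE hW₂).op g'.m))) := by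
    rw [uSec_res, resS_resS]
    exact (g'.restrict hO₂).gen
  have key : X.homOfLE hO₁ ≫ g.chartMor chart hE hT = X.homOfLE hO₂ ≫ g'.chartMor chart hE hT := by
    rw [homOfLE_chartMor, homOfLE_chartMor,
      (g.restrict hO₁).chartMor_basic hE hT hP (g.hU.basicOpen (s z)) (s z) rfl hW₁ hV gen₁,
      (g'.restrict hO₂).chartMor_basic hE hT hP (g.hU.basicOpen (s z)) (s' z) (hss z) hW₂ hV gen₂]
    exact chartMor_change hE hT _ _ gen₂
  let e : ((g.V ⊓ g'.V).ι ⁻¹ᵁ O z).toScheme ⟶ (O z).toScheme :=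
    IsOpenImmersion.lift (O z).ι (((g.V ⊓ g'.V).ι ⁻¹ᵁ O z).ι ≫ (g.V ⊓ g'.V).ι) (by
      rintro _ ⟨w, rfl⟩
      rw [Scheme.Opens.range_ι]
      exact w.2)
  have he : e ≫ (O z).ι = ((g.V ⊓ g'.V).ι ⁻¹ᵁ O z).ι ≫ (g.V ⊓ g'.V).ι := IsOpenImmersion.lift_fac _ _ _
  have e₁ : ((g.V ⊓ g'.V).ι ⁻¹ᵁ O z).ι ≫ X.homOfLE (inf_le_left : g.V ⊓ g'.V ≤ g.V) = e ≫ X.homOfLE hO₁ := by
    rw [← cancel_mono g.V.ι]; simp [he]
  have e₂ : ((g.V ⊓ g'.V).ι ⁻¹ᵁ O z).ι ≫ X.homOfLE (inf_le_right : g.V ⊓ g'.V ≤ g'.V) = e ≫ X.homOfLE hO₂ := by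
    rw [← cancel_mono g'.V.ι]; simp [he]
  change ((g.V ⊓ g'.V).ι ⁻¹ᵁ O z).ι ≫ _ = ((g.V ⊓ g'.V).ι ⁻¹ᵁ O z).ι ≫ _
  rw [reassoc_of% e₁, reassoc_of% e₂, key]

include hE hT hP in
theorem chartMor_over : g.chartMor chart hE hT ≫ p = g.V.ι ≫ q := by
  have e : RelProj.emb p chart g.U g.hU ≫ p =
      Proj.toSpecZero (𝒯.deg g.U g.hU) ≫ Spec.map (𝒯.strZero g.U g.hU) ≫ g.hU.fromSpec := by
    simp only [RelProj.emb, Category.assoc]
    rw [← hP.chart_over g.U g.hU, Iso.inv_hom_id_assoc]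
  let φ₀ : CommRingCat.of (𝒯.deg g.U g.hU 0) ⟶ Γ(X, g.V) :=
    CommRingCat.ofHom ((g.dehom hE hT).comp (SetLike.GradeZero.subring (𝒯.deg g.U g.hU)).subtype)
  have e₂ : projChart (𝒯.deg g.U g.hU) (g.dehom hE hT) (japp_mem hT g.hU g.m) Nat.one_pos
      (g.isUnit_dehom_self hE hT) ≫ Proj.toSpecZero (𝒯.deg g.U g.hU) = g.V.toSpecΓ ≫ Spec.map φ₀ :=
    projChart_toSpecZero _ _ _ _ _
  rw [chartMor, Category.assoc, e, reassoc_of% e₂, ← Spec.map_comp_assoc,
    H11Tilde.ι_comp_eq_fromSpec q g.hU g.V g.le]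
  congr 3
  ext r
  exact g.dehom_str hE hT r

end GenPt

include hE hT hP in
theorem exists_hom_of_spans (hu : Spans u) :
    ∃ r : X ⟶ P, (∀ g : GenPt u, g.V.ι ≫ r = g.chartMor chart hE hT) ∧ r ≫ p = q := by
  choose g₀ hg₀ using hu
  let 𝒰 : X.OpenCover := X.openCoverOfIsOpenCover (fun x => (g₀ x).V)
    (top_le_iff.1 fun x _ => Opens.mem_iSup.2 ⟨x, hg₀ x⟩)
  let r := 𝒰.glueMorphisms (fun x => (g₀ x).chartMor chart hE hT) fun a b => by
    change Limits.pullback.fst (g₀ a).V.ι (g₀ b).V.ι ≫ _ = Limits.pullback.snd (g₀ a).V.ι (g₀ b).V.ι ≫ _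
    rw [← cancel_epi (isPullback_opens_inf (g₀ a).V (g₀ b).V).isoPullback.hom,
      IsPullback.isoPullback_hom_fst_assoc, IsPullback.isoPullback_hom_snd_assoc]
    exact (g₀ a).chartMor_compat hE hT hP (g₀ b)
  have hr : ∀ x, (g₀ x).V.ι ≫ r = (g₀ x).chartMor chart hE hT := fun x => 𝒰.ι_glueMorphisms _ _ x
  refine ⟨r, fun g => ?_, ?_⟩
  · refine Scheme.Cover.hom_ext (Scheme.openCoverOfIsOpenCover g.V.toScheme
      (fun x : X => g.V.ι ⁻¹ᵁ (g₀ x).V) (top_le_iff.1 fun w _ => Opens.mem_iSup.2 ⟨_, hg₀ _⟩)) _ _ fun x => ?_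
    let O := g.V ⊓ (g₀ x).V
    let e : (g.V.ι ⁻¹ᵁ (g₀ x).V).toScheme ⟶ O.toScheme :=
      IsOpenImmersion.lift O.ι ((g.V.ι ⁻¹ᵁ (g₀ x).V).ι ≫ g.V.ι) (by
        rintro _ ⟨w, rfl⟩
        rw [Scheme.Opens.range_ι]
        exact ⟨((g.V.ι ⁻¹ᵁ (g₀ x).V).ι.base w).2, w.2⟩)
    have he : e ≫ O.ι = (g.V.ι ⁻¹ᵁ (g₀ x).V).ι ≫ g.V.ι := IsOpenImmersion.lift_fac _ _ _
    have e₁ : (g.V.ι ⁻¹ᵁ (g₀ x).V).ι = e ≫ X.homOfLE (inf_le_left : O ≤ g.V) := by
      rw [← cancel_mono g.V.ι]; simp [he, O]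
    change (g.V.ι ⁻¹ᵁ (g₀ x).V).ι ≫ _ = (g.V.ι ⁻¹ᵁ (g₀ x).V).ι ≫ _
    rw [e₁, Category.assoc, Category.assoc, g.chartMor_compat hE hT hP (g₀ x), ← hr x]
    simp [O]
  · refine 𝒰.hom_ext _ _ fun x => ?_
    change (g₀ x).V.ι ≫ r ≫ p = (g₀ x).V.ι ≫ q
    rw [← Category.assoc, hr x, (g₀ x).chartMor_over hE hT hP]

end Groth.Agent.H11Sym
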