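import Groth.Agent.H11Sym.AmpleVeryAmple

/-!
# Very ampleness relative to a composite
-/

set_option autoImplicit false
set_option linter.style.haveILetI false

universe u

open CategoryTheory CategoryTheory.Limits AlgebraicGeometry TopologicalSpace Opposite
open Groth.Agent.H11Proj Groth.Agent.H11Tilde Groth.Agent.H11Ample

noncomputable section

namespace Groth.Agent.H11Sym

section Emb

variable {X Y : Scheme.{u}} {E : Y.Modules} {q : X ⟶ Y} {L : X.Modules}
  {u : E ⟶ (Scheme.Modules.pushforward q).obj L} {x : X}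

/-- Over every affine open some section generates at a given point. -/
theorem Emb.exists_mem_genAt (hu : Emb u) (hE : Coh.IsQCoh E) {U : Y.Opens} (hU : IsAffineOpen U)
    (hx : q.base x ∈ U) : ∃ m : Γ(E, U), x ∈ genAt L (uSec u m) := by
  obtain ⟨𝒯, j, hT⟩ := exists_isGrSymAlg E hE
  obtain ⟨P, p, chart, hP⟩ := exists_isRelProj 𝒯
  obtain ⟨O1, lam, hL⟩ := exists_isRelTwist hP 1
  obtain ⟨r, hr, τ, hτ⟩ := exists_toBundle hE hT hP hL hu.spans
  obtain ⟨m, hm⟩ := exists_mem_dOpen' hE hT (chart := chart) hU (r.base x) (by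
    subst hr
    exact hx)
  exact ⟨m, (preimage_dOpen_of_match hE hT hP hL hr hτ hU m).le hm⟩

/-- A standard open for a given section generating at a point. -/
theorem Emb.exists_embPt (hu : Emb u) (hE : Coh.IsQCoh E) {U : Y.Opens} (hU : IsAffineOpen U) (m : Γ(E, U))
    (hx : x ∈ genAt L (uSec u m)) :
    ∃ t : Γ(X, (gMax u hU m).V), t ∈ (gMax u hU m).ratioRing ∧ x ∈ X.basicOpen t ∧ IsAffineOpen (X.basicOpen t) ∧
      ∀ z : Γ(X, X.basicOpen t), ∃ (N : ℕ) (a : Γ(X, (gMax u hU m).V)),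
        a ∈ (gMax u hU m).ratioRing ∧ z * resF (X.basicOpen_le t) t ^ N = resF (X.basicOpen_le t) a := by
  obtain ⟨𝒯, j, hT⟩ := exists_isGrSymAlg E hE
  obtain ⟨P, p, chart, hP⟩ := exists_isRelProj 𝒯
  obtain ⟨O1, lam, hL⟩ := exists_isRelTwist hP 1
  obtain ⟨r, hr, τ, hτ⟩ := exists_toBundle hE hT hP hL hu.spans
  haveI := isImmersion_of_emb hE hT hP hL hr hτ hu
  exact exists_embPt_of_isImmersion hE hT hP hL hr hτ x hU m
    ((preimage_dOpen_of_match hE hT hP hL hr hτ hU m).ge hx)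

/-- A standard open found inside a standard open. -/
theorem nonempty_embPt_of_frac {U : Y.Opens} (hU : IsAffineOpen U) (m : Γ(E, U))
    {T : Γ(X, (gMax u hU m).V)} (hT : T ∈ (gMax u hU m).ratioRing) {V : X.Opens} (hV : X.basicOpen T = V)
    (t : Γ(X, V)) (ht : resF hV.le t ∈ fracRing _ hT) (mem : x ∈ X.basicOpen t)
    (aff : IsAffineOpen (X.basicOpen t))
    (surj : ∀ z : Γ(X, X.basicOpen t), ∃ (M : ℕ) (a : Γ(X, V)), resF hV.le a ∈ fracRing _ hT ∧
      z * resF (X.basicOpen_le t) t ^ M = resF (X.basicOpen_le t) a) :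
    Nonempty (EmbPt u x) := by
  subst hV
  obtain ⟨N₁, β, hβ, e₁⟩ := ht
  simp only [resF_self] at e₁
  have hbas : X.basicOpen (β * T) = X.basicOpen t := by
    have h1 : X.basicOpen (resF (X.basicOpen_le T) (β * T)) = X.basicOpen (β * T) := by
      rw [Scheme.basicOpen_res]
      exact inf_eq_right.2 ((X.basicOpen_mul _ _).trans_le inf_le_right)
    rw [← h1, map_mul, ← e₁, mul_assoc, ← pow_succ, Scheme.basicOpen_mul, X.basicOpen_pow _ (Nat.succ_pos N₁),
      Scheme.basicOpen_res, inf_idem]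
    exact inf_eq_left.2 (X.basicOpen_le t)
  refine ⟨⟨U, hU, m, β * T, Subring.mul_mem _ hβ hT, hbas.ge mem, hbas ▸ aff, fun z => ?_⟩⟩
  obtain ⟨M, a, ⟨N₂, α, hα, e₂⟩, e⟩ := surj (resF hbas.ge z)
  refine ⟨M + N₂, α * β ^ N₂ * T ^ ((N₁ + 1) * M),
    Subring.mul_mem _ (Subring.mul_mem _ hα (Subring.pow_mem _ hβ _)) (Subring.pow_mem _ hT _), ?_⟩
  let i : X.basicOpen (β * T) ≤ X.basicOpen T := (X.basicOpen_mul _ _).trans_le inf_le_right
  have f₁ := congrArg (resF i) e₁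
  have f₂ := congrArg (resF i) e₂
  have f₃ := congrArg (resF hbas.le) e
  simp only [map_mul, map_pow, resF_resF, resF_self] at f₁ f₂ f₃ ⊢
  rw [← f₂, ← f₃, ← f₁]
  ring

end Emb

theorem exists_finset_mem_closure {R : Type u} [CommRing R] {A C : Set R} {c : R}
    (h : c ∈ Subring.closure (A ∪ C)) :
    ∃ s : Finset R, ↑s ⊆ C ∧ c ∈ Subring.closure (A ∪ ↑s) := by
  classical
  induction h using Subring.closure_induction with
  | mem y hy =>
    obtain hy | hy := hy
    · exact ⟨∅, by simp, Subring.subset_closure (Or.inl hy)⟩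
    · exact ⟨{y}, by simpa using hy, Subring.subset_closure (Or.inr (by simp))⟩
  | zero => exact ⟨∅, by simp, Subring.zero_mem _⟩
  | one => exact ⟨∅, by simp, Subring.one_mem _⟩
  | add y z _ _ hy hz =>
    obtain ⟨s, hs, hy⟩ := hy
    obtain ⟨t, ht, hz⟩ := hz
    exact ⟨s ∪ t, by simp [hs, ht], Subring.add_mem _
      (Subring.closure_mono (Set.union_subset_union_right _ (Finset.coe_subset.2 Finset.subset_union_left)) hy)
      (Subring.closure_mono (Set.union_subset_union_right _ (Finset.coe_subset.2 Finset.subset_union_right)) hz)⟩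
  | neg y _ hy =>
    obtain ⟨s, hs, hy⟩ := hy
    exact ⟨s, hs, Subring.neg_mem _ hy⟩
  | mul y z _ _ hy hz =>
    obtain ⟨s, hs, hy⟩ := hy
    obtain ⟨t, ht, hz⟩ := hz
    exact ⟨s ∪ t, by simp [hs, ht], Subring.mul_mem _
      (Subring.closure_mono (Set.union_subset_union_right _ (Finset.coe_subset.2 Finset.subset_union_left)) hy)
      (Subring.closure_mono (Set.union_subset_union_right _ (Finset.coe_subset.2 Finset.subset_union_right)) hz)⟩

variable {X Y : Scheme.{u}}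

/-- For a morphism of finite type finitely many ratios suffice. -/
theorem exists_finset_frac (q : X ⟶ Y) [LocallyOfFiniteType q] {U : Y.Opens} (hU : IsAffineOpen U) {V : X.Opens}
    (i : V ≤ q ⁻¹ᵁ U) {C : Set Γ(X, V)} {t : Γ(X, V)}
    (ht : t ∈ Subring.closure (Set.range (q.appLE U V i) ∪ C)) (haff : IsAffineOpen (X.basicOpen t))
    (surj : ∀ z : Γ(X, X.basicOpen t), z ∈ fracRing _ ht) :
    ∃ (s : Finset Γ(X, V)) (ht' : t ∈ Subring.closure (Set.range (q.appLE U V i) ∪ ↑s)), ↑s ⊆ C ∧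
      ∀ z : Γ(X, X.basicOpen t), z ∈ fracRing _ ht' := by
  classical
  have hle : X.basicOpen t ≤ q ⁻¹ᵁ U := (X.basicOpen_le t).trans i
  letI := (q.appLE U _ hle).hom.toAlgebra
  have hft : Algebra.FiniteType Γ(Y, U) Γ(X, X.basicOpen t) := q.finiteType_appLE hU haff hle
  obtain ⟨G, hG⟩ := hft.out
  choose N α hα he using surj
  obtain ⟨s₀, hs₀, ht₀⟩ := exists_finset_mem_closure ht
  choose S hS hαS using fun z => exists_finset_mem_closure (hα z)
  let s := s₀ ∪ G.biUnion S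
  have hmono : ∀ {s' : Finset Γ(X, V)}, s' ⊆ s → Subring.closure (Set.range (q.appLE U V i) ∪ ↑s') ≤
      Subring.closure (Set.range (q.appLE U V i) ∪ ↑s) := fun h =>
    Subring.closure_mono (Set.union_subset_union_right _ (Finset.coe_subset.2 h))
  refine ⟨s, hmono Finset.subset_union_left ht₀, ?_, fun z => ?_⟩
  · simp only [s, Finset.coe_union, Finset.coe_biUnion, Set.union_subset_iff, Set.iUnion₂_subset_iff]
    exact ⟨hs₀, fun z _ => hS z⟩
  · let R : Subring Γ(X, X.basicOpen t) := fracRing _ (hmono Finset.subset_union_left ht₀)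
    let A : Subalgebra Γ(Y, U) Γ(X, X.basicOpen t) :=
      { R.toSubsemiring with
        algebraMap_mem' := fun r => ⟨0, q.appLE U V i r, Subring.subset_closure (Or.inl ⟨r, rfl⟩), by
          rw [pow_zero, mul_one]
          exact (ConcreteCategory.congr_hom (Scheme.Hom.appLE_map ..) r).symm⟩ }
    have hA : Algebra.adjoin Γ(Y, U) (↑G : Set Γ(X, X.basicOpen t)) ≤ A := Algebra.adjoin_le fun y hy =>
      ⟨N y, α y, hmono ((Finset.subset_biUnion_of_mem S hy).trans Finset.subset_union_right) (hαS y), he y⟩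
    rw [hG] at hA
    exact hA (Algebra.mem_top (x := z))

theorem exists_extend_coeff [CompactSpace X] [QuasiSeparatedSpace X] {L F : X.Modules} (hL : PicF.IsInvertible L)
    (hF : Coh.IsQCoh F) {k : ℕ} (hk : 0 < k) (s : Γ(CohB1.tensorPow L k, ⊤))
    {e : Γ(L, gen (CohB1.tensorPow L k) s)} (he : IsGen L e) :
    ∃ c : Γ(X, gen (CohB1.tensorPow L k) s), IsUnit c ∧ ∀ m : Γ(F, gen (CohB1.tensorPow L k) s), ∃ N, ∀ n, N ≤ n →
      ∃ S : Γ(CohB1.tensorMod F (CohB1.tensorPow L n), ⊤),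
        resS _ (le_top : gen (CohB1.tensorPow L k) s ≤ ⊤) S = tm ((c ^ (n / k)) • m) (spow e n) := by
  let G := gen (CohB1.tensorPow L k) s
  obtain ⟨c, hc⟩ := exists_coeff (isGen_spow he k) ((CohB1.tensorPow L k).presheaf.map (homOfLE (le_top : G ≤ ⊤)).op s)
  have hcu : IsUnit c := X.toRingedSpace.isUnit_of_isUnit_germ G c fun y hy =>
    (X.mem_basicOpen c y hy).1 ((gen_inf_eq_basicOpen (isGen_spow he k) s c hc).le ⟨hy, hy⟩)
  refine ⟨c, hcu, fun m => ?_⟩
  choose N hN using fun r : Fin k => exists_extend hL hF k r.1 s (tm m (spow e r.1))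
  refine ⟨k * (Finset.univ.sup N + 1), fun n hn => ?_⟩
  have key : ∀ (n r q : ℕ), n = r + q * k → r < k → Finset.univ.sup N ≤ q →
      ∃ S : Γ(CohB1.tensorMod F (CohB1.tensorPow L n), ⊤),
        resS _ (le_top : G ≤ ⊤) S = tm (c ^ q • m) (spow e n) := by
    rintro n r q rfl hr hq
    obtain ⟨S, hS⟩ := hN ⟨r, hr⟩ q ((Finset.le_sup (Finset.mem_univ _)).trans hq)
    exact ⟨S, hS G le_rfl e m c he (H10Coh.mres_self _ _ _) hc⟩
  exact key n (n % k) (n / k) (Nat.mod_add_div' n k).symm (Nat.mod_lt _ hk)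
    ((Nat.le_div_iff_mul_le hk).2 (le_trans (by rw [mul_comm]; exact Nat.mul_le_mul_left k (Nat.le_succ _)) hn))

theorem genAt_smul_of_isUnit {L : X.Modules} {W : X.Opens} {c : Γ(X, W)} (hc : IsUnit c) (s : Γ(L, W)) :
    genAt L (c • s) = genAt L s := by
  have key : ∀ {c : Γ(X, W)} (s : Γ(L, W)), IsUnit c → genAt L s ≤ genAt L (c • s) := fun {c} s hc =>
    le_genAt _ (genAt_le s) ((congrArg (IsGen L) (resS_smul L (genAt_le s) c s)).mpr
      ((isGen_genAt s).smul (hc.map (resF (genAt_le s)))))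
  refine le_antisymm ?_ (key s hc)
  obtain ⟨c, rfl⟩ := hc
  refine (key ((c : Γ(X, W)) • s) (Units.isUnit c⁻¹)).trans_eq ?_
  rw [smul_smul, Units.inv_mul, one_smul]

theorem genAt_of_isGen {L : X.Modules} {W : X.Opens} {s : Γ(L, W)} (h : IsGen L s) : genAt L s = W :=
  le_antisymm (genAt_le s) (le_genAt s le_rfl ((congrArg (IsGen L) (H10Coh.mres_self _ _ _)).mpr h))

variable {Z : Scheme.{u}} {L : X.Modules} {K : Y.Modules}

/-- The twist of the composite. -/
abbrev compTwist (f : X ⟶ Y) (L : X.Modules) (K : Y.Modules) (n : ℕ) : X.Modules :=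
  CohB1.tensorMod (CohB1.tensorMod L (CohB1.tensorPow ((Scheme.Modules.pullback f).obj K) n))
    ((Scheme.Modules.pullback f).obj K)

/-- Standard opens for the composite near a point. -/
theorem exists_nhd_embPt [IsAffine Z] [CompactSpace X] [QuasiSeparatedSpace X] [CompactSpace Y]
    [QuasiSeparatedSpace Y] (f : X ⟶ Y) [LocallyOfFiniteType f] (g : Y ⟶ Z) (hL : PicF.IsInvertible L)
    (hK : PicF.IsInvertible K) {E : Y.Modules} (hE : Coh.IsQCoh E) {u : E ⟶ (Scheme.Modules.pushforward f).obj L}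
    (hu : Emb u) {F : Z.Modules} (hF : Coh.IsQCoh F) {w : F ⟶ (Scheme.Modules.pushforward g).obj K}
    (hw : Emb w) (x : X) :
    ∃ O : X.Opens, x ∈ O ∧ ∃ N, ∀ n, N ≤ n → ∀ x' ∈ O,
      Nonempty (EmbPt (𝟙 ((Scheme.Modules.pushforward (f ≫ g)).obj (compTwist f L K n))) x') := by
  classical
  let hZ := isAffineOpen_top Z
  obtain ⟨m', hm'⟩ := hw.exists_mem_genAt hF hZ (x := f.base x) trivial
  obtain ⟨t', ht', hyt', haff', hsurj'⟩ := hw.exists_embPt hF hZ m' hm'
  let s₀ : Γ(K, ⊤) := uSec w m'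
  obtain ⟨m, hm⟩ := hu.exists_mem_genAt hE haff' (x := x) hyt'
  obtain ⟨t, ht, hxt, haff, hsurj⟩ := hu.exists_embPt hE haff' m hm
  let g₁ := gMax u haff' m
  obtain ⟨s, ht₂, hs, hfrac⟩ := exists_finset_frac f haff' g₁.le ht haff hsurj
  choose n' hn' using fun c : {c // c ∈ s} => hs c.2
  -- the open `Y_{t'}` as the locus of generation of a section of a power of `K`
  have hK₁ : gen (CohB1.tensorPow K 1) (spow s₀ 1) = genAt K s₀ :=
    (gen_spow hK s₀ 1 Nat.one_pos).trans (genAt_eq_gen s₀).symm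
  obtain ⟨j, S₁, hS₁⟩ := exists_gen_eq_basicOpen hK 1 (spow s₀ 1) (resF hK₁.le t')
  have hS₁' : gen (CohB1.tensorPow K ((j + 1) * 1)) S₁ = Y.basicOpen t' := by
    rw [hS₁, Scheme.basicOpen_res]
    exact inf_eq_right.2 ((Y.basicOpen_le _).trans hK₁.ge)
  let Kx := (Scheme.Modules.pullback f).obj K
  have hKx : PicF.IsInvertible Kx := H11Ample.isInvertible_pullback f hK
  obtain ⟨φ⟩ := exists_iso_pullback_tensorPow f hK ((j + 1) * 1)
  let σ : Γ(CohB1.tensorPow Kx ((j + 1) * 1), ⊤) := φ.hom.app ⊤ (OmegaSh.pullSect f _ ⊤ S₁)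
  let G := gen (CohB1.tensorPow Kx ((j + 1) * 1)) σ
  have hG : G = f ⁻¹ᵁ Y.basicOpen t' := by
    refine (gen_iso φ.hom _).trans ?_
    rw [← genAt_eq_gen, ← hS₁', ← genAt_eq_gen]
    exact genAt_pullSect (isInvertible_tensorPow hK _) S₁
  let p : Γ(Kx, ⊤) := OmegaSh.pullSect f K ⊤ s₀
  have hp : genAt Kx p = f ⁻¹ᵁ genAt K s₀ := genAt_pullSect hK s₀
  have hGp : G ≤ genAt Kx p := by
    rw [hG, hp]
    exact f.preimage_mono (Y.basicOpen_le t')
  have he : IsGen Kx (resS Kx (le_top : G ≤ ⊤) p) :=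
    (congrArg (IsGen Kx) (resS_resS Kx hGp (genAt_le p) p)).mp ((isGen_genAt p).res hGp)
  obtain ⟨c₀, hc₀, hext⟩ := exists_extend_coeff hKx (H28Mero.isQCoh_of_isInvertible hL) (F := L) (by omega) σ he
  obtain ⟨N₀, hN₀⟩ := hext (resS L hG.le (uSec u m))
  choose N hN using fun c => hext (resS L hG.le (uSec u (n' c)))
  refine ⟨X.basicOpen t, hxt, max N₀ (Finset.univ.sup N), fun n hn x' hx' => ?_⟩
  obtain ⟨S₀, hS₀⟩ := hN₀ n ((le_max_left _ _).trans hn)
  choose S hS using fun c => hN c n ((Finset.le_sup (Finset.mem_univ c)).trans ((le_max_right _ _).trans hn))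
  let M := compTwist f L K n
  let v := 𝟙 ((Scheme.Modules.pushforward (f ≫ g)).obj M)
  let m₀ : Γ(M, ⊤) := tm S₀ p
  let g₂ := gMax v hZ m₀
  have hLn := isInvertible_tensor hL (isInvertible_tensorPow hKx n)
  have hV₂ : g₂.V = genAt _ S₀ ⊓ genAt Kx p := genAt_tm hLn hKx S₀ p
  let iY : g₂.V ≤ f ⁻¹ᵁ (gMax w hZ m').V := hV₂.trans_le (inf_le_right.trans hp.le)
  let Φ : Γ(Y, (gMax w hZ m').V) →+* Γ(X, g₂.V) := (f.appLE _ _ iY).hom
  have hΦ : ∀ b ∈ (gMax w hZ m').ratioRing, Φ b ∈ g₂.ratioRing := fun b hb =>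
    (Subring.closure_le (t := g₂.ratioRing.comap Φ)).2 (by
      rintro d (⟨r, rfl⟩ | ⟨l, hl⟩)
      · have k : Φ (g.appLE ⊤ _ (gMax w hZ m').le r) = (f ≫ g).appLE ⊤ g₂.V g₂.le r := by
          simp only [Φ, ← ConcreteCategory.comp_apply, Scheme.Hom.appLE_comp_appLE]
        exact Subring.mem_comap.2 ((congrArg (· ∈ g₂.ratioRing) k).mpr (g₂.base_mem_ratioRing r))
      · refine g₂.mem_ratioRing (tm S₀ (OmegaSh.pullSect f K ⊤ (uSec w l)) : Γ(M, ⊤)) ?_
        have e := pullSect_smul_eq f K (gMax w hZ m').le iY hl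
        show Φ d • resS M g₂.le (tm S₀ p) = resS M g₂.le (tm S₀ _)
        rw [resS_tm, resS_tm, ← tm_smul_right]
        exact congrArg (tm _) e) hb
  let T := Φ t'
  have hT : T ∈ g₂.ratioRing := hΦ t' ht'
  -- restrictions to `G`
  have hS₀' : genAt _ S₀ ⊓ G = genAt L (uSec u m) := by
    rw [← genAt_res le_top, hS₀, genAt_tm hL (isInvertible_tensorPow hKx n), genAt_smul_of_isUnit (hc₀.pow _),
      genAt_of_isGen (isGen_spow he n), genAt_res]
    exact inf_eq_left.2 inf_le_right |>.trans (inf_eq_left.2 ((genAt_le _).trans hG.ge))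
  have hTV : X.basicOpen T = g₁.V := by
    show X.basicOpen (f.appLE _ _ iY t') = genAt L (uSec u m)
    rw [Scheme.basicOpen_appLE, ← hS₀', ← hG, hV₂]
    refine le_antisymm (le_inf (inf_le_left.trans inf_le_left) inf_le_right) ?_
    exact le_inf (le_inf inf_le_left (inf_le_right.trans hGp)) inf_le_right
  have hVG : g₁.V ≤ G := (genAt_le _).trans hG.ge
  have hV₁₂ : g₁.V ≤ g₂.V := hTV.ge.trans (X.basicOpen_le T)
  have hbase : ∀ r, resF hTV.le (f.appLE _ g₁.V g₁.le r) ∈ fracRing _ hT := fun r => by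
    obtain ⟨N₁, α, hα, e⟩ := hsurj' r
    refine ⟨N₁, Φ α, hΦ α hα, ?_⟩
    have k := congrArg (f.appLE (Y.basicOpen t') (X.basicOpen T) (hTV.le.trans g₁.le)) e
    simp only [T, Φ, map_mul, map_pow, resF, ← ConcreteCategory.comp_apply, Scheme.Hom.map_appLE,
      Scheme.Hom.appLE_map] at k ⊢
    exact k
  have hrat : ∀ c : {c // c ∈ s}, resF hTV.le c.1 ∈ fracRing _ hT := fun c => by
    obtain ⟨d, hd⟩ := (g₂.gen.bijective le_rfl).2 (resS M g₂.le (tm (S c) p))
    beta_reduce at hd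
    rw [H10Coh.mres_self] at hd
    refine ⟨0, d, g₂.mem_ratioRing (tm (S c) p : Γ(M, ⊤)) hd, ?_⟩
    rw [pow_zero, mul_one]
    suffices h : c.1 = resF hV₁₂ d by
      rw [h, resF_resF]
    refine (g₂.gen.bijective hV₁₂).1 ?_
    have hd' := congrArg (resS M hV₁₂) hd
    rw [resS_smul, resS_resS, resS_resS] at hd'
    show c.1 • resS M hV₁₂ (resS M g₂.le (tm S₀ p)) = resF hV₁₂ d • resS M hV₁₂ (resS M g₂.le (tm S₀ p))
    rw [resS_resS]
    refine Eq.trans ?_ hd'.symm
    have e₀ := congrArg (resS _ hVG) hS₀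
    have e₁ := congrArg (resS _ hVG) (hS c)
    rw [resS_resS, resS_tm, resS_smul, resS_resS] at e₀ e₁
    have hc' : c.1 • resS L (hVG.trans hG.le) (uSec u m) = resS L (hVG.trans hG.le) (uSec u (n' c)) := hn' c
    rw [resS_tm, resS_tm]
    refine (congrArg (fun z => c.1 • tm z _) e₀).trans (Eq.trans ?_ (congrArg (fun z => tm z _) e₁).symm)
    rw [← hc', ← tm_smul_left, ← tm_smul_left, smul_smul, smul_smul, mul_comm]
  refine nonempty_embPt_of_frac hZ m₀ hT hTV t ?_ hx' haff fun z => ?_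
  · exact (Subring.closure_le (t := (fracRing _ hT).comap (resF hTV.le))).2
      (by rintro c (⟨r, rfl⟩ | hc); exacts [hbase r, hrat ⟨c, hc⟩]) ht₂
  · obtain ⟨M', a, ha, e⟩ := hfrac z
    exact ⟨M', a, (Subring.closure_le (t := (fracRing _ hT).comap (resF hTV.le))).2
      (by rintro c (⟨r, rfl⟩ | hc); exacts [hbase r, hrat ⟨c, hc⟩]) ha, e⟩

/-- Over an affine base. -/
theorem eventually_isRelVeryAmple_comp_of_isAffine [IsAffine Z] (f : X ⟶ Y) [QuasiCompact f] [LocallyOfFiniteType f]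
    (g : Y ⟶ Z) [QuasiCompact g] (hL : PicF.IsInvertible L) (hLva : RelProj.IsRelVeryAmple f L)
    (hK : PicF.IsInvertible K) (hKva : RelProj.IsRelVeryAmple g K) :
    ∃ n₀ : ℕ, ∀ n, n₀ ≤ n → RelProj.IsRelVeryAmple (f ≫ g)
      (CohB1.tensorMod L ((Scheme.Modules.pullback f).obj (CohB1.tensorPow K n))) := by
  classical
  haveI := isSeparated_of_isRelVeryAmple hLva
  haveI := isSeparated_of_isRelVeryAmple hKva
  haveI : CompactSpace Y := (quasiCompact_iff_compactSpace g).1 inferInstance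
  haveI : QuasiSeparatedSpace Y := (HasAffineProperty.iff_of_isAffine (P := @QuasiSeparated) (f := g)).1 inferInstance
  haveI : CompactSpace X := (quasiCompact_iff_compactSpace (f ≫ g)).1 inferInstance
  haveI : QuasiSeparatedSpace X :=
    (HasAffineProperty.iff_of_isAffine (P := @QuasiSeparated) (f := f ≫ g)).1 inferInstance
  obtain ⟨E, hE, u, hu⟩ := isRelVeryAmple_iff.1 hLva
  obtain ⟨F, hF, w, hw⟩ := isRelVeryAmple_iff.1 hKva
  choose O hxO N hN using exists_nhd_embPt f g hL hK hE hu hF hw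
  obtain ⟨T, hT⟩ := CompactSpace.elim_nhds_subcover (fun x => (O x : Set X))
    (fun x => (O x).isOpen.mem_nhds (hxO x))
  refine ⟨T.sup N + 1, fun n hn => ?_⟩
  obtain ⟨k, rfl⟩ : ∃ k, n = k + 1 := ⟨n - 1, by omega⟩
  have hKx := H11Ample.isInvertible_pullback f hK
  haveI : (compTwist f L K k).IsQuasicoherent :=
    H28Mero.isQCoh_of_isInvertible (isInvertible_tensor (isInvertible_tensor hL (isInvertible_tensorPow hKx k)) hKx)
  have hva : RelProj.IsRelVeryAmple (f ≫ g) (compTwist f L K k) := by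
    refine isRelVeryAmple_iff.2 ⟨_, H10Coh.isQuasicoherent_pushforward (f ≫ g) _, 𝟙 _, fun y => ?_⟩
    obtain ⟨x, hx, hyx⟩ := Set.mem_iUnion₂.1 (hT.ge (Set.mem_univ y))
    exact hN x k ((Finset.le_sup hx).trans (by omega)) y hyx
  obtain ⟨φ⟩ := exists_iso_pullback_tensorPow f hK (k + 1)
  exact isRelVeryAmple_of_iso (H10Coh.Tw.assoc L _ _ ≪≫ PicGrp.tensorModIso (Iso.refl L) φ.symm) hva

/-- Large twists by the inverse image are very ample relative to the composite. -/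
theorem eventually_isRelVeryAmple_comp [CompactSpace Z] (f : X ⟶ Y) [QuasiCompact f] [LocallyOfFiniteType f]
    (g : Y ⟶ Z) [QuasiCompact g] (hL : PicF.IsInvertible L) (hLva : RelProj.IsRelVeryAmple f L)
    (hK : PicF.IsInvertible K) (hKva : RelProj.IsRelVeryAmple g K) :
    ∃ n₀ : ℕ, 0 < n₀ ∧ ∀ n, n₀ ≤ n → RelProj.IsRelVeryAmple (f ≫ g)
      (CohB1.tensorMod L ((Scheme.Modules.pullback f).obj (CohB1.tensorPow K n))) := by
  classical
  obtain ⟨T, hT⟩ := exists_finite_affine_family Z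
  have hloc : ∀ i : {V // V ∈ T}, ∃ N, ∀ n, N ≤ n → RelProj.IsRelVeryAmple ((f ≫ g) ∣_ i.1.1)
      ((CohB1.tensorMod L ((Scheme.Modules.pullback f).obj (CohB1.tensorPow K n))).restrict
        ((f ≫ g) ⁻¹ᵁ i.1.1).ι) := fun i => by
    haveI : IsAffine i.1.1.toScheme := i.1.2
    let D := i.1.1
    have hKD := isRelVeryAmple_baseChange (isPullback_morphismRestrict g D).flip hK hKva
    have hLD := isRelVeryAmple_baseChange (isPullback_morphismRestrict f (g ⁻¹ᵁ D)).flip hL hLva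
    obtain ⟨N, hN⟩ := eventually_isRelVeryAmple_comp_of_isAffine _ _ (H11Ample.isInvertible_pullback _ hL) hLD
      (H11Ample.isInvertible_pullback _ hK) hKD
    refine ⟨N, fun n hn => ?_⟩
    have h := hN n hn
    rw [← morphismRestrict_comp f g D] at h
    obtain ⟨a⟩ := exists_iso_pullback_tensorPow (g ⁻¹ᵁ D).ι hK n
    obtain ⟨b⟩ := exists_iso_pullback_tensor (f ⁻¹ᵁ g ⁻¹ᵁ D).ι hL
      (H11Ample.isInvertible_pullback f (isInvertible_tensorPow hK n))
    let c := (Scheme.Modules.pullbackComp (f ⁻¹ᵁ g ⁻¹ᵁ D).ι f).app (CohB1.tensorPow K n) ≪≫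
      (Scheme.Modules.pullbackCongr (morphismRestrict_ι f (g ⁻¹ᵁ D)).symm).app _ ≪≫
      ((Scheme.Modules.pullbackComp (f ∣_ g ⁻¹ᵁ D) (g ⁻¹ᵁ D).ι).app _).symm
    exact isRelVeryAmple_of_iso
      (PicGrp.tensorModIso (Iso.refl _) ((Scheme.Modules.pullback (f ∣_ g ⁻¹ᵁ D)).mapIso a.symm ≪≫ c.symm) ≪≫
        b.symm ≪≫ ((Scheme.Modules.restrictFunctorIsoPullback (f ⁻¹ᵁ g ⁻¹ᵁ D).ι).app _).symm) h
  choose N hN using hloc
  refine ⟨Finset.univ.sup N + 1, Nat.succ_pos _, fun n hn => ?_⟩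
  exact isRelVeryAmple_of_cover
    (isInvertible_tensor hL (H11Ample.isInvertible_pullback f (isInvertible_tensorPow hK n)))
    (fun i : {V // V ∈ T} => i.1.1) hT
    fun i => hN i n ((Finset.le_sup (Finset.mem_univ i)).trans ((Nat.le_succ _).trans hn))

end Groth.Agent.H11Sym
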