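import Groth.Agent.H11Sym.Segre
import Groth.Agent.H11Sym.DegPiece

/-!
# Immersions into the relative `Proj` of an algebra generated in degree one
-/

set_option autoImplicit false
set_option linter.style.haveILetI false

universe u

open CategoryTheory AlgebraicGeometry TopologicalSpace Opposite
open Groth.Agent.H11Proj Groth.Agent.H11Tilde Groth.Agent.H11Ample

noncomputable section

namespace Groth.Agent.H11Sym

section Graded

variable {A : Type u} [CommRing A] (𝒜 : ℕ → AddSubgroup A) [GradedRing 𝒜] {f : A} (hf : f ∈ 𝒜 1)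

/-- Ratios of a generated algebra lie in any subring containing those of the generators. -/
theorem ratio_mem_of_gen (hgen : Subring.closure ((𝒜 0 : Set A) ∪ (𝒜 1 : Set A)) = ⊤)
    (S : Subring Γ(Proj 𝒜, Proj.basicOpen 𝒜 f)) (h1 : ∀ (b : A) (hb : b ∈ 𝒜 1), ratio 𝒜 hf hb ∈ S)
    {k : ℕ} {b : A} (hb : b ∈ 𝒜 k) : ratio 𝒜 hf hb ∈ S := by
  classical
  let ρ : ∀ k : ℕ, 𝒜 k →+ Γ(Proj 𝒜, Proj.basicOpen 𝒜 f) := fun k =>
    AddMonoidHom.mk' (fun x => ratio 𝒜 hf x.2) fun x y => ratio_add 𝒜 hf x.2 y.2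
  have hcongr : ∀ {k : ℕ} (x y : A) (hx : x ∈ 𝒜 k) (hy : y ∈ 𝒜 k), x = y → ratio 𝒜 hf hx = ratio 𝒜 hf hy := by
    rintro k x y hx hy rfl; rfl
  suffices key : ∀ x : A, ∀ k, ρ k (DirectSum.decompose 𝒜 x k) ∈ S by
    have h := key b k
    have e : ((DirectSum.decompose 𝒜 b k : 𝒜 k) : A) = b := DirectSum.decompose_of_mem_same 𝒜 hb
    exact (congrArg (· ∈ S) (hcongr _ _ (DirectSum.decompose 𝒜 b k).2 hb e)).mp h
  intro x
  have hx : x ∈ Subring.closure ((𝒜 0 : Set A) ∪ (𝒜 1 : Set A)) := hgen ▸ Subring.mem_top x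
  induction hx using Subring.closure_induction with
  | mem x hx =>
    intro k
    have hsame : ∀ {d : ℕ} (hd : x ∈ 𝒜 d), ratio 𝒜 hf hd ∈ S → ρ k (DirectSum.decompose 𝒜 x k) ∈ S := by
      intro d hd hS
      by_cases h : d = k
      · subst h
        exact (congrArg (· ∈ S) (hcongr _ _ (DirectSum.decompose 𝒜 x _).2 hd (DirectSum.decompose_of_mem_same 𝒜 hd))).mpr hS
      · have e : DirectSum.decompose 𝒜 x k = 0 := Subtype.ext (DirectSum.decompose_of_mem_ne 𝒜 hd h)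
        rw [e, map_zero]
        exact S.zero_mem
    rcases hx with h0 | h1'
    · refine hsame h0 ?_
      have hxf : x * f ∈ 𝒜 1 := by simpa using SetLike.mul_mem_graded h0 hf
      refine (congrArg (· ∈ S) ?_).mpr (h1 _ hxf)
      refine fval_ext 𝒜 fun z => ?_
      rw [fval_ratio, fval_ratio]
      exact Localization.mk_eq_mk_iff.2 (Localization.r_iff_exists.2 ⟨1, by simp [mul_comm]⟩)
    · exact hsame h1' (h1 _ h1')
  | zero => intro k; rw [DirectSum.decompose_zero, DirectSum.zero_apply, map_zero]; exact S.zero_mem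
  | one =>
    intro k
    by_cases h : k = 0
    · subst h
      refine (congrArg (· ∈ S) ?_).mpr S.one_mem
      exact (hcongr _ _ (DirectSum.decompose 𝒜 (1 : A) _).2 (SetLike.one_mem_graded 𝒜) (DirectSum.decompose_of_mem_same 𝒜 (SetLike.one_mem_graded 𝒜))).trans
        (ratio_one 𝒜 hf)
    · have e : DirectSum.decompose 𝒜 (1 : A) k = 0 :=
        Subtype.ext (DirectSum.decompose_of_mem_ne 𝒜 (SetLike.one_mem_graded 𝒜) (Ne.symm h))
      rw [e, map_zero]
      exact S.zero_mem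
  | add x y _ _ hx hy =>
    intro k
    rw [DirectSum.decompose_add, DirectSum.add_apply, map_add]
    exact S.add_mem (hx k) (hy k)
  | neg x _ hx =>
    intro k
    rw [DirectSum.decompose_neg]
    rw [show (-DirectSum.decompose 𝒜 x) k = -(DirectSum.decompose 𝒜 x k) from rfl, map_neg]
    exact S.neg_mem (hx k)
  | mul x y _ _ hx hy =>
    intro k
    have hmem : ∀ ij ∈ Finset.HasAntidiagonal.antidiagonal k,
        (DirectSum.decompose 𝒜 x ij.1 : A) * DirectSum.decompose 𝒜 y ij.2 ∈ 𝒜 k := fun ij h =>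
      Finset.HasAntidiagonal.mem_antidiagonal.1 h ▸
        SetLike.mul_mem_graded (DirectSum.decompose 𝒜 x ij.1).2 (DirectSum.decompose 𝒜 y ij.2).2
    have e : DirectSum.decompose 𝒜 (x * y) k = ∑ ij ∈ (Finset.HasAntidiagonal.antidiagonal k).attach,
        (⟨_, hmem ij.1 ij.2⟩ : 𝒜 k) := by
      refine Subtype.ext ?_
      rw [DirectSum.decompose_mul, DirectSum.coe_mul_apply_eq_sum_antidiagonal, AddSubgroup.val_finsetSum]
      exact (Finset.sum_attach _ fun ij : ℕ × ℕ => (DirectSum.decompose 𝒜 x ij.1 : A) * DirectSum.decompose 𝒜 y ij.2).symm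
    rw [e, map_sum]
    refine Subring.sum_mem _ fun ij _ => ?_
    obtain ⟨⟨i, j⟩, hij⟩ := ij
    have hk : i + j = k := Finset.HasAntidiagonal.mem_antidiagonal.1 hij
    subst hk
    exact (congrArg (· ∈ S) (ratio_mul 𝒜 hf (DirectSum.decompose 𝒜 x i).2 (DirectSum.decompose 𝒜 y j).2)).mpr
      (S.mul_mem (hx i) (hy j))

end Graded

variable {X Y P : Scheme.{u}} {𝒮 : RelProj.QCGrAlg Y} {p : P ⟶ Y}
  {chart : ∀ (U : Y.Opens) (hU : IsAffineOpen U), (((p ⁻¹ᵁ U : P.Opens) : Scheme.{u}) ≅ Proj (𝒮.deg U hU))}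
  {O1 : P.Modules} {lam : ∀ (U : Y.Opens) (hU : IsAffineOpen U),
    O1 ⟶ (Scheme.Modules.pushforward (RelProj.emb p chart U hU)).obj (GrTwist.twist (𝒮.deg U hU) 1)}
  (hgen : 𝒮.IsGenDegOne) (hP : RelProj.IsRelProj 𝒮 p chart) (hL : RelProj.IsRelTwist 𝒮 p chart 1 O1 lam)

/-- Coefficient of a degree-one section on a chart. -/
theorem tw_eq_ratio_smul {U : Y.Opens} (hU : IsAffineOpen U) {a b : 𝒮.presheaf.obj (op U)}
    (ha : a ∈ 𝒮.deg U hU 1) (hb : b ∈ 𝒮.deg U hU 1)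
    (hD : RelProj.emb p chart U hU ''ᵁ Proj.basicOpen (𝒮.deg U hU) a ≤ p ⁻¹ᵁ U) :
    resS O1 hD (Taut.tw hL hU hb) =
      ((RelProj.emb p chart U hU).appIso _).inv (ratio (𝒮.deg U hU) ha hb) • resS O1 hD (Taut.tw hL hU ha) := by
  let g := RelProj.emb p chart U hU
  let D := Proj.basicOpen (𝒮.deg U hU) a
  refine (hL.bijective U hU _ hD).1 ?_
  change Taut.lamApp hU lam _ _ = Taut.lamApp hU lam _ _
  rw [Taut.lamApp_smul, Taut.tw_res hL hU _ hD, Taut.tw_res hL hU _ hD]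
  have e : g ⁻¹ᵁ (g ''ᵁ D) ≤ D := (g.preimage_image_eq D).le
  have h := congrArg (fun z => (GrTwist.twist (𝒮.deg U hU) 1).presheaf.map (homOfLE e).op z)
    (gs_eq_ratio_smul (𝒮.deg U hU) ha hb)
  simp only [Scheme.Modules.map_smul, H10Coh.mres_mres] at h
  refine h.trans (congrArg (· • _) ?_)
  change _ = (g.app (g ''ᵁ D)) ((g.appIso D).inv _)
  rw [← ConcreteCategory.comp_apply, Scheme.Hom.appIso_inv_app]
  rfl

include hgen hP in
theorem exists_degMap :
    ∃ v : degModule 𝒮 1 ⟶ (Scheme.Modules.pushforward p).obj O1,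
      ∀ (U : Y.Opens) (hU : IsAffineOpen U) (m : Γ(degModule 𝒮 1, U)),
        uSec v m = Taut.tw hL hU (degIncl_mem 𝒮 1 hU m) := by
  refine exists_hom_of_affine (degModule 𝒮 1) ((Scheme.Modules.pushforward p).obj O1)
    (fun U hU => ((AddMonoidHom.mk' (fun m => Taut.tw hL hU (degIncl_mem 𝒮 1 hU m)) fun a b => ?_ :
      Γ(degModule 𝒮 1, U) →+ Γ(O1, p ⁻¹ᵁ U)) :
        Γ(degModule 𝒮 1, U) →+ Γ((Scheme.Modules.pushforward p).obj O1, U))) (fun U hU r m => ?_) fun U hU r m => ?_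
  · rw [← Taut.tw_add hL hU]
    exact Taut.tw_congr hL hU (japp_add _ U a b) _ _
  · have h : (𝒮.str.app (op U)).hom r * japp (degIncl 𝒮 1) U m ∈ 𝒮.deg U hU 1 :=
      japp_smul (degIncl 𝒮 1) U r m ▸ degIncl_mem 𝒮 1 hU (r • m)
    exact (Taut.tw_congr hL hU (japp_smul _ U r m) _ h).trans
      (Taut.tw_smul hgen hP hL hU r (degIncl_mem 𝒮 1 hU m) h)
  · exact (Taut.tw_congr hL (hU.basicOpen r) (japp_res _ (Y.basicOpen_le r) m) _ _).trans
      (Taut.tw_res_basicOpen hP hL hU (hU.basicOpen r) r rfl (Y.basicOpen_le r) (degIncl_mem 𝒮 1 hU m)).symm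

include hgen hP hL in
/-- An immersion into a `Proj` generated in degree one gives a very ample module. -/
theorem isRelVeryAmple_of_isImmersion {q : X ⟶ Y} (i : X ⟶ P) [IsImmersion i] (hi : i ≫ p = q) :
    RelProj.IsRelVeryAmple q ((Scheme.Modules.pullback i).obj O1) := by
  classical
  have hinv : PicF.IsInvertible O1 := H11Ample.isInvertible_of_gen fun y => by
    obtain ⟨⟨U, hU⟩, z, rfl⟩ := exists_mem_range_emb p chart y
    obtain ⟨a, ha, haz⟩ := exists_degOne_notMem (𝒮.deg U hU) (hgen U hU) z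
    exact ⟨_, _, (Taut.genAt_tw hgen hL hU ha).ge ⟨z, haz, rfl⟩, isGen_genAt (Taut.tw hL hU ha)⟩
  obtain ⟨v, hv⟩ := exists_degMap hgen hP hL
  subst hi
  obtain ⟨u, hu⟩ := exists_pullMap (p := i) (rfl : i ≫ p = i ≫ p) v
  refine isRelVeryAmple_iff.2 ⟨_, isQCoh_degModule 𝒮 1, u, fun x => ?_⟩
  obtain ⟨⟨U, hU⟩, z, hz⟩ := exists_mem_range_emb p chart (i.base x)
  obtain ⟨a, ha, haz⟩ := exists_degOne_notMem (𝒮.deg U hU) (hgen U hU) z
  obtain ⟨m, rfl⟩ := exists_degIncl_eq 𝒮 1 hU ha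
  let D := RelProj.emb p chart U hU ''ᵁ Proj.basicOpen (𝒮.deg U hU) (japp (degIncl 𝒮 1) U m)
  have hDle : D ≤ p ⁻¹ᵁ U := (Scheme.Hom.image_le_opensRange _ _).trans (opensRange_emb p chart U hU).le
  have hD : IsAffineOpen D := (Proj.isAffineOpen_basicOpen (𝒮.deg U hU) (japp (degIncl 𝒮 1) U m)
    (degIncl_mem 𝒮 1 hU m) Nat.one_pos).image_of_isOpenImmersion _
  let M := (Scheme.Modules.pullback i).obj O1
  let g := gMax u hU m
  have huSec : ∀ n : Γ(degModule 𝒮 1, U),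
      uSec u n = OmegaSh.pullSect i O1 _ (Taut.tw hL hU (degIncl_mem 𝒮 1 hU n)) := fun n => by
    refine (hu U n).trans ((H10Coh.mres_self _ _ _).trans ?_)
    rw [hv U hU n]
  have hV : g.V = i ⁻¹ᵁ D := by
    show genAt M (uSec u m) = _
    rw [huSec]
    exact (genAt_pullSect hinv _).trans (congrArg (i ⁻¹ᵁ ·) (Taut.genAt_tw hgen hL hU (degIncl_mem 𝒮 1 hU m)))
  let φ : Γ(P, D) →+* Γ(X, g.V) := (i.appLE D g.V hV.le).hom
  let ι' := (RelProj.emb p chart U hU).appIso (Proj.basicOpen (𝒮.deg U hU) (japp (degIncl 𝒮 1) U m))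
  have hrange : ∀ w : Γ(P, D), φ w ∈ g.ratioRing := fun w => by
    obtain ⟨k, b, hb, e⟩ := exists_ratio (𝒮.deg U hU) (degIncl_mem 𝒮 1 hU m) (ι'.hom w)
    let S := g.ratioRing.comap (φ.comp ι'.inv.hom)
    have h := ratio_mem_of_gen (𝒮.deg U hU) (degIncl_mem 𝒮 1 hU m) (hgen U hU) S (fun b hb => by
      obtain ⟨n, rfl⟩ := exists_degIncl_eq 𝒮 1 hU hb
      refine Subring.mem_comap.2 (g.mem_ratioRing n ?_)
      have e1 := pullSect_smul_eq i O1 hDle hV.le
        (d := ι'.inv (ratio (𝒮.deg U hU) (degIncl_mem 𝒮 1 hU m) hb))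
        (s := Taut.tw hL hU (degIncl_mem 𝒮 1 hU m)) (t := Taut.tw hL hU hb)
        (tw_eq_ratio_smul hL hU (degIncl_mem 𝒮 1 hU m) hb hDle).symm
      refine Eq.trans ?_ (e1.trans ?_)
      · exact congrArg (fun z => φ (ι'.inv (ratio (𝒮.deg U hU) (degIncl_mem 𝒮 1 hU m) hb)) • resS M g.le z)
          (huSec m)
      · exact (congrArg (resS M g.le) (huSec n)).symm) hb
    refine (congrArg (fun z => φ z ∈ g.ratioRing) ?_).mp (Subring.mem_comap.1 h)
    exact (congrArg ι'.inv e).symm.trans (ConcreteCategory.congr_hom ι'.hom_inv_id w)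
  have hxD : i.base x ∈ D := ⟨z, haz, hz⟩
  have hxO : i.base x ∈ i.coborderRange := subset_coborder ⟨x, rfl⟩
  obtain ⟨κ, hκle, hxκ⟩ := hD.exists_basicOpen_le (V := i.coborderRange ⊓ D) ⟨i.base x, ⟨hxO, hxD⟩⟩ hxD
  let t := φ κ
  have hpre : X.basicOpen t = i ⁻¹ᵁ P.basicOpen κ := by
    show X.basicOpen (i.appLE D g.V hV.le κ) = _
    rw [Scheme.basicOpen_appLE]
    exact inf_eq_right.2 ((i.preimage_mono (P.basicOpen_le _)).trans hV.ge)
  have hDκ := hD.basicOpen κ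
  have hcl : IsClosedImmersion (i ∣_ P.basicOpen κ) := by
    have hO : P.basicOpen κ ≤ i.coborderRange := hκle.trans inf_le_left
    have h1 := IsZariskiLocalAtTarget.restrict (inferInstance : IsClosedImmersion i.liftCoborder)
      (i.coborderRange.ι ⁻¹ᵁ P.basicOpen κ)
    have hp : i.liftCoborder ⁻¹ᵁ i.coborderRange.ι ⁻¹ᵁ P.basicOpen κ = i ⁻¹ᵁ P.basicOpen κ := by
      rw [← Scheme.Hom.comp_preimage, Scheme.Hom.liftCoborder_ι]
    have hi : i.coborderRange.ι ''ᵁ (i.coborderRange.ι ⁻¹ᵁ P.basicOpen κ) = P.basicOpen κ := by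
      rw [Scheme.Hom.image_preimage_eq_opensRange_inf, Scheme.Opens.opensRange_ι]
      exact inf_eq_right.2 hO
    have e : Arrow.mk (i.liftCoborder ∣_ i.coborderRange.ι ⁻¹ᵁ P.basicOpen κ) ≅ Arrow.mk (i ∣_ P.basicOpen κ) :=
      Arrow.isoMk (X.isoOfEq hp) ((i.coborderRange.ι.isoImage _) ≪≫ P.isoOfEq hi) (by
        rw [← cancel_mono (P.basicOpen κ).ι]
        simp)
    exact (MorphismProperty.arrow_mk_iso_iff @IsClosedImmersion e).1 h1
  obtain ⟨hWaff, hsurj⟩ := (isClosedImmersion_morphismRestrict_iff i hDκ).1 hcl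
  refine ⟨⟨U, hU, m, t, hrange κ, hpre.ge hxκ, hpre ▸ hWaff, fun y => ?_⟩⟩
  haveI := hD.isLocalization_basicOpen κ
  obtain ⟨w, hw⟩ := hsurj (resF hpre.ge y)
  obtain ⟨⟨c, ⟨_, N, rfl⟩⟩, hc⟩ := IsLocalization.surj (Submonoid.powers κ) w
  refine ⟨N, φ c, hrange c, ?_⟩
  have hkey : ∀ c, resF (X.basicOpen_le t) (φ c) =
      resF hpre.le (i.app _ (P.presheaf.map (homOfLE (P.basicOpen_le κ)).op c)) := fun c => by
    simp only [φ, resF, Scheme.Hom.app_eq_appLE, ← ConcreteCategory.comp_apply, Scheme.Hom.appLE_map,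
      Scheme.Hom.map_appLE]
  have h2 := congrArg (fun z => resF hpre.le (i.app _ z)) hc
  simp only [map_mul, hw, resF_resF, resF_self, RingHom.algebraMap_toAlgebra] at h2
  refine Eq.trans ?_ (h2.trans (hkey c).symm)
  rw [← map_pow, show resF (X.basicOpen_le t) (t ^ N) = _ from congrArg _ (map_pow φ κ N).symm, hkey]

end Groth.Agent.H11Sym
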