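import Groth.Agent.H11Sym.SpansEpi
import Groth.Agent.H10Coh.QcqsPush
import Groth.Agent.H28Mero.Gen

/-!
# Invertible modules are very ample for quasi-compact open immersions
-/

set_option autoImplicit false
set_option linter.style.haveILetI false

universe u

open CategoryTheory AlgebraicGeometry TopologicalSpace Opposite
open Groth.Agent.H11Proj Groth.Agent.H11Tilde Groth.Agent.H11Ample

noncomputable section

namespace Groth.Agent.H11Sym

/-- An invertible module is very ample relative to a quasi-compact open immersion. -/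
theorem isRelVeryAmple_of_isOpenImmersion {X Y : Scheme.{u}} (q : X ⟶ Y) [IsOpenImmersion q] [QuasiCompact q]
    {L : X.Modules} (hL : PicF.IsInvertible L) : RelProj.IsRelVeryAmple q L := by
  haveI : L.IsQuasicoherent := H28Mero.isQCoh_of_isInvertible hL
  refine isRelVeryAmple_iff.2 ⟨_, H10Coh.isQuasicoherent_pushforward q L,
    𝟙 ((Scheme.Modules.pushforward q).obj L), fun x => ?_⟩
  obtain ⟨V, e, hxV, he⟩ := exists_gen hL x
  obtain ⟨U, hU, hxU, hUV⟩ := exists_isAffineOpen_mem_and_subset (U := q ''ᵁ V) ⟨x, hxV, rfl⟩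
  have hle : q ⁻¹ᵁ U ≤ V := (q.preimage_mono (fun _ h => hUV h : U ≤ q ''ᵁ V)).trans (q.preimage_image_eq V).le
  have hrange : U ≤ q.opensRange := fun y hy => by
    obtain ⟨z, -, rfl⟩ := hUV hy
    exact ⟨z, rfl⟩
  have haff : IsAffineOpen (q ⁻¹ᵁ U) := hU.preimage_of_isOpenImmersion q hrange
  let m : Γ((Scheme.Modules.pushforward q).obj L, U) := resS L hle e
  let u := 𝟙 ((Scheme.Modules.pushforward q).obj L)
  have hV : (gMax u hU m).V = q ⁻¹ᵁ U := by
    refine le_antisymm (genAt_le _) (le_genAt (L := L) (uSec u m) le_rfl ?_)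
    have h : IsGen L (resS L hle e) := he.res hle
    exact (congrArg (IsGen L) (H10Coh.mres_self L _ (uSec u m))).mpr h
  have h1 : X.basicOpen (1 : Γ(X, (gMax u hU m).V)) = (gMax u hU m).V := Scheme.basicOpen_of_isUnit _ isUnit_one
  refine ⟨⟨U, hU, m, 1, Subring.one_mem _, (h1.trans hV).ge hxU, (h1.trans hV).symm ▸ haff, fun z => ?_⟩⟩
  haveI : IsIso (q.app U) := q.isIso_app U hrange
  obtain ⟨r, hr⟩ := (ConcreteCategory.bijective_of_isIso (q.app U)).2 (resF (h1.trans hV).ge z)
  refine ⟨0, _, (gMax u hU m).base_mem_ratioRing r, ?_⟩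
  rw [pow_zero, mul_one]
  have e2 := congrArg (resF (h1.trans hV).le) hr
  rw [resF_resF, resF_self] at e2
  refine e2.symm.trans ?_
  simp only [resF, ← ConcreteCategory.comp_apply, Scheme.Hom.appLE_map]
  simp only [Scheme.Hom.app_eq_appLE, Scheme.Hom.appLE_map]
  rfl

end Groth.Agent.H11Sym
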