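import Groth.Agent.H11Sym.VeryAmpleOps
import Groth.Agent.H11Ample.Converse

/-!
# External tensor products of relatively very ample modules
-/

set_option autoImplicit false
set_option linter.style.haveILetI false

universe u

open CategoryTheory CategoryTheory.Limits AlgebraicGeometry TopologicalSpace Opposite
open Groth.Agent.H11Proj Groth.Agent.H11Tilde Groth.Agent.H11Ample

noncomputable section

namespace Groth.Agent.H11Sym

variable {X P Q : Scheme.{u}} {f : X ⟶ Q} {p : P ⟶ X} {h : P ⟶ Q}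

/-- The pulled back module of sections. -/
theorem exists_pullMap (hh : p ≫ f = h) {L : X.Modules} {E : Q.Modules}
    (u : E ⟶ (Scheme.Modules.pushforward f).obj L) :
    ∃ v : E ⟶ (Scheme.Modules.pushforward h).obj ((Scheme.Modules.pullback p).obj L),
      ∀ (U : Q.Opens) (m : Γ(E, U)), uSec v m =
        resS _ (by rw [← hh]; exact le_rfl) (OmegaSh.pullSect p L (f ⁻¹ᵁ U) (uSec u m)) := by
  subst hh
  exact ⟨u ≫ (Scheme.Modules.pushforward f).map ((Scheme.Modules.pullbackPushforwardAdjunction p).unit.app L) ≫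
    (Scheme.Modules.pushforwardComp p f).hom.app _, fun U m => (H10Coh.mres_self _ _ _).symm⟩

/-- The ratios of one factor lie in the ratio ring of the product. -/
theorem ratioRing_pull {L : X.Modules} {M : P.Modules} {E E'' : Q.Modules}
    {u : E ⟶ (Scheme.Modules.pushforward f).obj L} {w : E'' ⟶ (Scheme.Modules.pushforward h).obj M}
    (hh : p ≫ f = h) (g : GenPt u) (g'' : GenPt w) (hD : g''.U ≤ g.U) (i : g''.V ≤ p ⁻¹ᵁ g.V)
    (hrat : ∀ (c : Γ(X, g.V)) (n : Γ(E, g.U)), c • resS L g.le (uSec u g.m) = resS L g.le (uSec u n) →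
      ∃ n'' : Γ(E'', g''.U), p.appLE g.V g''.V i c • resS M g''.le (uSec w g''.m) = resS M g''.le (uSec w n''))
    (c : Γ(X, g.V)) (hc : c ∈ g.ratioRing) : p.appLE g.V g''.V i c ∈ g''.ratioRing :=
  (Subring.closure_le (t := g''.ratioRing.comap (p.appLE g.V g''.V i).hom)).2 (by
    rintro d (⟨r, rfl⟩ | ⟨n, hn⟩)
    · have k : p.appLE g.V g''.V i (f.appLE g.U g.V g.le r) =
          h.appLE g''.U g''.V g''.le (Q.presheaf.map (homOfLE hD).op r) := by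
        simp only [← ConcreteCategory.comp_apply, Scheme.Hom.appLE_comp_appLE, Scheme.Hom.map_appLE, hh]
      exact Subring.mem_comap.2 ((congrArg (· ∈ g''.ratioRing) k).mpr (g''.base_mem_ratioRing _))
    · obtain ⟨n'', hn''⟩ := hrat d n hn
      exact g''.mem_ratioRing n'' hn'') hc

variable {Y : Scheme.{u}} {f₂ : Y ⟶ Q} {p₂ : P ⟶ Y}

/-- Segre. -/
theorem isRelVeryAmple_segre (hsq : IsPullback p p₂ f f₂) (hh : p ≫ f = h) {L₁ : X.Modules} {L₂ : Y.Modules}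
    (hL₁ : PicF.IsInvertible L₁) (hL₂ : PicF.IsInvertible L₂)
    (hva₁ : RelProj.IsRelVeryAmple f L₁) (hva₂ : RelProj.IsRelVeryAmple f₂ L₂) :
    RelProj.IsRelVeryAmple h
      (CohB1.tensorMod ((Scheme.Modules.pullback p).obj L₁) ((Scheme.Modules.pullback p₂).obj L₂)) := by
  have hh₂ : p₂ ≫ f₂ = h := hsq.w.symm.trans hh
  obtain ⟨E₁, hE₁, u₁, hu₁⟩ := isRelVeryAmple_iff.1 hva₁
  obtain ⟨E₂, hE₂, u₂, hu₂⟩ := isRelVeryAmple_iff.1 hva₂
  obtain ⟨v₁, hv₁⟩ := exists_pullMap (p := p) hh u₁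
  obtain ⟨v₂, hv₂⟩ := exists_pullMap (p := p₂) hh₂ u₂
  let M₁ := (Scheme.Modules.pullback p).obj L₁
  let M₂ := (Scheme.Modules.pullback p₂).obj L₂
  have hM₁ : PicF.IsInvertible M₁ := H11Ample.isInvertible_pullback p hL₁
  have hM₂ : PicF.IsInvertible M₂ := H11Ample.isInvertible_pullback p₂ hL₂
  refine isRelVeryAmple_iff.2 ⟨_, (haveI : E₁.IsQuasicoherent := hE₁; haveI : E₂.IsQuasicoherent := hE₂;
    H10Coh.TT.isQCoh_tensorMod E₁ E₂), prodMap v₁ v₂, fun x => ?_⟩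
  obtain ⟨a₀⟩ := hu₁ (p.base x)
  obtain ⟨b₀⟩ := hu₂ (p₂.base x)
  have hxa : h.base x ∈ a₀.U := by
    have := (gMax u₁ a₀.hU a₀.m).le (X.basicOpen_le a₀.t a₀.mem)
    rw [← hh]
    exact this
  have hxb : h.base x ∈ b₀.U := by
    have := (gMax u₂ b₀.hU b₀.m).le (Y.basicOpen_le b₀.t b₀.mem)
    rw [← hh₂]
    exact this
  obtain ⟨s, s', hss, hsx⟩ := exists_basicOpen_le_affine_inter a₀.hU b₀.hU (h.base x) ⟨hxa, hxb⟩
  have hD := a₀.hU.basicOpen s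
  obtain ⟨a, hUa, ha⟩ := a₀.exists_refine (O := f ⁻¹ᵁ Q.basicOpen s) (by rw [← hh] at hsx; exact hsx)
  obtain ⟨b, hUb, hb⟩ := b₀.exists_refine (O := f₂ ⁻¹ᵁ Q.basicOpen s) (by rw [← hh₂] at hsx; exact hsx)
  have iA : Q.basicOpen s ≤ a.U := (Q.basicOpen_le s).trans_eq hUa.symm
  have iB : Q.basicOpen s ≤ b.U := (hss.trans_le (Q.basicOpen_le _)).trans_eq hUb.symm
  let m₁ := E₁.presheaf.map (homOfLE iA).op a.m
  let m₂ := E₂.presheaf.map (homOfLE iB).op b.m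
  let g'' := gMax (prodMap v₁ v₂) hD (tm m₁ m₂)
  have jA : h ⁻¹ᵁ Q.basicOpen s ≤ p ⁻¹ᵁ f ⁻¹ᵁ a.U := by
    rw [← hh]
    exact (p ≫ f).preimage_mono iA
  have jB : h ⁻¹ᵁ Q.basicOpen s ≤ p₂ ⁻¹ᵁ f₂ ⁻¹ᵁ b.U := by
    rw [← hh₂]
    exact (p₂ ≫ f₂).preimage_mono iB
  have hw₁ : ∀ n : Γ(E₁, a.U), uSec v₁ (E₁.presheaf.map (homOfLE iA).op n) =
      resS M₁ jA (OmegaSh.pullSect p L₁ _ (uSec u₁ n)) := fun n =>
    ((uSec_res v₁ iA n).trans (congrArg (resS M₁ (h.preimage_mono iA)) (hv₁ a.U n))).trans (resS_resS M₁ _ _ _)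
  have hw₂ : ∀ n : Γ(E₂, b.U), uSec v₂ (E₂.presheaf.map (homOfLE iB).op n) =
      resS M₂ jB (OmegaSh.pullSect p₂ L₂ _ (uSec u₂ n)) := fun n =>
    ((uSec_res v₂ iB n).trans (congrArg (resS M₂ (h.preimage_mono iB)) (hv₂ b.U n))).trans (resS_resS M₂ _ _ _)
  have hw : ∀ (n₁ : Γ(E₁, Q.basicOpen s)) (n₂ : Γ(E₂, Q.basicOpen s)),
      uSec (prodMap v₁ v₂) (tm n₁ n₂) = tm (uSec v₁ n₁) (uSec v₂ n₂) := uSec_prodMap v₁ v₂
  have hV : g''.V = p ⁻¹ᵁ genAt L₁ (uSec u₁ a.m) ⊓ p₂ ⁻¹ᵁ genAt L₂ (uSec u₂ b.m) ⊓ h ⁻¹ᵁ Q.basicOpen s := by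
    show genAt _ (uSec (prodMap v₁ v₂) (tm m₁ m₂)) = _
    rw [hw, genAt_tm hM₁ hM₂, show uSec v₁ m₁ = _ from hw₁ a.m, show uSec v₂ m₂ = _ from hw₂ b.m,
      genAt_res, genAt_res, genAt_pullSect hL₁, genAt_pullSect hL₂, inf_inf_inf_comm, inf_idem]
  let i₁ : g''.V ≤ p ⁻¹ᵁ (gMax u₁ a.hU a.m).V := hV.trans_le (inf_le_left.trans inf_le_left)
  let i₂ : g''.V ≤ p₂ ⁻¹ᵁ (gMax u₂ b.hU b.m).V := hV.trans_le (inf_le_left.trans inf_le_right)
  let φ₁ : Γ(X, (gMax u₁ a.hU a.m).V) →+* Γ(P, g''.V) := (p.appLE _ _ i₁).hom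
  let φ₂ : Γ(Y, (gMax u₂ b.hU b.m).V) →+* Γ(P, g''.V) := (p₂.appLE _ _ i₂).hom
  have hφ₁ : ∀ c ∈ (gMax u₁ a.hU a.m).ratioRing, φ₁ c ∈ g''.ratioRing :=
    ratioRing_pull (E'' := CohB1.tensorMod E₁ E₂) hh (gMax u₁ a.hU a.m) g'' iA i₁ fun c n hn =>
      ⟨tm (E₁.presheaf.map (homOfLE iA).op n) m₂, by
        have e := pullSect_smul_eq p L₁ (gMax u₁ a.hU a.m).le i₁ hn
        show _ • resS _ g''.le (uSec (prodMap v₁ v₂) (tm m₁ m₂)) = _
        erw [hw, hw, resS_tm, resS_tm, ← tm_smul_left, hw₁, hw₁, resS_resS, resS_resS]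
        exact congrArg (fun z => tm z _) e⟩
  have hφ₂ : ∀ c ∈ (gMax u₂ b.hU b.m).ratioRing, φ₂ c ∈ g''.ratioRing :=
    ratioRing_pull (E'' := CohB1.tensorMod E₁ E₂) hh₂ (gMax u₂ b.hU b.m) g'' iB i₂ fun c n hn =>
      ⟨tm m₁ (E₂.presheaf.map (homOfLE iB).op n), by
        have e := pullSect_smul_eq p₂ L₂ (gMax u₂ b.hU b.m).le i₂ hn
        show _ • resS _ g''.le (uSec (prodMap v₁ v₂) (tm m₁ m₂)) = _
        erw [hw, hw, resS_tm, resS_tm, ← tm_smul_right, hw₂, hw₂, resS_resS, resS_resS]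
        exact congrArg (fun z => tm _ z) e⟩
  let t := φ₁ a.t * φ₂ b.t
  have ht : t ∈ g''.ratioRing := Subring.mul_mem _ (hφ₁ _ a.ht) (hφ₂ _ b.ht)
  have hbas : P.basicOpen t = p ⁻¹ᵁ X.basicOpen a.t ⊓ p₂ ⁻¹ᵁ Y.basicOpen b.t := by
    show P.basicOpen (φ₁ a.t * φ₂ b.t) = _
    rw [Scheme.basicOpen_mul]
    show P.basicOpen (p.appLE _ _ i₁ a.t) ⊓ P.basicOpen (p₂.appLE _ _ i₂ b.t) = _
    rw [Scheme.basicOpen_appLE, Scheme.basicOpen_appLE, inf_inf_inf_comm, inf_idem]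
    refine inf_eq_right.2 ((le_inf (inf_le_inf (p.preimage_mono (X.basicOpen_le _))
      (p₂.preimage_mono (Y.basicOpen_le _))) ?_).trans_eq hV.symm)
    refine inf_le_left.trans ((p.preimage_mono (ha.trans inf_le_left)).trans ?_)
    rw [← hh]
    rfl
  have hUX : X.basicOpen a.t ≤ f ⁻¹ᵁ Q.basicOpen s := ha.trans inf_le_left
  have hUY : Y.basicOpen b.t ≤ f₂ ⁻¹ᵁ Q.basicOpen s := hb.trans inf_le_left
  haveI := isIso_pushoutSection_of_isAffineOpen hsq hUY hUX hbas hD b.aff a.aff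
  have hpo := (isIso_pushoutSection_iff hsq hUY hUX hbas).1 inferInstance
  have haff : IsAffineOpen (P.basicOpen t) := by
    haveI : IsAffine (Q.basicOpen s) := hD
    haveI : IsAffine (X.basicOpen a.t) := a.aff
    haveI : IsAffine (Y.basicOpen b.t) := b.aff
    exact .of_isIso (Scheme.Hom.isPullback_resLE hsq hUY hUX hbas).isoPullback.hom
  refine ⟨⟨_, hD, tm m₁ m₂, t, ht, hbas.ge ⟨a.mem, b.mem⟩, haff, fun z => ?_⟩⟩
  refine pushout_induction hpo (fracRing _ ht) (fun y => ?_) (fun y => ?_) z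
  · obtain ⟨N, α, hα, e⟩ := a.surj y
    refine ⟨N, φ₁ α * φ₂ b.t ^ N, Subring.mul_mem _ (hφ₁ _ hα) (Subring.pow_mem _ (hφ₂ _ b.ht) _), ?_⟩
    have e' := congrArg (p.appLE (X.basicOpen a.t) (P.basicOpen t) (hbas.trans_le inf_le_left)) e
    have k : ∀ c, resF (P.basicOpen_le t) (φ₁ c) = p.appLE (X.basicOpen a.t) (P.basicOpen t)
        (hbas.trans_le inf_le_left) (resF (X.basicOpen_le a.t) c) := fun c => by
      simp only [φ₁, resF, ← ConcreteCategory.comp_apply, Scheme.Hom.appLE_map, Scheme.Hom.map_appLE]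
    rw [map_mul, map_pow, ← k, ← k] at e'
    simp only [t, map_mul, map_pow]
    rw [mul_pow, ← mul_assoc]
    exact congrArg (· * _) e'
  · obtain ⟨N, α, hα, e⟩ := b.surj y
    refine ⟨N, φ₁ a.t ^ N * φ₂ α, Subring.mul_mem _ (Subring.pow_mem _ (hφ₁ _ a.ht) _) (hφ₂ _ hα), ?_⟩
    have e' := congrArg (p₂.appLE (Y.basicOpen b.t) (P.basicOpen t) (hbas.trans_le inf_le_right)) e
    have k : ∀ c, resF (P.basicOpen_le t) (φ₂ c) = p₂.appLE (Y.basicOpen b.t) (P.basicOpen t)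
        (hbas.trans_le inf_le_right) (resF (Y.basicOpen_le b.t) c) := fun c => by
      simp only [φ₂, resF, ← ConcreteCategory.comp_apply, Scheme.Hom.appLE_map, Scheme.Hom.map_appLE]
    rw [map_mul, map_pow, ← k, ← k] at e'
    simp only [t, map_mul, map_pow]
    rw [mul_pow, mul_left_comm]
    exact congrArg (_ * ·) e'

end Groth.Agent.H11Sym
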