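import Groth.Agent.H11QMap.BaseChange
import Groth.Agent.H11Sym.Bundle
import Groth.Agent.H8Props.RelFP.PullSections

/-!
# Base change of symmetric algebras and of projective bundles
-/

set_option autoImplicit false
set_option linter.style.haveILetI false
set_option linter.unusedSectionVars false

universe u

open CategoryTheory CategoryTheory.Limits AlgebraicGeometry TopologicalSpace Opposite

noncomputable section

namespace Groth.Agent.H11Sym.SymBaseChange

open H8Props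

variable {Y Y' : Scheme.{u}} (ψ : Y' ⟶ Y) {E : Y.Modules} (hE : Coh.IsQCoh E)
  {𝒮 : RelProj.QCGrAlg Y} {j : E ⟶ 𝒮.toModule} (hj : RelProj.IsGrSymAlg E 𝒮 j)
  {𝒮' : RelProj.QCGrAlg Y'} {j' : (Scheme.Modules.pullback ψ).obj E ⟶ 𝒮'.toModule}
  (hj' : RelProj.IsGrSymAlg ((Scheme.Modules.pullback ψ).obj E) 𝒮' j')

theorem japp_pullSect_res {U V : Y.Opens} (i : V ≤ U) (m : Γ(E, U)) :
    japp (B := 𝒮'.toQCAlg) j' (ψ ⁻¹ᵁ V) (OmegaSh.pullSect ψ E V (E.presheaf.map (homOfLE i).op m)) =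
      ares 𝒮'.toQCAlg (ψ.preimage_mono i) (japp (B := 𝒮'.toQCAlg) j' (ψ ⁻¹ᵁ U) (OmegaSh.pullSect ψ E U m)) := by
  rw [← japp_res]
  exact congrArg _ (NatTrans.naturality_apply
    ((Scheme.Modules.pullbackPushforwardAdjunction ψ).unit.app E).mapPresheaf (homOfLE i).op m)

include hE hj in
theorem exists_hom : ∃ g : 𝒮.presheaf ⟶ ψ.base _* 𝒮'.presheaf,
    𝒮.str ≫ g = ψ.c ≫ (TopCat.Presheaf.pushforward CommRingCat.{u} ψ.base).map 𝒮'.str ∧
    ∀ (U : Y.Opens), IsAffineOpen U → ∀ m : Γ(E, U),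
      (g.app (op U) : 𝒮.presheaf.obj (op U) ⟶ 𝒮'.presheaf.obj (op (ψ ⁻¹ᵁ U))).hom
          (japp (B := 𝒮.toQCAlg) j U m) =
        japp (B := 𝒮'.toQCAlg) j' (ψ ⁻¹ᵁ U) (OmegaSh.pullSect ψ E U m) := by
  have hex : ∀ (U : Y.Opens) (hU : IsAffineOpen U), ∃ f : 𝒮.presheaf.obj (op U) →+* 𝒮'.presheaf.obj (op (ψ ⁻¹ᵁ U)),
      (∀ r, f (astr 𝒮.toQCAlg U r) = astr 𝒮'.toQCAlg (ψ ⁻¹ᵁ U) (ψ.app U r)) ∧
        ∀ m, f (japp (B := 𝒮.toQCAlg) j U m) =
          japp (B := 𝒮'.toQCAlg) j' (ψ ⁻¹ᵁ U) (OmegaSh.pullSect ψ E U m) := fun U hU =>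
    (hj.1.isAffSym hE).exists_lift hU ((astr 𝒮'.toQCAlg (ψ ⁻¹ᵁ U)).comp (ψ.app U).hom)
      (AddMonoidHom.mk' (fun m => japp (B := 𝒮'.toQCAlg) j' (ψ ⁻¹ᵁ U) (OmegaSh.pullSect ψ E U m))
        fun a b => by rw [OmegaSh.pullSect, map_add, japp_add]) fun r m => by
      refine (congrArg (japp (B := 𝒮'.toQCAlg) j' (ψ ⁻¹ᵁ U)) (show OmegaSh.pullSect ψ E U (r • m) =
        ψ.app U r • OmegaSh.pullSect ψ E U m from Scheme.Modules.Hom.app_smul _ r m)).trans ?_
      exact japp_smul _ _ _ _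
  choose f hf₀ hf₁ using hex
  let T : TopCat.Sheaf CommRingCat.{u} Y.carrier :=
    (TopCat.Sheaf.pushforward CommRingCat.{u} ψ.base).obj ⟨𝒮'.presheaf, 𝒮'.isSheaf⟩
  have hn : ∀ (U : Y.Opens) (hU : IsAffineOpen U) (r : Γ(Y, U)) x,
      f _ (hU.basicOpen r) (ares 𝒮.toQCAlg (Y.basicOpen_le r) x) =
        ares 𝒮'.toQCAlg (ψ.preimage_mono (Y.basicOpen_le r)) (f U hU x) := by
    intro U hU r x
    refine RingHom.congr_fun ((hj.1.isAffSym hE).ringHom_ext hU
      (φ := (f _ (hU.basicOpen r)).comp (ares 𝒮.toQCAlg (Y.basicOpen_le r)))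
      (ψ := (ares 𝒮'.toQCAlg (ψ.preimage_mono (Y.basicOpen_le r))).comp (f U hU)) (fun s => ?_) fun m => ?_) x
    · simp only [RingHom.comp_apply]
      rw [ares_str, hf₀, hf₀, ares_str]
      exact congrArg _ (ConcreteCategory.congr_hom (ψ.naturality (homOfLE (Y.basicOpen_le r)).op) s)
    · simp only [RingHom.comp_apply]
      rw [← japp_res, hf₁, hf₁]
      exact japp_pullSect_res ψ _ m
  let η : (Scheme.AffineZariskiSite.toOpensFunctor Y).op ⋙ 𝒮.presheaf ⟶
      (Scheme.AffineZariskiSite.toOpensFunctor Y).op ⋙ T.presheaf :=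
    { app := fun U => CommRingCat.ofHom (f U.unop.1 U.unop.2)
      naturality := fun U V i => by
        obtain ⟨⟨V, hV⟩⟩ := V
        obtain ⟨r, hr⟩ := i.unop.le
        subst hr
        exact CommRingCat.hom_ext (RingHom.ext (hn U.unop.1 U.unop.2 r)) }
  let e := Functor.IsCoverDense.restrictHomEquivHom (G := Scheme.AffineZariskiSite.toOpensFunctor Y)
    (K := Opens.grothendieckTopology Y) (ℱ := 𝒮.presheaf) (ℱ' := T)
  let eS := Functor.IsCoverDense.restrictHomEquivHom (G := Scheme.AffineZariskiSite.toOpensFunctor Y)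
    (K := Opens.grothendieckTopology Y) (ℱ := Y.presheaf) (ℱ' := T)
  let g : 𝒮.presheaf ⟶ T.presheaf := e η
  have hg : (Scheme.AffineZariskiSite.toOpensFunctor Y).op.whiskerLeft g = η := e.symm_apply_apply _
  have hgU : ∀ U hU x, g.app (op U) x = f U hU x := fun U hU x =>
    ConcreteCategory.congr_hom (NatTrans.congr_app hg (op ⟨U, hU⟩)) x
  refine ⟨g, ?_, fun U hU m => (hgU U hU _).trans (hf₁ U hU m)⟩
  refine eS.symm.injective (NatTrans.ext (funext fun U => CommRingCat.hom_ext (RingHom.ext fun r => ?_)))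
  exact (hgU U.unop.1 U.unop.2 _).trans (hf₀ U.unop.1 U.unop.2 r)

include hE hj hj' in
/-- The graded comparison of symmetric algebras, with its pushout squares. -/
theorem exists_qGrHom : ∃ u : RelProj.QGrHom ψ 𝒮 𝒮', RelSpec.IsQBaseChange u.toQHom := by
  obtain ⟨g, hgs, hg⟩ := exists_hom ψ hE hj (j' := j')
  have hE' : Coh.IsQCoh ((Scheme.Modules.pullback ψ).obj E) := H29Fitt.isQCoh_pullback ψ E hE
  let q : RelSpec.QHom ψ 𝒮.toQCAlg 𝒮'.toQCAlg :=
    { app := fun U => g.app (op U)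
      naturality := fun i => (g.naturality (homOfLE i).op).symm
      str_app := fun U => NatTrans.congr_app hgs (op U) }
  have hq₀ : ∀ (U : Y.Opens) (U' : Y'.Opens) (hle : U' ≤ ψ ⁻¹ᵁ U) (r : Γ(Y, U)),
      q.appLE U U' hle (astr 𝒮.toQCAlg U r) = astr 𝒮'.toQCAlg U' (ψ.appLE U U' hle r) := fun U U' hle r =>
    ConcreteCategory.congr_hom (q.str_appLE U U' hle) r
  have hq₁ : ∀ (U : Y.Opens) (_ : IsAffineOpen U) (U' : Y'.Opens) (hle : U' ≤ ψ ⁻¹ᵁ U) (m : Γ(E, U)),
      q.appLE U U' hle (japp (B := 𝒮.toQCAlg) j U m) =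
        japp (B := 𝒮'.toQCAlg) j' U' (PullSections.pullLin ψ E hle m) := fun U hU U' hle m => by
    refine (congrArg (ares 𝒮'.toQCAlg hle) (hg U hU m)).trans ?_
    exact (japp_res _ _ _).symm
  refine ⟨⟨q, fun U hU U' hU' hle {d x} hx => ?_⟩, fun U hU U' hU' hle => ?_⟩
  · letI := algOn 𝒮.toQCAlg U
    rw [deg_eq_piece hE hj] at hx
    refine map_mem_of_one (hj.1.isAffSym hE U hU) (𝒮'.deg U' hU') (q.appLE U U' hle).hom (fun r => ?_)
      (fun m => ?_) hx
    · exact (hq₀ U U' hle r) ▸ 𝒮'.str_mem U' hU' _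
    · exact (hq₁ U hU U' hle m) ▸ hj'.2 U' hU' _
  · change IsPushout (ψ.appLE U U' hle) (𝒮.str.app (op U)) (𝒮'.str.app (op U')) (q.appLE U U' hle)
    letI := (ψ.appLE U U' hle).hom.toAlgebra
    letI := Module.compHom Γ((Scheme.Modules.pullback ψ).obj E, U') (ψ.appLE U U' hle).hom
    haveI : IsScalarTower Γ(Y, U) Γ(Y', U') Γ((Scheme.Modules.pullback ψ).obj E, U') :=
      .of_algebraMap_smul fun _ _ => rfl
    have hb : IsBaseChange Γ(Y', U') (PullSections.pullLin ψ E hle) := PullSections.isBaseChange_pullLin ψ E hle hE hU hU'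
    have hd : ∀ s : PushoutCocone (ψ.appLE U U' hle) (𝒮.str.app (op U)),
        ∃ d : 𝒮'.presheaf.obj (op U') ⟶ s.pt, 𝒮'.str.app (op U') ≫ d = s.inl ∧ q.appLE U U' hle ≫ d = s.inr ∧
          ∀ k : 𝒮'.presheaf.obj (op U') ⟶ s.pt,
            𝒮'.str.app (op U') ≫ k = s.inl → q.appLE U U' hle ≫ k = s.inr → k = d := fun s => by
      letI : Algebra Γ(Y', U') s.pt := s.inl.hom.toAlgebra
      letI : Algebra Γ(Y, U) s.pt := (s.inl.hom.comp (ψ.appLE U U' hle).hom).toAlgebra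
      haveI : IsScalarTower Γ(Y, U) Γ(Y', U') s.pt := IsScalarTower.of_algebraMap_eq fun _ => rfl
      have hc : ∀ r, s.inr (astr 𝒮.toQCAlg U r) = s.inl (ψ.appLE U U' hle r) := fun r =>
        (ConcreteCategory.congr_hom s.condition r).symm
      let l : Γ(E, U) →ₗ[Γ(Y, U)] s.pt :=
        { toFun := fun m => s.inr (japp (B := 𝒮.toQCAlg) j U m)
          map_add' := fun a b => by rw [japp_add, map_add]
          map_smul' := fun r m => by
            rw [japp_smul, map_mul, hc, RingHom.id_apply, Algebra.smul_def]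
            rfl }
      let f := hb.lift l
      obtain ⟨d, hd₀, hd₁⟩ := (hj'.1.isAffSym hE').exists_lift hU' s.inl.hom f.toAddMonoidHom fun r m =>
        (map_smul f r m).trans (Algebra.smul_def r _)
      have hsr : ∀ m, d (japp (B := 𝒮'.toQCAlg) j' U' (PullSections.pullLin ψ E hle m)) =
          s.inr (japp (B := 𝒮.toQCAlg) j U m) := fun m => (hd₁ _).trans (hb.lift_eq l m)
      refine ⟨CommRingCat.ofHom d, CommRingCat.hom_ext (RingHom.ext hd₀), CommRingCat.hom_ext ?_, fun k hl hr =>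
        CommRingCat.hom_ext ((hj'.1.isAffSym hE').ringHom_ext hU'
          (fun r => (ConcreteCategory.congr_hom hl r).trans (hd₀ r).symm) fun x => ?_)⟩
      · refine (hj.1.isAffSym hE).ringHom_ext hU (fun r => ?_) fun m => ?_
        · exact (congrArg d (hq₀ U U' hle r)).trans ((hd₀ _).trans (hc r).symm)
        · exact (congrArg d (hq₁ U hU U' hle m)).trans (hsr m)
      · refine hb.inductionOn x
          (motive := fun x => k (japp (B := 𝒮'.toQCAlg) j' U' x) = d (japp (B := 𝒮'.toQCAlg) j' U' x))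
          ?_ (fun m => ?_) (fun r x hx => ?_) fun x y hx hy => ?_
        · exact (congrArg k (map_zero (j'.app U').hom)).trans ((map_zero k.hom).trans
            ((congrArg d (map_zero (j'.app U').hom)).trans (map_zero d)).symm)
        · rw [hsr m, ← hq₁ U hU U' hle m]
          exact ConcreteCategory.congr_hom hr _
        · rw [japp_smul, map_mul, map_mul, hx]
          exact congrArg (· * _) ((ConcreteCategory.congr_hom hl r).trans (hd₀ r).symm)
        · rw [japp_add, map_add, map_add, hx, hy]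
    choose d hd₀ hd₁ hd₂ using hd
    exact IsPushout.of_isColimit' ⟨(q.str_appLE U U' hle).symm⟩
      (PushoutCocone.IsColimit.mk _ d hd₀ hd₁ hd₂)

include hE hj hj' in
/-- The projective bundle of an inverse image is the base change of the projective bundle. -/
theorem exists_isPullback {P P' : Scheme.{u}} (p : P ⟶ Y)
    (chart : ∀ (U : Y.Opens) (hU : IsAffineOpen U), ((p ⁻¹ᵁ U : P.Opens) : Scheme.{u}) ≅ Proj (𝒮.deg U hU))
    (hP : RelProj.IsRelProj 𝒮 p chart) (p' : P' ⟶ Y')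
    (chart' : ∀ (U' : Y'.Opens) (hU' : IsAffineOpen U'), ((p' ⁻¹ᵁ U' : P'.Opens) : Scheme.{u}) ≅ Proj (𝒮'.deg U' hU'))
    (hP' : RelProj.IsRelProj 𝒮' p' chart') : ∃ g : P' ⟶ P, IsPullback g p' p ψ := by
  obtain ⟨u, hu⟩ := exists_qGrHom ψ hE hj hj'
  obtain ⟨h, hh⟩ := H11QMap.exists_isProjQMap u chart chart' hP hP'
    (H11QMap.domQ_eq_top_of_isQBaseChange u chart' hu)
  exact ⟨h, H11QMap.isPullback_of_isQBaseChange u chart chart' hu hP hP' hh⟩

end Groth.Agent.H11Sym.SymBaseChange
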