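import Groth.Agent.H11Sym.SpansEpi
import Groth.Agent.H29Fitt.PullbackQCoh
import Mathlib.AlgebraicGeometry.Morphisms.Flat

/-!
# Relative very ampleness: composites and base change
-/

set_option autoImplicit false
set_option linter.style.haveILetI false

universe u

open CategoryTheory CategoryTheory.Limits AlgebraicGeometry TopologicalSpace Opposite
open Groth.Agent.H11Proj Groth.Agent.H11Tilde Groth.Agent.H11Ample

noncomputable section

namespace Groth.Agent.H11Sym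

theorem pushout_induction {A B C D : CommRingCat.{u}} {a : A ⟶ B} {b : A ⟶ C} {i : B ⟶ D} {j : C ⟶ D}
    (h : IsPushout a b i j) (S : Subring D) (hi : ∀ y, i y ∈ S) (hj : ∀ y, j y ∈ S) (z : D) : z ∈ S := by
  let i' : B ⟶ CommRingCat.of S := CommRingCat.ofHom (i.hom.codRestrict S hi)
  let j' : C ⟶ CommRingCat.of S := CommRingCat.ofHom (j.hom.codRestrict S hj)
  let d := h.desc i' j' (by
    refine CommRingCat.hom_ext (RingHom.ext fun y => Subtype.ext ?_)
    exact congr($(h.w) y))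
  have e : d ≫ CommRingCat.ofHom S.subtype = 𝟙 D := by
    refine h.hom_ext ?_ ?_
    · rw [IsPushout.inl_desc_assoc, Category.comp_id]
      rfl
    · rw [IsPushout.inr_desc_assoc, Category.comp_id]
      rfl
  exact (congrArg (· ∈ S) (ConcreteCategory.congr_hom e z)).mp (d z).2

/-- Fractions with denominators powers of a section. -/
def fracRing {X : Scheme.{u}} {V : X.Opens} (R : Subring Γ(X, V)) {t : Γ(X, V)} (ht : t ∈ R) :
    Subring Γ(X, X.basicOpen t) where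
  carrier := {z | ∃ (N : ℕ) (a : Γ(X, V)), a ∈ R ∧ z * resF (X.basicOpen_le t) t ^ N = resF (X.basicOpen_le t) a}
  one_mem' := ⟨0, 1, Subring.one_mem _, by rw [pow_zero, one_mul, map_one]⟩
  zero_mem' := ⟨0, 0, Subring.zero_mem _, by rw [zero_mul, map_zero]⟩
  neg_mem' := by
    rintro z ⟨N, a, ha, e⟩
    exact ⟨N, -a, Subring.neg_mem _ ha, by rw [neg_mul, map_neg, e]⟩
  mul_mem' := by
    rintro z w ⟨N, a, ha, e⟩ ⟨M, b, hb, e'⟩
    refine ⟨N + M, a * b, Subring.mul_mem _ ha hb, ?_⟩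
    rw [map_mul, ← e, ← e', pow_add]
    ring
  add_mem' := by
    rintro z w ⟨N, a, ha, e⟩ ⟨M, b, hb, e'⟩
    refine ⟨N + M, a * t ^ M + b * t ^ N,
      Subring.add_mem _ (Subring.mul_mem _ ha (Subring.pow_mem _ ht _))
        (Subring.mul_mem _ hb (Subring.pow_mem _ ht _)), ?_⟩
    rw [map_add, map_mul, map_mul, map_pow, map_pow, ← e, ← e', pow_add]
    ring

variable {X Y Z : Scheme.{u}}

/-- The module of sections of the intermediate inverse image. -/
theorem exists_adjoint (f : X ⟶ Y) (g : Y ⟶ Z) {L : X.Modules} {E : Z.Modules}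
    (u : E ⟶ (Scheme.Modules.pushforward g).obj ((Scheme.Modules.pushforward f).obj L)) :
    ∃ v : (Scheme.Modules.pullback g).obj E ⟶ (Scheme.Modules.pushforward f).obj L,
      ∀ (U : Z.Opens) (m : Γ(E, U)), v.app (g ⁻¹ᵁ U) (OmegaSh.pullSect g E U m) = u.app U m := by
  refine ⟨((Scheme.Modules.pullbackPushforwardAdjunction g).homEquiv E _).symm u, fun U m => ?_⟩
  have h := ((Scheme.Modules.pullbackPushforwardAdjunction g).homEquiv E
    ((Scheme.Modules.pushforward f).obj L)).apply_symm_apply u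
  rw [Adjunction.homEquiv_unit] at h
  exact congr($(congrArg (fun k => Scheme.Modules.Hom.app k U) h) m)

theorem resF_appLE_comp {f : X ⟶ Y} {g : Y ⟶ Z} {U : Z.Opens} {U' : Y.Opens} {V V' : X.Opens}
    (i₀ : U' ≤ g ⁻¹ᵁ U) (e : V ≤ (f ≫ g) ⁻¹ᵁ U) (e' : V' ≤ f ⁻¹ᵁ U') (i : V' ≤ V) (r : Γ(Z, U)) :
    resF i ((f ≫ g).appLE U V e r) = f.appLE U' V' e' (g.appLE U U' i₀ r) := by
  simp only [resF, ← ConcreteCategory.comp_apply, Scheme.Hom.appLE_map, Scheme.Hom.appLE_comp_appLE]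

theorem appLE_appLE_square {X' Y' : Scheme.{u}} {f : X ⟶ Y} {g : Y' ⟶ Y} {g' : X' ⟶ X} {f' : X' ⟶ Y'}
    (w : g' ≫ f = f' ≫ g) {U : Y.Opens} {U' : Y'.Opens} {V : X.Opens} {V' : X'.Opens}
    (i₀ : U' ≤ g ⁻¹ᵁ U) (e : V ≤ f ⁻¹ᵁ U) (e' : V' ≤ f' ⁻¹ᵁ U') (i : V' ≤ g' ⁻¹ᵁ V) (r : Γ(Y, U)) :
    g'.appLE V V' i (f.appLE U V e r) = f'.appLE U' V' e' (g.appLE U U' i₀ r) := by
  simp only [← ConcreteCategory.comp_apply, Scheme.Hom.appLE_comp_appLE, w]

theorem pullSect_smul_eq {X' : Scheme.{u}} (h : X' ⟶ X) (M : X.Modules) {W V : X.Opens} {V' : X'.Opens}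
    (le : V ≤ W) (i : V' ≤ h ⁻¹ᵁ V) {d : Γ(X, V)} {s t : Γ(M, W)} (hn : d • resS M le s = resS M le t) :
    h.appLE V V' i d • resS _ (i.trans (h.preimage_mono le)) (OmegaSh.pullSect h M W s) =
      resS _ (i.trans (h.preimage_mono le)) (OmegaSh.pullSect h M W t) := by
  have e := congrArg (fun z => resS _ i (OmegaSh.pullSect h M V z)) hn
  simp only [OmegaSh.pullSect_smul, resS_smul, resS, H11Tilde.pullSect_res, H10Coh.mres_mres] at e ⊢
  exact e

/-- Very ampleness relative to a composite implies very ampleness relative to the first morphism. -/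
theorem isRelVeryAmple_of_comp (f : X ⟶ Y) (g : Y ⟶ Z) {L : X.Modules}
    (hva : RelProj.IsRelVeryAmple (f ≫ g) L) : RelProj.IsRelVeryAmple f L := by
  obtain ⟨E, hE, u, hu⟩ := isRelVeryAmple_iff.1 hva
  obtain ⟨v, hv⟩ := exists_adjoint f g (E := E) (L := L) (u ≫ (Scheme.Modules.pushforwardComp f g).inv.app L)
  refine isRelVeryAmple_iff.2 ⟨_, H29Fitt.isQCoh_pullback g E hE, v, fun x => ?_⟩
  obtain ⟨a₀⟩ := hu x
  have hxU : f.base x ∈ g ⁻¹ᵁ a₀.U := (gMax u a₀.hU a₀.m).le (X.basicOpen_le a₀.t a₀.mem)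
  obtain ⟨U', hU', hxU', hle⟩ := exists_isAffineOpen_mem_and_subset hxU
  obtain ⟨a, hUa, hb⟩ := a₀.exists_refine (O := f ⁻¹ᵁ U') hxU'
  have i₀ : U' ≤ g ⁻¹ᵁ a.U := fun _ h => hUa ▸ hle h
  let m' : Γ((Scheme.Modules.pullback g).obj E, U') :=
    resS _ i₀ (OmegaSh.pullSect g E a.U a.m)
  have hw : ∀ n : Γ(E, a.U), uSec v (resS _ i₀ (OmegaSh.pullSect g E a.U n)) =
      resS L (f.preimage_mono i₀) (uSec u n) := fun n =>
    (uSec_res v i₀ _).trans (congrArg (resS L (f.preimage_mono i₀)) (hv a.U n))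
  have hV : (gMax v hU' m').V = genAt L (uSec u a.m) ⊓ f ⁻¹ᵁ U' := by
    show genAt L (uSec v m') = _
    rw [show uSec v m' = _ from hw a.m]
    exact genAt_res _ _
  let i : (gMax v hU' m').V ≤ (gMax u a.hU a.m).V := hV.trans_le inf_le_left
  have hle2 : X.basicOpen a.t ≤ (gMax v hU' m').V := by
    rw [hV]
    exact le_inf (X.basicOpen_le a.t) (hb.trans inf_le_left)
  refine a.nonempty_transfer (v := v) hU' m' i hle2 (fun r => ?_) fun c n hn => ?_
  · have k : resF i ((f ≫ g).appLE a.U _ (gMax u a.hU a.m).le r) =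
        f.appLE U' (gMax v hU' m').V (gMax v hU' m').le (g.appLE a.U U' i₀ r) := resF_appLE_comp i₀ _ _ i r
    exact (congrArg (· ∈ (gMax v hU' m').ratioRing) k).mpr ((gMax v hU' m').base_mem_ratioRing _)
  · refine (gMax v hU' m').mem_ratioRing (resS _ i₀ (OmegaSh.pullSect g E a.U n)) ?_
    have e := congrArg (resS L i) hn
    rw [resS_smul, resS_resS, resS_resS] at e
    refine Eq.trans ?_ (e.trans ?_)
    · exact congrArg (resF i c • ·) ((congrArg (resS L _) (hw a.m)).trans (resS_resS L _ _ _))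
    · exact ((congrArg (resS L _) (hw n)).trans (resS_resS L _ _ _)).symm

/-- Very ampleness is stable under base change. -/
theorem isRelVeryAmple_baseChange {X' Y' : Scheme.{u}} {f : X ⟶ Y} {g : Y' ⟶ Y} {g' : X' ⟶ X} {f' : X' ⟶ Y'}
    (hsq : IsPullback g' f' f g) {L : X.Modules} (hL : PicF.IsInvertible L) (hva : RelProj.IsRelVeryAmple f L) :
    RelProj.IsRelVeryAmple f' ((Scheme.Modules.pullback g').obj L) := by
  obtain ⟨E, hE, u, hu⟩ := isRelVeryAmple_iff.1 hva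
  obtain ⟨v, hv⟩ := exists_adjoint f' g (E := E) (L := (Scheme.Modules.pullback g').obj L)
    (u ≫ (Scheme.Modules.pushforward f).map ((Scheme.Modules.pullbackPushforwardAdjunction g').unit.app L) ≫
      (Scheme.Modules.pushforwardComp g' f).hom.app _ ≫ (Scheme.Modules.pushforwardCongr hsq.w).hom.app _ ≫
      (Scheme.Modules.pushforwardComp f' g).inv.app _)
  refine isRelVeryAmple_iff.2 ⟨_, H29Fitt.isQCoh_pullback g E hE, v, fun x => ?_⟩
  obtain ⟨a⟩ := hu (g'.base x)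
  have hxU : f'.base x ∈ g ⁻¹ᵁ a.U := by
    have h : g'.base x ∈ f ⁻¹ᵁ a.U := (gMax u a.hU a.m).le (X.basicOpen_le a.t a.mem)
    exact (congrArg (fun k => k ⁻¹ᵁ a.U) hsq.w).le h
  obtain ⟨U', hU', hxU', hle⟩ := exists_isAffineOpen_mem_and_subset hxU
  have i₀ : U' ≤ g ⁻¹ᵁ a.U := fun _ h => hle h
  let L' := (Scheme.Modules.pullback g').obj L
  have j₀ : f' ⁻¹ᵁ U' ≤ g' ⁻¹ᵁ f ⁻¹ᵁ a.U :=
    (f'.preimage_mono i₀).trans (congrArg (fun k => k ⁻¹ᵁ a.U) hsq.w).ge
  let m' : Γ((Scheme.Modules.pullback g).obj E, U') := resS _ i₀ (OmegaSh.pullSect g E a.U a.m)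
  have hw : ∀ n : Γ(E, a.U), uSec v (resS _ i₀ (OmegaSh.pullSect g E a.U n)) =
      resS L' j₀ (OmegaSh.pullSect g' L _ (uSec u n)) := fun n => by
    refine (uSec_res v i₀ _).trans ((congrArg (resS L' (f'.preimage_mono i₀)) (hv a.U n)).trans ?_)
    exact H10Coh.mres_mres _ _ _ _
  have hV : (gMax v hU' m').V = g' ⁻¹ᵁ genAt L (uSec u a.m) ⊓ f' ⁻¹ᵁ U' := by
    show genAt L' (uSec v m') = _
    rw [show uSec v m' = _ from hw a.m, genAt_res, genAt_pullSect hL]
  let iV : (gMax v hU' m').V ≤ g' ⁻¹ᵁ (gMax u a.hU a.m).V := hV.trans_le inf_le_left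
  let φ : Γ(X, (gMax u a.hU a.m).V) →+* Γ(X', (gMax v hU' m').V) := (g'.appLE _ _ iV).hom
  have hφ : ∀ c ∈ (gMax u a.hU a.m).ratioRing, φ c ∈ (gMax v hU' m').ratioRing := fun c hc =>
    (Subring.closure_le (t := (gMax v hU' m').ratioRing.comap φ)).2 (by
      rintro d (⟨r, rfl⟩ | ⟨n, hn⟩)
      · have k : φ (f.appLE a.U _ (gMax u a.hU a.m).le r) =
            f'.appLE U' (gMax v hU' m').V (gMax v hU' m').le (g.appLE a.U U' i₀ r) :=
          appLE_appLE_square hsq.w i₀ _ _ iV r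
        exact Subring.mem_comap.2 ((congrArg (· ∈ (gMax v hU' m').ratioRing) k).mpr
          ((gMax v hU' m').base_mem_ratioRing _))
      · refine (gMax v hU' m').mem_ratioRing (resS _ i₀ (OmegaSh.pullSect g E a.U n)) ?_
        have e := pullSect_smul_eq g' L (gMax u a.hU a.m).le iV hn
        refine Eq.trans ?_ (e.trans ?_)
        · exact congrArg (φ d • ·) ((congrArg (resS L' (gMax v hU' m').le) (hw a.m)).trans (resS_resS L' _ _ _))
        · exact ((congrArg (resS L' (gMax v hU' m').le) (hw n)).trans (resS_resS L' _ _ _)).symm) hc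
  have hbas : X'.basicOpen (φ a.t) = g' ⁻¹ᵁ X.basicOpen a.t ⊓ f' ⁻¹ᵁ U' := by
    show X'.basicOpen (g'.appLE _ _ iV a.t) = _
    have h0 : g' ⁻¹ᵁ X.basicOpen a.t ⊓ g' ⁻¹ᵁ genAt L (uSec u a.m) = g' ⁻¹ᵁ X.basicOpen a.t :=
      inf_eq_left.2 (g'.preimage_mono (X.basicOpen_le a.t))
    rw [Scheme.basicOpen_appLE, hV, inf_comm (g' ⁻¹ᵁ genAt L (uSec u a.m) ⊓ _), ← inf_assoc, h0]
  have hUX : X.basicOpen a.t ≤ f ⁻¹ᵁ a.U := (X.basicOpen_le _).trans (gMax u a.hU a.m).le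
  haveI := isIso_pushoutSection_of_isAffineOpen hsq i₀ hUX hbas a.hU hU' a.aff
  have hpo := (isIso_pushoutSection_iff hsq i₀ hUX hbas).1 inferInstance
  have haff : IsAffineOpen (X'.basicOpen (φ a.t)) := by
    haveI : IsAffine a.U := a.hU
    haveI : IsAffine U' := hU'
    haveI : IsAffine (X.basicOpen a.t) := a.aff
    exact .of_isIso (Scheme.Hom.isPullback_resLE hsq i₀ hUX hbas).isoPullback.hom
  refine ⟨⟨U', hU', m', φ a.t, hφ _ a.ht, hbas.ge ⟨a.mem, hxU'⟩, haff, fun z => ?_⟩⟩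
  refine pushout_induction hpo (fracRing _ (hφ _ a.ht)) (fun y => ?_) (fun y => ?_) z
  · obtain ⟨N, α, hα, e⟩ := a.surj y
    refine ⟨N, φ α, hφ _ hα, ?_⟩
    have e' := congrArg (g'.appLE (X.basicOpen a.t) (X'.basicOpen (φ a.t)) (by rw [hbas]; exact inf_le_left)) e
    rw [map_mul, map_pow] at e'
    have k : ∀ c, resF (X'.basicOpen_le (φ a.t)) (φ c) = g'.appLE (X.basicOpen a.t) (X'.basicOpen (φ a.t))
        (by rw [hbas]; exact inf_le_left) (resF (X.basicOpen_le a.t) c) := fun c => by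
      simp only [φ, resF, ← ConcreteCategory.comp_apply, Scheme.Hom.appLE_map, Scheme.Hom.map_appLE]
    rw [k, k]
    exact e'
  · refine ⟨0, _, (gMax v hU' m').base_mem_ratioRing y, ?_⟩
    rw [pow_zero, mul_one]
    exact (ConcreteCategory.congr_hom (Scheme.Hom.appLE_map ..) y).symm

end Groth.Agent.H11Sym
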